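import Cfsg.Agent.Lib.SingerOver.ZSub

/-!
A function of three variables of degree at most `b` in each, invariant under a family of maps indexed
linearly by the points, vanishes when `3 b` is less than the dimension; so the subspace of a pair has
codimension at least a third of the dimension.
-/

set_option autoImplicit false
set_option linter.style.haveILetI false
set_option linter.unusedSectionVars false

namespace Cfsg.Agent.SingerOver

section Deg

variable {E : Type*} [AddCommGroup E]

/-- Degree at most `k`: all iterated differences of order `k + 1` vanish. -/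
def Deg : ℕ → (E → ZMod 2) → Prop
  | 0, f => ∀ x y, f x = f y
  | k + 1, f => ∀ a, Deg k fun x => f (x + a) + f x

theorem Deg.add : ∀ {k : ℕ} {f g : E → ZMod 2}, Deg k f → Deg k g → Deg k fun x => f x + g x
  | 0, f, g, hf, hg => fun x y => by
      show f x + g x = f y + g y
      rw [hf x y, hg x y]
  | k + 1, f, g, hf, hg => fun a => by
      have h := Deg.add (hf a) (hg a)
      convert h using 1
      funext x
      ring

theorem Deg.const : ∀ (k : ℕ) (c : ZMod 2), Deg k (fun _ : E => c)
  | 0, _ => fun _ _ => rfl
  | k + 1, c => fun _ => Deg.const k (c + c)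

theorem Deg.shift : ∀ {k : ℕ} {f : E → ZMod 2}, Deg k f → ∀ a, Deg k fun x => f (x + a)
  | 0, _, hf, a => fun x y => hf _ _
  | k + 1, f, hf, a => fun b => by
      have h := Deg.shift (hf b) a
      convert h using 1
      funext x
      rw [add_right_comm]

theorem Deg.mono : ∀ {k l : ℕ} {f : E → ZMod 2}, k ≤ l → Deg k f → Deg l f
  | 0, 0, _, _, h => h
  | 0, l + 1, f, _, h => fun a => by
      have e : (fun x => f (x + a) + f x) = fun _ => (0 : ZMod 2) := by
        funext x
        rw [h (x + a) x, CharTwo.add_self_eq_zero]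
      rw [e]
      exact Deg.const l 0
  | k + 1, 0, _, hkl, _ => absurd hkl (by omega)
  | k + 1, l + 1, _, hkl, h => fun a => Deg.mono (by omega) (h a)

/-- A function of degree `k` sums to zero over the image of a space of dimension above `k`. -/
theorem Deg.sum_eq_zero : ∀ {k m : ℕ} {f : E → ZMod 2} (ψ : (Fin m → ZMod 2) →+ E),
    Deg k f → k < m → ∑ x, f (ψ x) = 0
  | k, 0, _, _, _, h => absurd h (by omega)
  | k, m + 1, f, ψ, hf, hkm => by
      let e : ZMod 2 × (Fin m → ZMod 2) ≃ (Fin (m + 1) → ZMod 2) := Fin.consEquiv fun _ => ZMod 2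
      let ψ' : (Fin m → ZMod 2) →+ E :=
        AddMonoidHom.mk' (fun x => ψ (Fin.cons 0 x)) fun x y => by
          rw [← map_add]
          congr 1
          funext i
          refine Fin.cases ?_ ?_ i <;> simp
      let a : E := ψ (Fin.cons 1 0)
      have hsum : ∑ x, f (ψ x) = ∑ x, (f (ψ' x + a) + f (ψ' x)) := by
        rw [← e.sum_comp, Fintype.sum_prod_type]
        have hu : (Finset.univ : Finset (ZMod 2)) = {0, 1} := by decide
        rw [hu, Finset.sum_pair (by decide), ← Finset.sum_add_distrib]
        refine Finset.sum_congr rfl fun x _ => ?_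
        rw [add_comm]
        congr 2
        show ψ (Fin.cons 1 x) = ψ (Fin.cons 0 x) + ψ (Fin.cons 1 0)
        rw [← map_add]
        congr 1
        funext i
        refine Fin.cases ?_ ?_ i <;> simp
      rw [hsum]
      match k, hf, hkm with
      | 0, hf, _ =>
          refine Finset.sum_eq_zero fun x _ => ?_
          rw [hf (ψ' x + a) (ψ' x), CharTwo.add_self_eq_zero]
      | k' + 1, hf, hkm => exact Deg.sum_eq_zero ψ' (hf a) (by omega)

/-- Separately of degree `b₁, b₂, b₃` implies jointly of degree `b₁ + b₂ + b₃`. -/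
theorem Deg.triple : ∀ (N b₁ b₂ b₃ : ℕ) (f : E → E → E → ZMod 2), b₁ + b₂ + b₃ ≤ N →
    (∀ y z, Deg b₁ fun x => f x y z) → (∀ x z, Deg b₂ fun y => f x y z) →
    (∀ x y, Deg b₃ fun z => f x y z) → Deg N fun t : E × E × E => f t.1 t.2.1 t.2.2
  | 0, b₁, b₂, b₃, f, hN, h1, h2, h3 => by
      obtain ⟨rfl, rfl, rfl⟩ : b₁ = 0 ∧ b₂ = 0 ∧ b₃ = 0 := by omega
      rintro ⟨x, y, z⟩ ⟨x', y', z'⟩
      exact ((h1 y z) x x').trans (((h2 x' z) y y').trans ((h3 x' y') z z'))
  | N + 1, b₁, b₂, b₃, f, hN, h1, h2, h3 => by
      rintro ⟨a₁, a₂, a₃⟩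
      have d1 : Deg N fun t : E × E × E =>
          f (t.1 + a₁) (t.2.1 + a₂) (t.2.2 + a₃) + f t.1 (t.2.1 + a₂) (t.2.2 + a₃) := by
        match b₁, hN, h1 with
        | 0, _, h1 =>
            have e : (fun t : E × E × E => f (t.1 + a₁) (t.2.1 + a₂) (t.2.2 + a₃) +
                f t.1 (t.2.1 + a₂) (t.2.2 + a₃)) = fun _ => (0 : ZMod 2) := by
              funext t
              show _ + _ = _
              have he := h1 (t.2.1 + a₂) (t.2.2 + a₃) (t.1 + a₁) t.1
              dsimp only at he
              rw [he, CharTwo.add_self_eq_zero]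
            rw [e]
            exact Deg.const N 0
        | b + 1, hN, h1 =>
            exact Deg.triple N b b₂ b₃
              (fun x y z => f (x + a₁) (y + a₂) (z + a₃) + f x (y + a₂) (z + a₃)) (by omega)
              (fun y z => h1 (y + a₂) (z + a₃) a₁)
              (fun x z => ((h2 (x + a₁) (z + a₃)).shift a₂).add ((h2 x (z + a₃)).shift a₂))
              (fun x y => ((h3 (x + a₁) (y + a₂)).shift a₃).add ((h3 x (y + a₂)).shift a₃))
      have d2 : Deg N fun t : E × E × E =>
          f t.1 (t.2.1 + a₂) (t.2.2 + a₃) + f t.1 t.2.1 (t.2.2 + a₃) := by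
        match b₂, hN, h2 with
        | 0, _, h2 =>
            have e : (fun t : E × E × E => f t.1 (t.2.1 + a₂) (t.2.2 + a₃) +
                f t.1 t.2.1 (t.2.2 + a₃)) = fun _ => (0 : ZMod 2) := by
              funext t
              show _ + _ = _
              have he := h2 t.1 (t.2.2 + a₃) (t.2.1 + a₂) t.2.1
              dsimp only at he
              rw [he, CharTwo.add_self_eq_zero]
            rw [e]
            exact Deg.const N 0
        | b + 1, hN, h2 =>
            exact Deg.triple N b₁ b b₃
              (fun x y z => f x (y + a₂) (z + a₃) + f x y (z + a₃)) (by omega)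
              (fun y z => (h1 (y + a₂) (z + a₃)).add (h1 y (z + a₃)))
              (fun x z => h2 x (z + a₃) a₂)
              (fun x y => ((h3 x (y + a₂)).shift a₃).add ((h3 x y).shift a₃))
      have d3 : Deg N fun t : E × E × E => f t.1 t.2.1 (t.2.2 + a₃) + f t.1 t.2.1 t.2.2 := by
        match b₃, hN, h3 with
        | 0, _, h3 =>
            have e : (fun t : E × E × E => f t.1 t.2.1 (t.2.2 + a₃) + f t.1 t.2.1 t.2.2) =
                fun _ => (0 : ZMod 2) := by
              funext t
              show _ + _ = _
              have he := h3 t.1 t.2.1 (t.2.2 + a₃) t.2.2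
              dsimp only at he
              rw [he, CharTwo.add_self_eq_zero]
            rw [e]
            exact Deg.const N 0
        | b + 1, hN, h3 =>
            exact Deg.triple N b₁ b₂ b
              (fun x y z => f x y (z + a₃) + f x y z) (by omega)
              (fun y z => (h1 y (z + a₃)).add (h1 y z))
              (fun x z => (h2 x (z + a₃)).add (h2 x z))
              (fun x y => h3 x y a₃)
      have h := (d1.add d2).add d3
      convert h using 1
      funext t
      show f (t.1 + a₁) (t.2.1 + a₂) (t.2.2 + a₃) + f t.1 t.2.1 t.2.2 = _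
      generalize f (t.1 + a₁) (t.2.1 + a₂) (t.2.2 + a₃) = A
      generalize f t.1 (t.2.1 + a₂) (t.2.2 + a₃) = B
      generalize f t.1 t.2.1 (t.2.2 + a₃) = D
      generalize f t.1 t.2.1 t.2.2 = X
      revert A B D X
      decide

variable [Module (ZMod 2) E] [Finite E]

open Classical in
/-- Membership in a subspace of codimension at most `k` has degree at most `k`. -/
theorem Deg.indicator : ∀ {k : ℕ} (Z : Submodule (ZMod 2) E),
    Module.finrank (ZMod 2) E ≤ Module.finrank (ZMod 2) Z + k →
    Deg k fun x => if x ∈ Z then (1 : ZMod 2) else 0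
  | 0, Z, hZ => by
      haveI : Module.Finite (ZMod 2) E := Module.Finite.of_finite
      have e : Z = ⊤ := Submodule.eq_top_of_finrank_eq (le_antisymm (Submodule.finrank_le Z) (by omega))
      subst e
      exact fun x y => by simp
  | k + 1, Z, hZ => fun a => by
      haveI : Module.Finite (ZMod 2) E := Module.Finite.of_finite
      by_cases ha : a ∈ Z
      · have e : (fun x => (if x + a ∈ Z then (1 : ZMod 2) else 0) + if x ∈ Z then 1 else 0) =
            fun _ => (0 : ZMod 2) := by
          funext x
          rw [if_congr (add_mem_cancel_right ha) rfl rfl, CharTwo.add_self_eq_zero]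
        rw [e]
        exact Deg.const k 0
      · let Z' := Z ⊔ Submodule.span (ZMod 2) {a}
        have hlt : Z < Z' := lt_of_le_of_ne le_sup_left fun e => ha (e ▸
          Submodule.mem_sup_right (Submodule.mem_span_singleton_self a))
        have h := Deg.indicator (k := k) Z' (by have := Submodule.finrank_lt_finrank_of_lt hlt; omega)
        convert h using 1
        funext x
        have hmem : x ∈ Z' ↔ x ∈ Z ∨ x + a ∈ Z := by
          simp only [Z', Submodule.mem_sup, Submodule.mem_span_singleton]
          constructor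
          · rintro ⟨y, hy, _, ⟨t, rfl⟩, rfl⟩
            rcases z2_cases t with rfl | rfl
            · left; simpa using hy
            · right; simpa [add_assoc, ZModModule.add_self] using hy
          · rintro (hx | hx)
            · exact ⟨x, hx, 0, ⟨0, by simp⟩, by simp⟩
            · exact ⟨x + a, hx, a, ⟨1, by simp⟩, by simp [add_assoc, ZModModule.add_self]⟩
        dsimp only
        by_cases h1 : x ∈ Z
        · have h2 : x + a ∉ Z := fun h => ha ((add_mem_cancel_left h1).1 h)
          rw [if_neg h2, if_pos h1, if_pos (hmem.2 (.inl h1)), zero_add]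
        · by_cases h2 : x + a ∈ Z
          · rw [if_pos h2, if_neg h1, if_pos (hmem.2 (.inr h2)), add_zero]
          · rw [if_neg h2, if_neg h1, if_neg (fun h => (hmem.1 h).elim h1 h2), add_zero]

end Deg

variable {G : Type*} [Group G] [Finite G] {V : Type*} [AddCommGroup V] [Module (ZMod 2) V] [Finite V]
  {ρ : G →* (V ≃ₗ[ZMod 2] V)} {n : ℕ}

/-- A linear section of the group: a family of maps, linear in the index, from the group off zero. -/
theorem Ctx3.degree_bound (C : Ctx3 ρ n) (ι : V →ₗ[ZMod 2] Module.End (ZMod 2) V)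
    (hι : ∀ t, t ≠ 0 → ∃ g, ∀ x, ι t x = ρ g x) {c d : V} (hcd : Indep c d) :
    n ≤ 3 * (n - Module.finrank (ZMod 2) (Zs ρ c d)) := by
  classical
  haveI : Module.Finite (ZMod 2) V := Module.Finite.of_finite
  letI := Fintype.ofFinite V
  by_contra hlt
  let b := n - Module.finrank (ZMod 2) (Zs ρ c d)
  let φ : V → V → V → ZMod 2 := fun x y u => 1 + if u ∈ Zs ρ x y then 1 else 0
  have h3 : ∀ x y, Deg b fun u => φ x y u := by
    intro x y
    refine (Deg.const b 1).add (Deg.indicator _ ?_)
    rw [C.rank]
    by_cases h : Indep x y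
    · rw [C.finrank_eq h hcd]; omega
    · rw [Zs_of_not_indep h, finrank_top, C.rank]; omega
  have hsym1 : ∀ x y u, φ x y u = φ u y x := by
    intro x y u
    have : u ∈ Zs ρ x y ↔ x ∈ Zs ρ u y := ⟨C.symm_left, C.symm_left⟩
    simp only [φ, if_congr this rfl rfl]
  have hsym2 : ∀ x y u, φ x y u = φ x u y := by
    intro x y u
    have : u ∈ Zs ρ x y ↔ y ∈ Zs ρ x u := ⟨C.symm_right, C.symm_right⟩
    simp only [φ, if_congr this rfl rfl]
  have h1 : ∀ y z, Deg b fun x => φ x y z := fun y z => by
    convert h3 z y using 1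
    funext x
    exact hsym1 x y z
  have h2 : ∀ x z, Deg b fun y => φ x y z := fun x z => by
    convert h3 x z using 1
    funext y
    exact hsym2 x y z
  have hdeg := Deg.triple (3 * b) b b b φ (by omega) h1 h2 h3
  have key : ∀ x y u, φ x y u = 0 := by
    intro x y u
    let bV := Module.finBasisOfFinrankEq (ZMod 2) V C.rank
    let ψ : (Fin n → ZMod 2) →+ V × V × V :=
      AddMonoidHom.mk' (fun t => (ι (bV.equivFun.symm t) x, ι (bV.equivFun.symm t) y,
        ι (bV.equivFun.symm t) u)) fun s t => by simp [map_add]
    have h0 := Deg.sum_eq_zero ψ hdeg (by omega)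
    have hval : ∀ t : V, φ (ι t x) (ι t y) (ι t u) = if t = 0 then 0 else φ x y u := by
      intro t
      by_cases ht : t = 0
      · subst ht
        simp only [map_zero, LinearMap.zero_apply, φ, zero_mem, ↓reduceIte]
        decide
      · obtain ⟨g, hg⟩ := hι t ht
        rw [if_neg ht]
        simp only [φ, hg, if_congr (C.mem_map_iff g) rfl rfl]
    have h4 : ∑ t : V, φ (ι t x) (ι t y) (ι t u) = 0 := by
      rw [← bV.equivFun.symm.toEquiv.sum_comp]
      exact h0
    simp only [hval] at h4
    rw [← Finset.add_sum_erase _ _ (Finset.mem_univ (0 : V)), if_pos rfl, zero_add,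
      Finset.sum_congr rfl (fun t ht => if_neg (Finset.ne_of_mem_erase ht)), Finset.sum_const,
      Finset.card_erase_of_mem (Finset.mem_univ _), Finset.card_univ, ← Nat.card_eq_fintype_card,
      Module.natCard_eq_pow_finrank (K := ZMod 2) (V := V), C.rank, Nat.card_zmod, nsmul_eq_mul] at h4
    have hodd : ((2 ^ n - 1 : ℕ) : ZMod 2) = 1 := by
      rw [ZMod.natCast_eq_one_iff_odd]
      exact Nat.Even.sub_odd Nat.one_le_two_pow (Nat.even_pow.2 ⟨even_two, by have := C.three; omega⟩)
        odd_one
    rwa [hodd, one_mul] at h4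
  obtain ⟨-, hne, -⟩ := C.isZ hcd
  refine hne (eq_top_iff.2 fun u _ => ?_)
  by_contra hu
  have := key c d u
  simp [φ, hu] at this

end Cfsg.Agent.SingerOver
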