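import Cfsg.Agent.Lib.SingerOver.Split

/-!
An element of prime order `2 ^ n - 1` in dimension `n`: regular on non-zero vectors, spanning a field of
endomorphisms, self-centralising, with normaliser of index dividing `n` over it.
-/

set_option autoImplicit false
set_option linter.style.haveILetI false
set_option linter.unusedSectionVars false

namespace Cfsg.Agent.SingerOver

open Polynomial

variable {G : Type*} [Group G] [Finite G] {V : Type*} [AddCommGroup V] [Module (ZMod 2) V] [Finite V]
  {ρ : G →* (V ≃ₗ[ZMod 2] V)} {n : ℕ}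

theorem singer_free (hinj : Function.Injective ρ) (hV : Module.finrank (ZMod 2) V = n)
    (hp : (2 ^ n - 1).Prime) {x : G} (hx : orderOf x = 2 ^ n - 1) {v : V} (hv : ρ x v = v) : v = 0 := by
  classical
  haveI : Module.Finite (ZMod 2) V := Module.Finite.of_finite
  haveI : Fact (2 ^ n - 1).Prime := ⟨hp⟩
  by_contra hv0
  let B := Subgroup.zpowers x
  have hB : IsPGroup (2 ^ n - 1) B := IsPGroup.of_card (n := 1) (by rw [Nat.card_zpowers, hx, pow_one])
  have hodd : Odd (Nat.card B) := by
    rw [Nat.card_zpowers, hx]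
    exact Nat.Even.sub_odd Nat.one_le_two_pow (Nat.even_pow.2 ⟨even_two, fun h => by
      subst h; exact absurd hp (by decide)⟩) odd_one
  have hW : B ≤ stabS ρ (movV ρ B) := fun g hg => mem_stabS_of_forall fun w hw =>
    movV_normalizer (Subgroup.le_normalizer hg) hw
  have hc := isCompl_fix_mov (ρ := ρ) hodd
  have hd := dvd_of_fpf hB hW (by rw [inf_comm]; exact hc.inf_eq_bot)
  have hsum := Submodule.finrank_add_eq_of_isCompl hc
  rw [hV] at hsum
  have hpos : 0 < Module.finrank (ZMod 2) (fixV ρ B) := by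
    refine Nat.pos_of_ne_zero fun h0 => hv0 ?_
    have h := Submodule.finrank_eq_zero.1 h0
    exact (Submodule.mem_bot _).1 (h ▸ (show v ∈ fixV ρ B from fun a ha => by
      obtain ⟨i, rfl⟩ := Subgroup.mem_zpowers_iff.1 ha
      exact zpow_mem (show x ∈ stabP (toP ρ) v from hv) i))
  rcases Nat.eq_zero_or_pos (Module.finrank (ZMod 2) (movV ρ B)) with h0 | h0
  · have hne : x ≠ 1 := fun h => hp.ne_one (by rw [← hx, h, orderOf_one])
    refine hne (hinj ?_)
    rw [map_one]
    refine LinearEquiv.ext fun w => ?_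
    have htop : fixV ρ B = ⊤ := by
      have h' := hc.sup_eq_top
      rwa [Submodule.finrank_eq_zero.1 h0, sup_bot_eq] at h'
    exact (htop.symm ▸ Submodule.mem_top : w ∈ fixV ρ B) x (Subgroup.mem_zpowers x)
  · have hlt : 2 ^ Module.finrank (ZMod 2) (movV ρ B) < 2 ^ n :=
      Nat.pow_lt_pow_right one_lt_two (by omega)
    have h2 : 2 ≤ 2 ^ Module.finrank (ZMod 2) (movV ρ B) := by
      calc 2 = 2 ^ 1 := rfl
        _ ≤ _ := Nat.pow_le_pow_right two_pos h0
    have := Nat.le_of_dvd (by omega) hd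
    omega

theorem singer_orbit (hinj : Function.Injective ρ) (hV : Module.finrank (ZMod 2) V = n)
    (hp : (2 ^ n - 1).Prime) {x : G} (hx : orderOf x = 2 ^ n - 1) {v w : V} (hv : v ≠ 0) (hw : w ≠ 0) :
    ∃ i : ℕ, ρ (x ^ i) v = w := by
  classical
  have hinjv : Function.Injective
      (fun i : Fin (2 ^ n - 1) => (⟨ρ (x ^ (i : ℕ)) v, (ρ _).map_ne_zero_iff.2 hv⟩ : {u : V // u ≠ 0})) := by
    intro i j h
    have h' : ρ (x ^ (i : ℕ)) v = ρ (x ^ (j : ℕ)) v := congrArg Subtype.val h
    wlog hle : (i : ℕ) ≤ j generalizing i j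
    · exact (this h.symm h'.symm (le_of_not_ge hle)).symm
    by_contra hne
    have hlt : (i : ℕ) < j := lt_of_le_of_ne hle fun e => hne (Fin.ext e)
    have hfix : ρ (x ^ ((j : ℕ) - i)) v = v := by
      apply (ρ (x ^ (i : ℕ))).injective
      rw [← LinearEquiv.mul_apply, ← map_mul, ← pow_add, Nat.add_sub_cancel' hle, h']
    have hmem : x ^ ((j : ℕ) - i) ∈ stabP (toP ρ) v := hfix
    have hord : orderOf (x ^ ((j : ℕ) - i)) = 2 ^ n - 1 := by
      rw [orderOf_pow, hx, (hp.coprime_iff_not_dvd.2 fun hd => ?_).gcd_eq_one, Nat.div_one]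
      have := Nat.le_of_dvd (by omega) hd
      omega
    exact hv (singer_free hinj hV hp hord hfix)
  have hcard : Nat.card {u : V // u ≠ 0} = Nat.card (Fin (2 ^ n - 1)) := by
    rw [Nat.card_fin, show {u : V // u ≠ 0} = ↥(({0} : Set V)ᶜ) from rfl, Nat.card_coe_set_eq,
      Set.ncard_compl, Set.ncard_singleton, Module.natCard_eq_pow_finrank (K := ZMod 2) (V := V), hV,
      Nat.card_zmod]
  obtain ⟨i, hi⟩ := ((Nat.bijective_iff_injective_and_card _).2 ⟨hinjv, hcard.symm⟩).2 ⟨w, hw⟩
  exact ⟨i, congrArg Subtype.val hi⟩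

/-- The operator of an element. -/
def opEnd (ρ : G →* (V ≃ₗ[ZMod 2] V)) : G →* Module.End (ZMod 2) V :=
  LinearEquiv.automorphismGroup.toLinearMapMonoidHom.comp ρ

@[simp] theorem opEnd_apply (g : G) (v : V) : opEnd ρ g v = ρ g v := rfl

/-- An endomorphism commuting with the element is zero or one of its powers. -/
theorem singer_commutant (hinj : Function.Injective ρ) (hV : Module.finrank (ZMod 2) V = n)
    (hp : (2 ^ n - 1).Prime) {x : G} (hx : orderOf x = 2 ^ n - 1) {v : V} (hv : v ≠ 0)
    {T : Module.End (ZMod 2) V} (hT : Commute T (opEnd ρ x)) :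
    (T v = 0 → T = 0) ∧ (T v ≠ 0 → ∃ i : ℕ, T = opEnd ρ (x ^ i)) := by
  have hsame : ∀ S : Module.End (ZMod 2) V, Commute S (opEnd ρ x) → S v = T v → S = T := by
    intro S hS h
    refine LinearMap.ext fun w => ?_
    by_cases hw : w = 0
    · rw [hw, map_zero, map_zero]
    obtain ⟨i, rfl⟩ := singer_orbit hinj hV hp hx hv hw
    have e1 := congrArg (fun F : Module.End (ZMod 2) V => F v) (hS.pow_right i).eq
    have e2 := congrArg (fun F : Module.End (ZMod 2) V => F v) (hT.pow_right i).eq
    simp only [Module.End.mul_apply, ← map_pow, opEnd_apply] at e1 e2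
    rw [e1, e2, h]
  constructor
  · intro h
    exact (hsame 0 (Commute.zero_left _) (by rw [h]; rfl)).symm
  · intro h
    obtain ⟨i, hi⟩ := singer_orbit hinj hV hp hx hv h
    refine ⟨i, (hsame (opEnd ρ (x ^ i)) ?_ hi).symm⟩
    rw [map_pow]
    exact (Commute.refl (opEnd ρ x)).pow_left i

/-- Maps from the group, indexed linearly by the vectors. -/
theorem singer_linear (hinj : Function.Injective ρ) (hV : Module.finrank (ZMod 2) V = n)
    (hp : (2 ^ n - 1).Prime) {x : G} (hx : orderOf x = 2 ^ n - 1) {v : V} (hv : v ≠ 0) :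
    ∃ ι : V →ₗ[ZMod 2] Module.End (ZMod 2) V, ∀ t, t ≠ 0 → ∃ g, ∀ w, ι t w = ρ g w := by
  let C : Submodule (ZMod 2) (Module.End (ZMod 2) V) :=
    { carrier := {T | Commute T (opEnd ρ x)}
      zero_mem' := Commute.zero_left _
      add_mem' := fun ha hb => ha.add_left hb
      smul_mem' := fun t T hT => hT.smul_left t }
  let ev : C →ₗ[ZMod 2] V := (LinearMap.applyₗ v).comp C.subtype
  have hev : Function.Bijective ev := by
    refine ⟨?_, fun w => ?_⟩
    · rw [← LinearMap.ker_eq_bot, eq_bot_iff]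
      rintro ⟨T, hT⟩ h
      rw [Submodule.mem_bot]
      exact Subtype.ext ((singer_commutant hinj hV hp hx hv hT).1 h)
    · by_cases hw : w = 0
      · exact ⟨0, by rw [map_zero, hw]⟩
      obtain ⟨i, hi⟩ := singer_orbit hinj hV hp hx hv hw
      exact ⟨⟨opEnd ρ (x ^ i), by
        show Commute _ _
        rw [map_pow]; exact (Commute.refl _).pow_left i⟩, hi⟩
  let eq := LinearEquiv.ofBijective ev hev
  refine ⟨C.subtype.comp (eq.symm : V →ₗ[ZMod 2] C), fun t ht => ?_⟩
  have hval : ((eq.symm t : C) : Module.End (ZMod 2) V) v = t := eq.apply_symm_apply t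
  obtain ⟨i, hi⟩ := (singer_commutant hinj hV hp hx hv (eq.symm t).2).2 (by rw [hval]; exact ht)
  exact ⟨x ^ i, fun w => by
    show ((eq.symm t : C) : Module.End (ZMod 2) V) w = _
    rw [hi]; rfl⟩

/-- The normaliser of the cyclic group generated by the element has order `p` or `n p`. -/
theorem singer_normalizer (hinj : Function.Injective ρ) (hV : Module.finrank (ZMod 2) V = n)
    (hn : n.Prime) (hp : (2 ^ n - 1).Prime) {x : G} (hx : orderOf x = 2 ^ n - 1) :
    Nat.card (Subgroup.normalizer (Subgroup.zpowers x : Set G)) = 2 ^ n - 1 ∨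
      Nat.card (Subgroup.normalizer (Subgroup.zpowers x : Set G)) = n * (2 ^ n - 1) := by
  classical
  haveI : Module.Finite (ZMod 2) V := Module.Finite.of_finite
  haveI : Fact (Nat.Prime 2) := ⟨Nat.prime_two⟩
  haveI : Fact n.Prime := ⟨hn⟩
  haveI : NeZero n := ⟨hn.ne_zero⟩
  haveI : Nontrivial V := Module.nontrivial_of_finrank_pos (R := ZMod 2) (by rw [hV]; exact hn.pos)
  obtain ⟨v, hv⟩ := exists_ne (0 : V)
  let B := Subgroup.zpowers x
  let N := Subgroup.normalizer (B : Set G)
  -- conjugation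
  let π : N →* Equiv.Perm G :=
    { toFun := fun g => (MulAut.conj (g : G)).toEquiv
      map_one' := by ext y; simp
      map_mul' := fun g h => by ext y; simp }
  have hπ : ∀ (g : N) (y : G), π g y = (g : G) * y * (g : G)⁻¹ := fun g y => rfl
  have hstab : stabP π x = B.subgroupOf N := by
    ext g
    rw [mem_stabP, Subgroup.mem_subgroupOf, hπ, mul_inv_eq_iff_eq_mul]
    constructor
    · intro h
      have hc : Commute (opEnd ρ (g : G)) (opEnd ρ x) := by
        show _ * _ = _ * _
        rw [← map_mul, ← map_mul, h]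
      obtain ⟨i, hi⟩ := (singer_commutant hinj hV hp hx hv hc).2 ((ρ (g : G)).map_ne_zero_iff.2 hv)
      have : (g : G) = x ^ i := hinj (LinearEquiv.ext fun w => LinearMap.congr_fun hi w)
      rw [this]
      exact pow_mem (Subgroup.mem_zpowers x) i
    · intro h
      obtain ⟨i, hi⟩ := Subgroup.mem_zpowers_iff.1 h
      rw [← hi]
      exact ((Commute.refl x).zpow_left i).eq
  have hN : Nat.card N = Nat.card {y // SameO π x y} * (2 ^ n - 1) := by
    rw [card_orbit_mul, hstab, mul_comm, ← hx, ← Nat.card_zpowers,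
      ← Nat.card_congr (Subgroup.subgroupOfEquivOfLe (Subgroup.le_normalizer (H := B))).toEquiv,
      Subgroup.card_mul_index]
  -- the conjugates are among the Frobenius images
  let X := opEnd ρ x
  let K := Algebra.adjoin (ZMod 2) {X}
  have hKc : ∀ T ∈ K, Commute T X := fun T hT =>
    Algebra.commute_of_mem_adjoin_singleton_of_commute hT (Commute.refl X) |>.symm
  letI : CommRing K := { (inferInstance : Ring K) with
    mul_comm := fun a b => Subtype.ext
      (Algebra.commute_of_mem_adjoin_singleton_of_commute b.2 (hKc a a.2)).eq }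
  haveI : IsDomain K := by
    haveI : Nontrivial K := ⟨⟨0, 1, fun h => hv (by
      have := congrArg (fun T : K => (T : Module.End (ZMod 2) V) v) h
      simpa using this.symm)⟩⟩
    haveI : NoZeroDivisors K := ⟨fun {a b} hab => by
      by_contra hcon
      rw [not_or] at hcon
      obtain ⟨ha, hb⟩ := hcon
      have ha' := singer_commutant hinj hV hp hx hv (hKc a a.2)
      have hb' := singer_commutant hinj hV hp hx hv (hKc b b.2)
      obtain ⟨i, hi⟩ := ha'.2 (fun h => ha (Subtype.ext (ha'.1 h)))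
      obtain ⟨j, hj⟩ := hb'.2 (fun h => hb (Subtype.ext (hb'.1 h)))
      have h1 : opEnd ρ (x ^ i * x ^ j) = 0 := by
        rw [map_mul, ← hi, ← hj]
        exact congrArg Subtype.val hab
      exact (ρ (x ^ i * x ^ j)).map_ne_zero_iff.2 hv (LinearMap.congr_fun h1 v)⟩
    exact NoZeroDivisors.to_isDomain K
  let P := LinearMap.charpoly X
  have hPX : aeval X P = 0 := LinearMap.aeval_self_charpoly X
  have hPdeg : P.natDegree = n := by rw [LinearMap.charpoly_natDegree, hV]
  have hP0 : P ≠ 0 := fun h => hn.ne_zero (by rw [← hPdeg, h, natDegree_zero])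
  have hfrob : ∀ j : ℕ, aeval (opEnd ρ (x ^ 2 ^ j)) P = 0 := by
    intro j
    induction j with
    | zero => rw [pow_zero, pow_one]; exact hPX
    | succ j ih =>
      rw [pow_succ, pow_mul, map_pow, ← expand_aeval, ZMod.expand_card, map_pow, ih, zero_pow two_ne_zero]
  have hperiod : ∀ j : ℕ, x ^ 2 ^ j = x ^ 2 ^ (j % n) := by
    intro j
    rw [pow_eq_pow_iff_modEq, hx]
    have h1 : 2 ^ n ≡ 1 [MOD 2 ^ n - 1] := by
      refine ((Nat.modEq_iff_dvd' Nat.one_le_two_pow).2 dvd_rfl).symm
    conv_lhs => rw [← Nat.div_add_mod j n, pow_add, pow_mul]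
    have := ((h1.pow (j / n)).mul_right (2 ^ (j % n)))
    rwa [one_pow, one_mul] at this
  have hinj2 : ∀ i j, i < n → j < n → x ^ 2 ^ i = x ^ 2 ^ j → i = j := by
    intro i j hi hj h
    have hlt : ∀ k, k < n → 2 ^ k < 2 ^ n - 1 := by
      intro k hk
      have h4 : 2 * 2 ^ k ≤ 2 ^ n := by
        rw [← pow_succ']; exact Nat.pow_le_pow_right two_pos hk
      have h2 : (4 : ℕ) ≤ 2 ^ n := by
        calc (4 : ℕ) = 2 ^ 2 := rfl
          _ ≤ _ := Nat.pow_le_pow_right two_pos hn.two_le
      omega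
    rw [pow_eq_pow_iff_modEq, hx] at h
    exact Nat.pow_right_injective (le_refl 2) (Nat.ModEq.eq_of_lt_of_lt h (hlt i hi) (hlt j hj))
  have hsub : ∀ g : N, ∃ j, π g x = x ^ 2 ^ j := by
    intro g
    have hmem : π g x ∈ B := (Subgroup.mem_normalizer_iff.1 g.2 x).1 (Subgroup.mem_zpowers x)
    obtain ⟨i, hi⟩ := (mem_powers_iff_mem_zpowers.2 hmem : π g x ∈ Submonoid.powers x)
    -- the root attached to the conjugate
    have hroot : aeval (opEnd ρ (π g x)) P = 0 := by
      let E : Module.End (ZMod 2) V →ₐ[ZMod 2] Module.End (ZMod 2) V :=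
        ((ρ (g : G)).conjAlgEquiv (ZMod 2)).toAlgHom
      have hE : opEnd ρ (π g x) = E X := by
        refine LinearMap.ext fun w => ?_
        show ρ ((g : G) * x * (g : G)⁻¹) w = ρ (g : G) (ρ x ((ρ (g : G)).symm w))
        simp
      rw [hE, aeval_algHom_apply, hPX, map_zero]
    have hXK : X ∈ K := Algebra.self_mem_adjoin_singleton _ _
    let toK : ℕ → K := fun k => ⟨opEnd ρ (x ^ k), by rw [map_pow]; exact pow_mem hXK k⟩
    have haev : ∀ k, aeval (opEnd ρ (x ^ k)) P = 0 → toK k ∈ P.aroots K := by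
      intro k hk
      rw [mem_aroots]
      refine ⟨hP0, Subtype.ext ?_⟩
      rw [← Subalgebra.coe_val, ← aeval_algHom_apply]
      exact hk
    by_contra hc
    push Not at hc
    let S : Finset K := insert (toK i) ((Finset.range n).image fun j => toK (2 ^ j))
    have hval : ∀ a b, toK a = toK b → x ^ a = x ^ b := fun a b h =>
      hinj (LinearEquiv.ext fun w => LinearMap.congr_fun (congrArg Subtype.val h) w)
    have hcardS : S.card = n + 1 := by
      rw [Finset.card_insert_of_notMem, Finset.card_image_of_injOn, Finset.card_range]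
      · intro a ha b hb h
        exact hinj2 a b (Finset.mem_range.1 ha) (Finset.mem_range.1 hb) (hval _ _ h)
      · rw [Finset.mem_image]
        rintro ⟨j, -, hj⟩
        exact hc j ((hval _ _ hj).trans hi).symm
    have hle : S.card ≤ n := by
      calc S.card ≤ (P.aroots K).toFinset.card := by
            refine Finset.card_le_card fun a ha => ?_
            rw [Multiset.mem_toFinset]
            rcases Finset.mem_insert.1 ha with rfl | ha
            · exact haev i (by rw [show x ^ i = π g x from hi]; exact hroot)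
            · obtain ⟨j, -, rfl⟩ := Finset.mem_image.1 ha
              exact haev _ (hfrob j)
        _ ≤ Multiset.card (P.aroots K) := Multiset.toFinset_card_le _
        _ ≤ _ := (card_roots' _).trans (natDegree_map_le.trans hPdeg.le)
    omega
  by_cases hall : ∀ g : N, π g x = x
  · left
    rw [hN]
    have : Nat.card {y // SameO π x y} = 1 := by
      rw [Nat.card_eq_one_iff_unique]
      exact ⟨⟨fun a b => Subtype.ext (by
        obtain ⟨g, hg⟩ := a.2; obtain ⟨g', hg'⟩ := b.2
        rw [← hg, ← hg', hall, hall])⟩, ⟨⟨x, (sameO_equiv π).refl x⟩⟩⟩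
    rw [this, one_mul]
  · right
    rw [hN]
    congr 1
    push Not at hall
    obtain ⟨g, hg⟩ := hall
    obtain ⟨j, hj⟩ := hsub g
    have hjn : (j : ZMod n) ≠ 0 := by
      intro h
      rw [ZMod.natCast_eq_zero_iff, Nat.dvd_iff_mod_eq_zero] at h
      exact hg (by rw [hj, hperiod, h, pow_zero, pow_one])
    have hpw : ∀ k : ℕ, π (g ^ k) x = x ^ 2 ^ (j * k) := by
      intro k
      induction k with
      | zero => simp
      | succ k ih =>
        have hmp : ∀ (h : N) (m : ℕ), π h (x ^ m) = (π h x) ^ m := fun h m =>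
          map_pow (MulAut.conj (h : G)) x m
        rw [pow_succ', map_mul, Equiv.Perm.mul_apply, ih, hmp, hj, ← pow_mul, ← pow_add,
          Nat.mul_succ, add_comm]
    let f : Fin n → {y // SameO π x y} := fun l =>
      ⟨x ^ 2 ^ (l : ℕ), g ^ ((((l : ℕ) : ZMod n) / (j : ZMod n)).val), by
        rw [hpw, hperiod]
        congr 2
        have h1 : ((j * ((((l : ℕ) : ZMod n) / (j : ZMod n)).val) : ℕ) : ZMod n) = ((l : ℕ) : ZMod n) := by
          rw [Nat.cast_mul, ZMod.natCast_zmod_val, mul_div_cancel₀ _ hjn]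
        rw [ZMod.natCast_eq_natCast_iff'] at h1
        rw [h1, Nat.mod_eq_of_lt l.2]⟩
    have hf : Function.Bijective f := by
      refine ⟨fun a b h => Fin.ext (hinj2 _ _ a.2 b.2 (congrArg Subtype.val h)), ?_⟩
      rintro ⟨y, h, rfl⟩
      obtain ⟨k, hk⟩ := hsub h
      exact ⟨⟨k % n, Nat.mod_lt _ hn.pos⟩, Subtype.ext ((hperiod k).symm.trans hk.symm)⟩
    rw [← Nat.card_eq_of_bijective f hf, Nat.card_fin]

end Cfsg.Agent.SingerOver
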