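import Cfsg.Agent.Lib.SingerOver.Transv
import Cfsg.Agent.Lib.SingerOver.Singer
import Cfsg.Agent.Lib.SingerOver.Degree
import Cfsg.Agent.Lib.LocalEven.Zsigmondy
import Cfsg.Agent.Lib.Perm.Burnside
import Mathlib.LinearAlgebra.Matrix.GeneralLinearGroup.Card

/-!
Transitive linear groups over the field with two elements in dimension `n` with `2 ^ n - 1` prime.
-/

set_option autoImplicit false
set_option linter.style.haveILetI false
set_option linter.unusedSectionVars false

namespace Cfsg.Agent.SingerOver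

open scoped commutatorElement

variable {G : Type*} [Group G] [Finite G] {V : Type*} [AddCommGroup V] [Module (ZMod 2) V] [Finite V]
  {ρ : G →* (V ≃ₗ[ZMod 2] V)} {n : ℕ}

theorem card_gl (hV : Module.finrank (ZMod 2) V = n) :
    Nat.card (V ≃ₗ[ZMod 2] V) = ∏ i : Fin n, (2 ^ n - 2 ^ (i : ℕ)) := by
  classical
  haveI : Module.Finite (ZMod 2) V := Module.Finite.of_finite
  haveI : Fact (Nat.Prime 2) := ⟨Nat.prime_two⟩
  let b := Module.finBasisOfFinrankEq (ZMod 2) V hV
  let e1 : (V ≃ₗ[ZMod 2] V) ≃ ((Fin n → ZMod 2) ≃ₗ[ZMod 2] (Fin n → ZMod 2)) :=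
    { toFun := fun g => b.equivFun.symm.trans (g.trans b.equivFun)
      invFun := fun g => b.equivFun.trans (g.trans b.equivFun.symm)
      left_inv := fun g => LinearEquiv.ext fun v => by
        simp only [LinearEquiv.trans_apply, LinearEquiv.symm_apply_apply]
      right_inv := fun g => LinearEquiv.ext fun v => by
        simp only [LinearEquiv.trans_apply, LinearEquiv.apply_symm_apply] }
  rw [Nat.card_congr (e1.trans ((LinearMap.GeneralLinearGroup.generalLinearEquiv _ _).symm.toEquiv.trans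
    (Units.mapEquiv (Matrix.toLinAlgEquiv' (R := ZMod 2) (n := Fin n)).toMulEquiv).symm.toEquiv))]
  rw [Matrix.card_GL_field]
  simp

theorem normalizer_eq_of_card {p : ℕ} [Fact p.Prime]
    (hnot : ¬ p ^ 2 ∣ Nat.card G) {x : G} (hx : orderOf x = p) :
    Nat.card (Subgroup.normalizer (Subgroup.zpowers x : Set G)) *
      Nat.card (Sylow p G) = Nat.card G ∧ Nat.card (Sylow p G) ≡ 1 [MOD p] := by
  have hd : p ∣ Nat.card G := hx ▸ orderOf_dvd_natCard x
  have hfac : (Nat.card G).factorization p = 1 := by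
    have h1 := ((Fact.out : p.Prime).dvd_iff_one_le_factorization Nat.card_pos.ne').1 hd
    have h2 : ¬ 2 ≤ (Nat.card G).factorization p := fun h =>
      hnot (((Fact.out : p.Prime).pow_dvd_iff_le_factorization Nat.card_pos.ne').2 h)
    omega
  let P : Sylow p G := Sylow.ofCard (Subgroup.zpowers x) (by rw [Nat.card_zpowers, hx, hfac, pow_one])
  refine ⟨?_, card_sylow_modEq_one p G⟩
  rw [P.card_eq_index_normalizer]
  exact Subgroup.card_mul_index _

theorem prime_five_le {n b z : ℕ} (hn : n.Prime) (hp : (2 ^ n - 1).Prime) (hb : b = 6) (hz : 2 ≤ z)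
    (hnbz : n = b + z) (hle : n ≤ 3 * b) : n = 13 ∨ n = 17 := by
  subst hb
  rcases (show n = 8 ∨ n = 9 ∨ n = 10 ∨ n = 11 ∨ n = 12 ∨ n = 13 ∨ n = 14 ∨ n = 15 ∨ n = 16 ∨ n = 17 ∨
    n = 18 by omega) with rfl | rfl | rfl | rfl | rfl | rfl | rfl | rfl | rfl | rfl | rfl <;>
    first
      | exact .inl rfl
      | exact .inr rfl
      | (revert hn; norm_num; done)
      | (revert hp; norm_num; done)

/-- The congruence has no solution. -/
theorem cong13 : ∀ a < 13, ∀ b < 9, ∀ c < 4, ∀ d < 5,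
    (2 ^ a * 3 ^ b * 5 ^ c * 7 ^ d + 1) % (2 ^ 13 - 1) ≠ 0 ∧
      (2 ^ a * 3 ^ b * 5 ^ c * 7 ^ d + 13) % (2 ^ 13 - 1) ≠ 0 := by decide +kernel

theorem cong17 : ∀ a < 17, ∀ b < 11, ∀ c < 5, ∀ d < 6,
    (2 ^ a * 3 ^ b * 5 ^ c * 7 ^ d + 1) % (2 ^ 17 - 1) ≠ 0 ∧
      (2 ^ a * 3 ^ b * 5 ^ c * 7 ^ d + 17) % (2 ^ 17 - 1) ≠ 0 := by decide +kernel

theorem gl13 : ¬ 3 ^ 9 ∣ ∏ i : Fin 13, (2 ^ 13 - 2 ^ (i : ℕ)) ∧
    ¬ 5 ^ 4 ∣ ∏ i : Fin 13, (2 ^ 13 - 2 ^ (i : ℕ)) ∧
    ¬ 7 ^ 5 ∣ ∏ i : Fin 13, (2 ^ 13 - 2 ^ (i : ℕ)) := by decide +kernel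

theorem gl17 : ¬ 3 ^ 11 ∣ ∏ i : Fin 17, (2 ^ 17 - 2 ^ (i : ℕ)) ∧
    ¬ 5 ^ 5 ∣ ∏ i : Fin 17, (2 ^ 17 - 2 ^ (i : ℕ)) ∧
    ¬ 7 ^ 6 ∣ ∏ i : Fin 17, (2 ^ 17 - 2 ^ (i : ℕ)) := by decide +kernel

theorem small_order {r e : ℕ} (hr : r.Prime) (h : r ∣ 2 ^ e - 1) (he : 0 < e) (he4 : e ≤ 4)
    (h3 : r ≠ 3) (h5 : r ≠ 5) (h7 : r ≠ 7) : False := by
  rcases (show e = 1 ∨ e = 2 ∨ e = 3 ∨ e = 4 by omega) with rfl | rfl | rfl | rfl
  · exact hr.ne_one (Nat.dvd_one.1 (by simpa using h))
  · exact h3 ((Nat.prime_dvd_prime_iff_eq hr Nat.prime_three).1 (by simpa using h))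
  · exact h7 ((Nat.prime_dvd_prime_iff_eq hr (by norm_num)).1 (by simpa using h))
  · rcases hr.dvd_mul.1 (show r ∣ 3 * 5 by simpa using h) with h | h
    · exact h3 ((Nat.prime_dvd_prime_iff_eq hr Nat.prime_three).1 h)
    · exact h5 ((Nat.prime_dvd_prime_iff_eq hr (by norm_num)).1 h)

theorem eq_of_primes {m : ℕ} (hm : m ≠ 0) (h : ∀ r : ℕ, r.Prime → r ∣ m → r = 2 ∨ r = 3 ∨ r = 5 ∨ r = 7) :
    m = 2 ^ m.factorization 2 * 3 ^ m.factorization 3 * 5 ^ m.factorization 5 * 7 ^ m.factorization 7 := by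
  conv_lhs => rw [← Nat.prod_factorization_pow_eq_self hm]
  rw [Finsupp.prod_of_support_subset _ (s := ({2, 3, 5, 7} : Finset ℕ)) ?_ _ (fun _ _ => pow_zero _)]
  · simp [Finset.prod_insert, mul_assoc]
  · intro r hr
    rw [Nat.support_factorization, Nat.mem_primeFactors] at hr
    simpa using h r hr.1 hr.2.1

/-- A two-transitive group without transvections does not exist. -/
theorem not_two_noTv (C : Ctx ρ n) (hinj : Function.Injective ρ) (hn : n.Prime)
    (hp : (2 ^ n - 1).Prime) : ¬ NoTv ρ := by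
  classical
  intro hnt
  haveI : Module.Finite (ZMod 2) V := Module.Finite.of_finite
  haveI : Fact (2 ^ n - 1).Prime := ⟨hp⟩
  by_cases h2 : n = 2
  · exact not_noTv_two C h2 hnt
  by_cases h3 : n = 3
  · exact not_noTv_three C h3 hnt
  have hodd : Odd n := hn.odd_of_ne_two h2
  have h5 : 5 ≤ n := by
    have := hn.two_le
    rcases hodd with ⟨k, hk⟩
    omega
  have C3 : Ctx3 ρ n := { C with three := by omega }
  haveI : Nontrivial V := Module.nontrivial_of_finrank_pos (R := ZMod 2) (by rw [C.rank]; omega)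
  obtain ⟨c, hc⟩ := exists_ne (0 : V)
  obtain ⟨d, -, hd⟩ : ∃ d ∈ (⊤ : Submodule (ZMod 2) V), d ∉ Submodule.span (ZMod 2) {c} := by
    by_contra h
    push Not at h
    have := Submodule.finrank_mono h
    rw [finrank_top, C.rank, finrank_span_singleton hc] at this
    omega
  have hcd : Indep c d :=
    ⟨hc, fun e => hd (e ▸ zero_mem _), fun e => hd (e ▸ Submodule.mem_span_singleton_self _)⟩
  have hG := card_eq C hcd
  obtain ⟨x, hx⟩ := exists_prime_orderOf_dvd_card' (G := G) (2 ^ n - 1)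
    (hG ▸ dvd_mul_of_dvd_left (dvd_mul_right _ _) _)
  obtain ⟨ι, hι⟩ := singer_linear hinj C.rank hp hx hc
  have hbound := C3.degree_bound ι hι hcd
  set z := Module.finrank (ZMod 2) (Zs ρ c d) with hz
  let m := Nat.card (stab2 ρ c d)
  have hz2 : 2 ≤ z := (finrank_Ln hcd).ge.trans (Submodule.finrank_mono (C3.Ln_le c d))
  have hzn : z < n := by
    rw [← C.rank]
    exact Submodule.finrank_lt (C3.isZ hcd).2.1
  have hO : 2 ^ n - 2 ^ z ∣ m := by
    obtain ⟨u, -, hu⟩ := SetLike.exists_of_lt (C3.isZ hcd).2.1.lt_top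
    have e : Nat.card {y // SameO ((toP ρ).comp (stab2 ρ c d).subtype) u y} = 2 ^ n - 2 ^ z := by
      rw [hz, ← C.rank, ← card_outside]
      refine Nat.card_congr (Equiv.subtypeEquivRight fun y => ?_)
      constructor
      · rintro ⟨⟨g, hg⟩, rfl⟩
        obtain ⟨g1, g2⟩ := mem_stab2.1 hg
        intro hy
        apply hu
        have h := C3.mem_map_iff g (c := c) (d := d) (x := u)
        rw [g1, g2] at h
        exact h.1 hy
      · intro hy
        obtain ⟨g, hg, hgu⟩ := C3.trans_off hcd hu hy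
        exact ⟨⟨g, hg⟩, hgu⟩
    rw [← e, card_orbit_mul]
    exact Subgroup.index_dvd_card _
  have hsplit : 2 ^ n - 2 ^ z = 2 ^ z * (2 ^ (n - z) - 1) := by
    rw [Nat.mul_sub, ← pow_add, mul_one, Nat.add_sub_cancel' hzn.le]
  have hb2 : 2 ≤ n - z := by omega
  by_cases hb6 : n - z = 6
  · -- only small primes
    obtain hn' := prime_five_le (z := z) hn hp hb6 hz2 (by omega) (by omega)
    have hsmall : ∀ r : ℕ, r.Prime → r ∣ m → r = 2 ∨ r = 3 ∨ r = 5 ∨ r = 7 := by
      intro r hr hrm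
      by_contra hne
      simp only [not_or] at hne
      obtain ⟨h2', h3', h5', h7'⟩ := hne
      haveI : Fact r.Prime := ⟨hr⟩
      have h20 : (2 : ZMod r) ≠ 0 := by
        intro h
        have h' : ((2 : ℕ) : ZMod r) = 0 := by exact_mod_cast h
        rw [ZMod.natCast_eq_zero_iff] at h'
        exact h2' ((Nat.prime_dvd_prime_iff_eq hr Nat.prime_two).1 h')
      let e := orderOf (2 : ZMod r)
      have hiff : ∀ k : ℕ, r ∣ 2 ^ k - 1 ↔ e ∣ k := by
        intro k
        rw [orderOf_dvd_iff_pow_eq_one, ← ZMod.natCast_eq_zero_iff, Nat.cast_sub Nat.one_le_two_pow,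
          sub_eq_zero]
        push_cast
        rfl
      have he0 : 0 < e := orderOf_pos_iff.2 (isOfFinOrder_iff_pow_eq_one.2
        ⟨r - 1, by have := hr.two_le; omega, ZMod.pow_card_sub_one_eq_one h20⟩)
      have he5 : 5 ≤ e := by
        by_contra hlt
        exact small_order hr ((hiff e).2 dvd_rfl) he0 (by omega) h3' h5' h7'
      refine C3.no_prime hinj hnt hodd hcd h2' hrm (fun k hk => (hiff k).1 hk) (.inr ⟨?_, by omega, by omega⟩)
      rw [← hz, hsplit, hb6, hr.dvd_mul, not_or]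
      refine ⟨fun h => h2' ((Nat.prime_dvd_prime_iff_eq hr Nat.prime_two).1 (hr.dvd_of_dvd_pow h)), fun h => ?_⟩
      rcases hr.dvd_mul.1 (show r ∣ 3 * 3 * 7 by simpa using h) with h | h
      · rcases hr.dvd_mul.1 h with h | h <;> exact h3' ((Nat.prime_dvd_prime_iff_eq hr Nat.prime_three).1 h)
      · exact h7' ((Nat.prime_dvd_prime_iff_eq hr (by norm_num)).1 h)
    -- the congruence
    have hm0 : m ≠ 0 := Nat.card_pos.ne'
    have hmdvd : m ∣ ∏ i : Fin n, (2 ^ n - 2 ^ (i : ℕ)) := by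
      rw [← card_gl C.rank]
      exact (Subgroup.card_subgroup_dvd_card _).trans (Subgroup.card_dvd_of_injective ρ hinj)
    have hnot : ¬ (2 ^ n - 1) ^ 2 ∣ Nat.card G := by
      rw [hG, pow_two, mul_assoc]
      intro h
      have h' := Nat.dvd_of_mul_dvd_mul_left hp.pos h
      rcases hp.dvd_mul.1 h' with h' | h'
      · have := Nat.one_lt_two_pow (n := n) (by omega)
        have h4 : 4 ≤ 2 ^ n := by
          calc 4 = 2 ^ 2 := rfl
            _ ≤ _ := Nat.pow_le_pow_right two_pos (by omega)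
        have := Nat.le_of_dvd (by omega) h'
        omega
      · rcases hsmall _ hp h' with h | h | h | h <;> rcases hn' with rfl | rfl <;> norm_num at h
    obtain ⟨hN, hsyl⟩ := normalizer_eq_of_card hnot hx
    have key : ∃ k, (k = 1 ∨ k = n) ∧ (m + k) % (2 ^ n - 1) = 0 := by
      obtain ⟨k, hk, hk'⟩ : ∃ k, (k = 1 ∨ k = n) ∧
          Nat.card (Subgroup.normalizer (Subgroup.zpowers x : Set G)) = k * (2 ^ n - 1) := by
        rcases singer_normalizer hinj C.rank hn hp hx with h | h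
        · exact ⟨1, .inl rfl, by rw [one_mul]; exact h⟩
        · exact ⟨n, .inr rfl, h⟩
      refine ⟨k, hk, Nat.dvd_iff_mod_eq_zero.1 ?_⟩
      rw [hk', hG] at hN
      have h1 : k * Nat.card (Sylow (2 ^ n - 1) G) = (2 ^ n - 2) * m := by
        refine Nat.eq_of_mul_eq_mul_left hp.pos ?_
        linarith
      rw [← ZMod.natCast_eq_zero_iff]
      have h2 := congrArg (Nat.cast : ℕ → ZMod (2 ^ n - 1)) h1
      rw [Nat.cast_mul, Nat.cast_mul, (ZMod.natCast_eq_natCast_iff _ _ _).2 hsyl,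
        show 2 ^ n - 2 = (2 ^ n - 1) - 1 by omega, Nat.cast_sub hp.one_lt.le, ZMod.natCast_self,
        Nat.cast_one, mul_one, zero_sub, neg_one_mul] at h2
      rw [Nat.cast_add, h2, add_neg_cancel]
    obtain ⟨k, hk, hmod⟩ := key
    rw [eq_of_primes hm0 hsmall] at hmod
    have hbd : ∀ q t : ℕ, ¬ q ^ t ∣ (∏ i : Fin n, (2 ^ n - 2 ^ (i : ℕ))) → m.factorization q < t := by
      intro q t hq
      by_contra hlt
      exact hq ((pow_dvd_pow q (not_lt.1 hlt)).trans ((Nat.ordProj_dvd m q).trans hmdvd))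
    have hred : (2 ^ (m.factorization 2 % n) * 3 ^ m.factorization 3 * 5 ^ m.factorization 5 *
        7 ^ m.factorization 7 + k) % (2 ^ n - 1) = 0 := by
      rw [← hmod]
      have h1 : 2 ^ n ≡ 1 [MOD 2 ^ n - 1] := ((Nat.modEq_iff_dvd' Nat.one_le_two_pow).2 dvd_rfl).symm
      have h2 : 2 ^ (m.factorization 2 % n) ≡ 2 ^ m.factorization 2 [MOD 2 ^ n - 1] := by
        conv_rhs => rw [← Nat.div_add_mod (m.factorization 2) n, pow_add, pow_mul]
        have := ((h1.pow (m.factorization 2 / n)).mul_right (2 ^ (m.factorization 2 % n))).symm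
        rwa [one_pow, one_mul] at this
      exact (((h2.mul_right _).mul_right _).mul_right _).add_right k
    have hlt := Nat.mod_lt (m.factorization 2) (show n > 0 by omega)
    rcases hn' with rfl | rfl
    · have hh := cong13 _ hlt _ (hbd 3 9 gl13.1) _ (hbd 5 4 gl13.2.1) _ (hbd 7 5 gl13.2.2)
      rcases hk with rfl | rfl
      · exact hh.1 hred
      · exact hh.2 hred
    · have hh := cong17 _ hlt _ (hbd 3 11 gl17.1) _ (hbd 5 5 gl17.2.1) _ (hbd 7 6 gl17.2.2)
      rcases hk with rfl | rfl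
      · exact hh.1 hred
      · exact hh.2 hred
  · -- a primitive prime
    obtain ⟨r, hr, hrd, hprim⟩ := LEZsig.zsigmondy 2 (n - z) (by norm_num) (by omega)
      (fun h => hb6 h.2) (by
        rintro ⟨-, k, hk⟩
        rcases Nat.eq_zero_or_pos k with rfl | hk0
        · norm_num at hk
        · have : 2 ∣ 2 ^ k := dvd_pow_self 2 hk0.ne'
          omega)
    haveI : Fact r.Prime := ⟨hr⟩
    have hr2 : r ≠ 2 := by
      rintro rfl
      have : 2 ∣ 2 ^ (n - z) := dvd_pow_self 2 (by omega)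
      have := Nat.one_le_two_pow (n := n - z)
      omega
    have hdiv : r ∣ 2 ^ n - 2 ^ z := hsplit ▸ dvd_mul_of_dvd_right hrd _
    refine C3.no_prime hinj hnt hodd hcd hr2 (hdiv.trans hO) (e := n - z) (fun k hk => ?_)
      (.inl ⟨hdiv, by omega⟩)
    have hg : r ∣ 2 ^ Nat.gcd (n - z) k - 1 := by
      rw [← Nat.pow_sub_one_gcd_pow_sub_one]
      exact Nat.dvd_gcd hrd hk
    have hgpos : 0 < Nat.gcd (n - z) k := Nat.gcd_pos_of_pos_left _ (by omega)
    have hge : n - z ≤ Nat.gcd (n - z) k := by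
      by_contra hlt
      exact hprim _ hgpos (by omega) hg
    have : Nat.gcd (n - z) k = n - z := le_antisymm (Nat.gcd_le_left _ (by omega)) hge
    exact Nat.gcd_eq_left_iff_dvd.1 this

/-- A solvable transitive group of prime degree has a normal subgroup of that order. -/
theorem exists_normal_prime {Ω : Type*} [Finite Ω] [MulAction G Ω] [FaithfulSMul G Ω]
    [MulAction.IsPretransitive G Ω] {p : ℕ} (hp : p.Prime) (hΩ : Nat.card Ω = p)
    (hsol : Group.IsSolvable G) : ∃ D : Subgroup G, D.Normal ∧ Nat.card D = p := by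
  classical
  haveI : Nonempty Ω := (Nat.card_pos_iff.1 (hΩ ▸ hp.pos)).1
  haveI : MulAction.IsPreprimitive G Ω := MulAction.IsPreprimitive.of_prime_card (hΩ ▸ hp)
  obtain ⟨k, hk⟩ := hsol.solvable
  have hne : derivedSeries G 0 ≠ ⊥ := by
    rw [derivedSeries_zero]
    intro h
    have : Subsingleton G := ⟨fun a b => by
      have ha : a ∈ (⊤ : Subgroup G) := Subgroup.mem_top a
      have hb : b ∈ (⊤ : Subgroup G) := Subgroup.mem_top b
      rw [h, Subgroup.mem_bot] at ha hb
      rw [ha, hb]⟩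
    obtain ⟨a⟩ : Nonempty Ω := inferInstance
    have : Subsingleton Ω := ⟨fun u v => by
      obtain ⟨g, rfl⟩ := MulAction.exists_smul_eq G u v
      rw [Subsingleton.elim g 1, one_smul]⟩
    have := Finite.card_le_one_iff_subsingleton.2 this
    rw [hΩ] at this
    exact absurd this (not_le.2 hp.one_lt)
  obtain ⟨i, hi, hi'⟩ : ∃ i, derivedSeries G i ≠ ⊥ ∧ derivedSeries G (i + 1) = ⊥ := by
    by_contra h
    push Not at h
    have : ∀ j, derivedSeries G j ≠ ⊥ := fun j => by
      induction j with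
      | zero => exact hne
      | succ j ih => exact h j ih
    exact this k hk
  let D := derivedSeries G i
  haveI : D.Normal := derivedSeries_normal G i
  refine ⟨D, inferInstance, ?_⟩
  have hcomm : ∀ a ∈ D, ∀ b ∈ D, a * b = b * a := by
    intro a ha b hb
    have : ⁅a, b⁆ ∈ derivedSeries G (i + 1) := by
      rw [derivedSeries_succ]
      exact Subgroup.commutator_mem_commutator ha hb
    rw [hi', Subgroup.mem_bot, commutatorElement_eq_one_iff_commute] at this
    exact this.eq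
  haveI : MulAction.IsPretransitive D Ω := by
    refine MulAction.IsQuasiPreprimitive.isPretransitive_of_normal (G := G) fun h => hi ?_
    rw [eq_bot_iff]
    intro g hg
    rw [Subgroup.mem_bot]
    refine FaithfulSMul.eq_of_smul_eq_smul (α := Ω) fun u => ?_
    rw [one_smul]
    exact (h ▸ Set.mem_univ u : u ∈ MulAction.fixedPoints D Ω) ⟨g, hg⟩
  obtain ⟨a⟩ : Nonempty Ω := inferInstance
  have hst : MulAction.stabilizer D a = ⊥ := by
    rw [eq_bot_iff]
    rintro ⟨g, hg⟩ hga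
    rw [Subgroup.mem_bot]
    refine Subtype.ext (FaithfulSMul.eq_of_smul_eq_smul (α := Ω) fun u => ?_)
    obtain ⟨⟨t, ht⟩, rfl⟩ := MulAction.exists_smul_eq D a u
    show g • t • a = (1 : G) • t • a
    rw [one_smul, ← mul_smul, hcomm g hg t ht, mul_smul]
    exact congrArg (t • ·) hga
  have := MulAction.index_stabilizer_of_transitive D a
  rw [hst, Subgroup.index_bot, hΩ] at this
  exact this

end Cfsg.Agent.SingerOver
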