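import Cfsg.Agent.Lib.SingerOver.ZSub

/-!
No subgroup fixes a non-trivial complement pointwise and is two-transitive on a subspace of dimension at
least three.
-/

set_option autoImplicit false
set_option linter.style.haveILetI false
set_option linter.unusedSectionVars false

namespace Cfsg.Agent.SingerOver

open Submodule

variable {G : Type*} [Group G] [Finite G] {V : Type*} [AddCommGroup V] [Module (ZMod 2) V] [Finite V]
  {ρ : G →* (V ≃ₗ[ZMod 2] V)} {n : ℕ}

/-- Data for the core contradiction. -/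
structure SplitData (ρ : G →* (V ≃ₗ[ZMod 2] V)) (U W : Submodule (ZMod 2) V) (K : Subgroup G) : Prop where
  compl : IsCompl U W
  ne_bot : W ≠ ⊥
  three : 3 ≤ Module.finrank (ZMod 2) U
  fixW : ∀ k ∈ K, ∀ x ∈ W, ρ k x = x
  stabU : ∀ k ∈ K, ∀ x ∈ U, ρ k x ∈ U
  trans : ∀ a ∈ U, ∀ b ∈ U, ∀ a' ∈ U, ∀ b' ∈ U, Indep a b → Indep a' b' →
    ∃ k ∈ K, ρ k a = a' ∧ ρ k b = b'
  dec : ∀ d ∈ U, ∀ d' ∈ U, ∀ a ∈ U, ∀ b ∈ W, a + b ∈ Zs ρ d d' → a ∈ Zs ρ d d'

omit [Finite G] in
theorem exists_outside (S T : Submodule (ZMod 2) V)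
    (h : Module.finrank (ZMod 2) T < Module.finrank (ZMod 2) S) : ∃ x ∈ S, x ∉ T := by
  by_contra hc
  push Not at hc
  exact absurd (Submodule.finrank_mono hc) (by omega)

theorem not_splitData (C : Ctx3 ρ n) {U W : Submodule (ZMod 2) V} {K : Subgroup G}
    (D : SplitData ρ U W K)
    (hz : (∀ a ∈ U, ∀ b ∈ U, Indep a b → U ≤ Zs ρ a b) ∨
      ∀ a b, Indep a b → 3 ≤ Module.finrank (ZMod 2) (Zs ρ a b)) : False := by
  classical
  haveI : Module.Finite (ZMod 2) V := Module.Finite.of_finite
  have split : ∀ x : V, ∃ a ∈ U, ∃ b ∈ W, a + b = x := fun x =>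
    Submodule.mem_sup.1 (D.compl.sup_eq_top ▸ Submodule.mem_top (x := x))
  have disj : ∀ {x}, x ∈ U → x ∈ W → x = 0 := fun hU hW =>
    (Submodule.disjoint_def.1 D.compl.disjoint) _ hU hW
  have line : ∀ x : V, Module.finrank (ZMod 2) (Submodule.span (ZMod 2) {x}) ≤ 1 := fun x =>
    (finrank_span_le_card ({x} : Set V)).trans (by simp)
  have plane : ∀ x y : V, Module.finrank (ZMod 2) (Ln x y) ≤ 2 := by
    intro x y
    rw [Ln, Submodule.span_insert]
    exact (Submodule.finrank_add_le_finrank_add_finrank _ _).trans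
      (Nat.add_le_add (line x) (line y))
  obtain ⟨d0, hd0U, hd0⟩ : ∃ x ∈ U, x ∉ (⊥ : Submodule (ZMod 2) V) :=
    exists_outside U ⊥ (by rw [finrank_bot]; have := D.three; omega)
  rw [Submodule.mem_bot] at hd0
  obtain ⟨d1, hd1U, hd1⟩ := exists_outside U (Submodule.span (ZMod 2) {d0})
    (by have := D.three; have := line d0; omega)
  have hd01 : Indep d0 d1 := ⟨hd0, fun e => hd1 (by simp [e]),
    fun e => hd1 (e ▸ Submodule.mem_span_singleton_self _)⟩
  let Z := Zs ρ d0 d1
  have hZne : Z ≠ ⊤ := (C.isZ hd01).2.1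
  -- moving along `K`
  have kmap : ∀ k ∈ K, ∀ c ∈ W, ∀ d x, x ∈ Zs ρ c d → ρ k x ∈ Zs ρ c (ρ k d) := by
    intro k hk c hc d x hx
    have := C.mem_map k hx
    rwa [D.fixW k hk c hc] at this
  have lineW : ∀ a ∈ U, ∀ b ∈ U, Indep a b → ∀ w ∈ W, (w ∈ Zs ρ a b ↔ w ∈ Z) := by
    intro a ha b hb hab w hw
    obtain ⟨k, hk, k1, k2⟩ := D.trans a ha b hb d0 hd0U d1 hd1U hab hd01
    have := C.mem_map_iff k (c := a) (d := b) (x := w)
    rw [k1, k2, D.fixW k hk w hw] at this
    exact this.symm
  -- projections of the subspace of a mixed pair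
  have lemP : ∀ c ∈ W, c ∉ Z → ∀ d ∈ U, d ≠ 0 → ∀ a ∈ U, ∀ b ∈ W, a + b ∈ Zs ρ c d →
      a ∈ Submodule.span (ZMod 2) {d} := by
    intro c hc hcZ d hd hd0' a ha b hb hab
    by_contra hna
    have had : Indep d a := ⟨hd0', fun e => hna (e ▸ zero_mem _),
      fun e => hna (e ▸ Submodule.mem_span_singleton_self _)⟩
    obtain ⟨e, he, hne⟩ := exists_outside U (Ln d a) (by have := D.three; have := plane d a; omega)
    obtain ⟨e0, e1, e2, e3⟩ := indep_of_notMem hne
    have hda' : Indep d (a + e) := ⟨hd0', fun h => e2 ((eq_iff_add_eq_zero a e).2 h).symm, fun h => e3 (by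
      rw [h, add_assoc, add_comm e, ← add_assoc, ZModModule.add_self, zero_add])⟩
    obtain ⟨k, hk, k1, k2⟩ := D.trans d hd a ha d hd (a + e) (add_mem ha he) had hda'
    have h1 := kmap k hk c hc d _ hab
    rw [k1, map_add, k2, D.fixW k hk b hb] at h1
    have h2 : e ∈ Zs ρ c d := by
      have := add_mem h1 hab
      have e' : a + e + b + (a + b) = e + ((a + a) + (b + b)) := by abel
      rwa [e', ZModModule.add_self, ZModModule.add_self, add_zero, add_zero] at this
    exact hcZ ((lineW e he d hd ⟨e0, hd0', e1⟩ c hc).1 (C.symm_left h2))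
  have capW : ∀ c ∈ W, c ∉ Z → ∀ d ∈ U, d ≠ 0 → ∀ S : Submodule (ZMod 2) V, S ≤ Zs ρ c d →
      Module.finrank (ZMod 2) S ≤ Module.finrank (ZMod 2) ↥(S ⊓ W) + 1 := by
    intro c hc hcZ d hd hd0' S hS
    have hle : S ⊔ W ≤ Submodule.span (ZMod 2) {d} ⊔ W := by
      refine sup_le (fun x hx => ?_) le_sup_right
      obtain ⟨a, ha, b, hb, rfl⟩ := split x
      exact add_mem (Submodule.mem_sup_left (lemP c hc hcZ d hd hd0' a ha b hb (hS hx)))
        (Submodule.mem_sup_right hb)
    have h1 := Submodule.finrank_mono hle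
    have h2 := Submodule.finrank_sup_add_finrank_inf_eq S W
    have h3 := Submodule.finrank_add_le_finrank_add_finrank (Submodule.span (ZMod 2) {d}) W
    have h4 := line d
    omega
  by_cases hclique : U ≤ Z
  · -- the clique case
    have same : ∀ a ∈ U, ∀ b ∈ U, Indep a b → Zs ρ a b = Z := by
      intro a ha b hb hab
      have hUab : U ≤ Zs ρ a b := fun x hx => by
        obtain ⟨k, hk, k1, k2⟩ := D.trans d0 hd0U d1 hd1U a ha b hb hd01 hab
        have h := C.mem_map k (hclique (D.stabU k⁻¹ (inv_mem hk) x hx))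
        simpa [k1, k2] using h
      ext x
      obtain ⟨p, hp, q, hq, rfl⟩ := split x
      rw [Submodule.add_mem_iff_right _ (hUab hp), Submodule.add_mem_iff_right _ (hclique hp)]
      exact lineW a ha b hb hab q hq
    obtain ⟨c, hc, hcZ⟩ : ∃ c ∈ W, c ∉ Z := by
      by_contra hcc
      push Not at hcc
      exact hZne (eq_top_iff.2 (D.compl.sup_eq_top ▸ sup_le hclique hcc))
    have hc0 : c ≠ 0 := fun e => hcZ (e ▸ zero_mem _)
    obtain ⟨h, h1, h2⟩ := C.two d0 d1 c d0 hd01 ⟨hc0, hd0, fun e => hc0 (disj (e ▸ hd0U) hc)⟩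
    let U' := U.map (ρ h : V →ₗ[ZMod 2] V)
    have hU'Z : U' ≤ Zs ρ c d0 := by
      rintro _ ⟨x, hx, rfl⟩
      have := C.mem_map h (hclique hx)
      rwa [h1, h2] at this
    have hdim : Module.finrank (ZMod 2) U' = Module.finrank (ZMod 2) U := LinearEquiv.finrank_map_eq _ _
    obtain ⟨e, ⟨⟨e0, he0, heq⟩, heW⟩, hec⟩ := exists_outside (U' ⊓ W) (Submodule.span (ZMod 2) {c}) (by
      have := capW c hc hcZ d0 hd0U hd0 U' hU'Z
      have := D.three
      have := line c
      omega)
    have hce : Indep d0 e0 := by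
      refine ⟨hd0, fun he => hec ?_, fun he => hec ?_⟩
      · rw [← heq, he, map_zero]; exact zero_mem _
      · rw [← heq, ← he, LinearEquiv.coe_coe, h1]; exact Submodule.mem_span_singleton_self _
    have hsame : Zs ρ c e = Zs ρ c d0 := by
      have e1 := C.Zs_map h d0 e0
      have e2 := C.Zs_map h d0 d1
      rw [same d0 hd0U e0 he0 hce] at e1
      rw [h1, h2] at e2
      rw [h1, show ρ h e0 = e from heq] at e1
      exact e1.symm.trans e2
    have hd : d0 ∈ Zs ρ c e := hsame ▸ C.Ln_le _ _ (right_mem_Ln c d0)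
    obtain ⟨k, hk, k1, -⟩ := D.trans d0 hd0U d1 hd1U d1 hd1U d0 hd0U hd01 hd01.swap
    have hd1' : d1 ∈ Zs ρ c d0 := by
      have := kmap k hk c hc e d0 hd
      rw [D.fixW k hk e heW, k1] at this
      exact hsame ▸ this
    exact hcZ ((lineW d1 hd1U d0 hd0U hd01.swap c hc).1 (C.symm_left hd1'))
  · have hz3 : 3 ≤ Module.finrank (ZMod 2) Z :=
      (hz.resolve_left fun h => hclique (h d0 hd0U d1 hd1U hd01)) d0 d1 hd01
    have hm : Module.finrank (ZMod 2) ↥(Z ⊓ U) < Module.finrank (ZMod 2) U :=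
      Submodule.finrank_lt_finrank_of_lt (lt_of_le_of_ne inf_le_right fun e => hclique (e ▸ inf_le_left))
    have hzdec : Module.finrank (ZMod 2) Z ≤
        Module.finrank (ZMod 2) ↥(Z ⊓ U) + Module.finrank (ZMod 2) ↥(Z ⊓ W) := by
      refine le_trans (Submodule.finrank_mono fun x hx => ?_)
        (Submodule.finrank_add_le_finrank_add_finrank _ _)
      obtain ⟨a, ha, b, hb, rfl⟩ := split x
      have haZ := D.dec d0 hd0U d1 hd1U a ha b hb hx
      exact Submodule.add_mem_sup ⟨haZ, ha⟩ ⟨(Submodule.add_mem_iff_right _ haZ).1 hx, hb⟩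
    by_cases hC0 : Z ⊓ W = ⊥
    · -- no common part in the complement
      obtain ⟨c, hc, hc0⟩ := exists_mem_ne_zero_of_ne_bot D.ne_bot
      have hcZ : c ∉ Z := fun h => hc0 (by
        have : c ∈ Z ⊓ W := ⟨h, hc⟩
        rwa [hC0, Submodule.mem_bot] at this)
      rw [hC0, finrank_bot] at hzdec
      have hcd : Indep c d0 := ⟨hc0, hd0, fun e => hc0 (disj (e ▸ hd0U) hc)⟩
      obtain ⟨w, ⟨hwZ, hwW⟩, hwc⟩ := exists_outside (Zs ρ c d0 ⊓ W) (Submodule.span (ZMod 2) {c}) (by
        have := capW c hc hcZ d0 hd0U hd0 _ le_rfl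
        have := C.finrank_eq hcd hd01
        have := line c
        have : 3 ≤ Module.finrank (ZMod 2) (Zs ρ d0 d1) := hz3
        omega)
      have hcw : Indep c w := ⟨hc0, fun e => hwc (e ▸ zero_mem _),
        fun e => hwc (e ▸ Submodule.mem_span_singleton_self _)⟩
      have hdw : d0 ∈ Zs ρ c w := C.symm_right hwZ
      have hUle : U ≤ Zs ρ c w := by
        intro x hx
        by_cases hx0 : x = 0
        · exact hx0 ▸ zero_mem _
        obtain ⟨y, hy, hyx⟩ := exists_outside U (Submodule.span (ZMod 2) {x})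
          (by have := D.three; have := line x; omega)
        obtain ⟨k, hk, k1, -⟩ := D.trans d0 hd0U d1 hd1U x hx y hy hd01
          ⟨hx0, fun e => hyx (e ▸ zero_mem _), fun e => hyx (e ▸ Submodule.mem_span_singleton_self _)⟩
        have := kmap k hk c hc w d0 hdw
        rwa [D.fixW k hk w hwW, k1] at this
      have h1 : Module.finrank (ZMod 2) U + 2 ≤ Module.finrank (ZMod 2) (Zs ρ c w) := by
        have hd : U ⊓ Ln c w = ⊥ := by
          rw [eq_bot_iff]
          rintro x ⟨hxU, hxL⟩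
          rw [Submodule.mem_bot]
          refine disj hxU ?_
          rcases mem_Ln.1 hxL with rfl | rfl | rfl | rfl
          exacts [zero_mem _, hc, hwW, add_mem hc hwW]
        have := Submodule.finrank_sup_add_finrank_inf_eq U (Ln c w)
        rw [hd, finrank_bot, finrank_Ln hcw] at this
        have := Submodule.finrank_mono (sup_le hUle (C.Ln_le c w))
        omega
      have := C.finrank_eq hcw hd01
      have : Module.finrank (ZMod 2) Z = Module.finrank (ZMod 2) (Zs ρ d0 d1) := rfl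
      omega
    · -- a common part in the complement
      obtain ⟨c, hc', hc0⟩ := exists_mem_ne_zero_of_ne_bot hC0
      obtain ⟨hcZ, hc⟩ : c ∈ Z ∧ c ∈ W := hc'
      have hUle : ∀ d ∈ U, U ≤ Zs ρ c d := by
        intro d hd x hx
        by_cases hdx : Indep d x
        · rw [C.Zs_comm c d]
          exact C.symm_right ((lineW d hd x hx hdx c hc).2 hcZ)
        · by_cases hd0' : d = 0
          · rw [hd0', Zs_of_not_indep (fun h => h.2.1 rfl)]; trivial
          · by_cases hx0 : x = 0
            · exact hx0 ▸ zero_mem _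
            · have : d = x := by_contra fun e => hdx ⟨hd0', hx0, e⟩
              exact this ▸ C.Ln_le _ _ (right_mem_Ln c d)
      let E : Submodule (ZMod 2) V :=
        { carrier := {e | Zs ρ c d0 ≤ Zs ρ c e}
          zero_mem' := by
            show Zs ρ c d0 ≤ Zs ρ c 0
            rw [Zs_of_not_indep (c := c) (d := 0) fun h => h.2.1 rfl]; exact le_top
          add_mem' := fun {a b} ha hb x hx => C.add_right (ha hx) (hb hx)
          smul_mem' := fun t a ha => by
            rcases z2_cases t with rfl | rfl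
            · show Zs ρ c d0 ≤ Zs ρ c ((0 : ZMod 2) • a)
              rw [zero_smul, Zs_of_not_indep (c := c) (d := 0) fun h => h.2.1 rfl]; exact le_top
            · rwa [one_smul] }
      have hUE : U ⊔ Submodule.span (ZMod 2) {c} ≤ E := by
        refine sup_le (fun x hx => ?_) ?_
        · intro y hy
          by_cases hx0 : x = 0
          · rw [hx0, Zs_of_not_indep (c := c) (d := 0) fun h => h.2.1 rfl]; trivial
          obtain ⟨x', hx', hxx'⟩ := exists_outside U (Submodule.span (ZMod 2) {x})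
            (by have := D.three; have := line x; omega)
          obtain ⟨k, hk, k1, -⟩ := D.trans d0 hd0U d1 hd1U x hx x' hx' hd01
            ⟨hx0, fun e => hxx' (e ▸ zero_mem _), fun e => hxx' (e ▸ Submodule.mem_span_singleton_self _)⟩
          obtain ⟨a, ha, b, hb, rfl⟩ := split y
          have hb' : b ∈ Zs ρ c d0 := (Submodule.add_mem_iff_right _ (hUle d0 hd0U ha)).1 hy
          have := kmap k hk c hc d0 b hb'
          rw [D.fixW k hk b hb, k1] at this
          exact add_mem (hUle x hx ha) this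
        · rw [Submodule.span_singleton_le_iff_mem]
          show Zs ρ c d0 ≤ Zs ρ c c
          rw [Zs_of_not_indep (c := c) (d := c) fun h => h.2.2 rfl]
          exact le_top
      have hEdim : Module.finrank (ZMod 2) U + 1 ≤ Module.finrank (ZMod 2) E := by
        have hlt : U < U ⊔ Submodule.span (ZMod 2) {c} := lt_of_le_of_ne le_sup_left fun e =>
          hc0 (disj (e ▸ Submodule.mem_sup_right (Submodule.mem_span_singleton_self c)) hc)
        have := Submodule.finrank_lt_finrank_of_lt hlt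
        have := Submodule.finrank_mono hUE
        omega
      have hcd : Indep c d0 := ⟨hc0, hd0, fun e => hc0 (disj (e ▸ hd0U) hc)⟩
      obtain ⟨h, h1, h2⟩ := C.two c d0 d0 d1 hcd hd01
      let E' := E.map (ρ h : V →ₗ[ZMod 2] V)
      have hE'mem : ∀ x ∈ E', Z ≤ Zs ρ d0 x := by
        rintro _ ⟨e, he, rfl⟩ y hy
        have hy' : ρ h⁻¹ y ∈ Zs ρ c d0 := by
          have := C.mem_map_iff h (c := c) (d := d0) (x := ρ h⁻¹ y)
          rw [h1, h2] at this
          exact this.1 (by simpa using hy)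
        have := C.mem_map h (he hy')
        simpa [h1] using this
      have hE'Z : E' ≤ Z := fun x hx => C.symm_right (hE'mem x hx (C.Ln_le _ _ (right_mem_Ln d0 d1)))
      have hE'dim : Module.finrank (ZMod 2) E' = Module.finrank (ZMod 2) E := LinearEquiv.finrank_map_eq _ _
      obtain ⟨γ, ⟨hγE, hγZ, hγW⟩, hγ0⟩ := exists_outside (E' ⊓ (Z ⊓ W)) ⊥ (by
        rw [finrank_bot]
        have := Submodule.finrank_sup_add_finrank_inf_eq E' (Z ⊓ W)
        have := Submodule.finrank_mono (sup_le hE'Z (inf_le_left : Z ⊓ W ≤ Z))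
        omega)
      rw [Submodule.mem_bot] at hγ0
      have hdγ : Indep d0 γ := ⟨hd0, hγ0, fun e => hγ0 (disj (e ▸ hd0U) hγW)⟩
      have heq : Z = Zs ρ d0 γ :=
        Submodule.eq_of_le_of_finrank_eq (hE'mem γ hγE) (C.finrank_eq hd01 hdγ)
      refine hclique fun x hx => ?_
      rw [heq]
      by_cases hdx : Indep d0 x
      · exact C.symm_right ((lineW d0 hd0U x hx hdx γ hγW).2 hγZ)
      · by_cases hx0 : x = 0
        · exact hx0 ▸ zero_mem _
        · have : d0 = x := by_contra fun e => hdx ⟨hd0, hx0, e⟩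
          exact this ▸ C.Ln_le _ _ (left_mem_Ln d0 γ)

end Cfsg.Agent.SingerOver
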