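import Cfsg.Agent.Lib.SingerOver.Move

/-!
Subgroups realising the six elementary moves of a triple of vectors, and minimal such subgroups: they lie
in every subgroup containing their commutators, and in every subgroup they normalise which contains the
commutators of their `2`-subgroups.
-/

set_option autoImplicit false
set_option linter.style.haveILetI false
set_option linter.unusedSectionVars false

namespace Cfsg.Agent.SingerOver

open scoped commutatorElement

variable {G : Type*} [Group G] [Finite G] {V : Type*} [AddCommGroup V] [Module (ZMod 2) V] [Finite V]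
  (ρ : G →* (V ≃ₗ[ZMod 2] V))

/-- `g` adds `b i` to `b j` and fixes the other members of the triple. -/
def Mv (b : Fin 3 → V) (g : G) (i j : Fin 3) : Prop :=
  ∀ l, ρ g (b l) = if l = j then b j + b i else b l

/-- All six moves are realised in `Y`. -/
def Full (b : Fin 3 → V) (Y : Subgroup G) : Prop :=
  ∀ i j : Fin 3, i ≠ j → ∃ g ∈ Y, Mv ρ b g i j

variable {ρ} {b : Fin 3 → V}

theorem Mv.inv {g : G} {i j : Fin 3} (hij : i ≠ j) (h : Mv ρ b g i j) : Mv ρ b g⁻¹ i j := by
  intro l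
  apply (ρ g).injective
  rw [show ρ g (ρ g⁻¹ (b l)) = b l by simp]
  by_cases hl : l = j
  · subst hl
    rw [if_pos rfl, map_add, h l, h i, if_pos rfl, if_neg hij, add_assoc, ZModModule.add_self,
      add_zero]
  · rw [if_neg hl, h l, if_neg hl]

theorem Mv.comm {g h : G} {i j k : Fin 3} (hij : i ≠ j) (hik : i ≠ k) (hkj : k ≠ j)
    (hg : Mv ρ b g i k) (hh : Mv ρ b h k j) : Mv ρ b ⁅g, h⁆ i j := by
  have hg' := hg.inv hik
  have hh' := hh.inv hkj
  have key : ∀ x, ρ ⁅g, h⁆ x = ρ g (ρ h (ρ g⁻¹ (ρ h⁻¹ x))) := fun x => by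
    simp [commutatorElement_def]
  intro l
  rw [key, hh' l]
  by_cases hl : l = j
  · subst hl
    have e : b l + b k + b i + b i = b l + b k := by
      rw [add_assoc, ZModModule.add_self, add_zero]
    have a1 : ρ g⁻¹ (b l + b k) = b l + b k + b i := by
      rw [map_add, hg' l, hg' k, if_neg hkj.symm, if_pos rfl, ← add_assoc]
    have a2 : ρ h (b l + b k + b i) = b l + b i := by
      rw [map_add, map_add, hh l, hh k, hh i, if_pos rfl, if_neg hkj, if_neg hij, add_assoc (b l),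
        ZModModule.add_self, add_zero]
    rw [if_pos rfl, if_pos rfl, a1, a2, map_add, hg l, hg i, if_neg hkj.symm, if_neg hik]
  · rw [if_neg hl, if_neg hl, hg' l]
    by_cases hlk : l = k
    · subst hlk
      rw [if_pos rfl, map_add, hh l, hh i, if_neg hl, if_neg hij, map_add, hg l, hg i, if_pos rfl,
        if_neg hik, add_assoc, ZModModule.add_self, add_zero]
    · rw [if_neg hlk, hh l, if_neg hl, hg l, if_neg hlk]

theorem exists_minimal_full {N : Subgroup G} (h : Full ρ b N) :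
    ∃ Y ≤ N, Full ρ b Y ∧ ∀ Y' ≤ Y, Full ρ b Y' → Y' = Y := by
  obtain ⟨Y, ⟨hYN, hY⟩, hmin⟩ := Set.Finite.exists_minimal
    (s := {Y : Subgroup G | Y ≤ N ∧ Full ρ b Y}) (Set.toFinite _) ⟨N, le_rfl, h⟩
  exact ⟨Y, hYN, hY, fun Y' h1 h2 => le_antisymm h1 (hmin ⟨h1.trans hYN, h2⟩ h1)⟩

theorem le_of_comm {Y Q : Subgroup G} (hY : Full ρ b Y)
    (hmin : ∀ Y' ≤ Y, Full ρ b Y' → Y' = Y) (hQ : ∀ y ∈ Y, ∀ z ∈ Y, ⁅y, z⁆ ∈ Q) : Y ≤ Q := by
  have hfull : Full ρ b (Y ⊓ Q) := by
    intro i j hij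
    obtain ⟨k, hik, hkj⟩ : ∃ k : Fin 3, i ≠ k ∧ k ≠ j := by revert i j; decide
    obtain ⟨g, hg, hgm⟩ := hY i k hik
    obtain ⟨h, hh, hhm⟩ := hY k j hkj
    exact ⟨⁅g, h⁆, Subgroup.mem_inf.2 ⟨by rw [commutatorElement_def]; exact mul_mem (mul_mem (mul_mem hg hh) (inv_mem hg)) (inv_mem hh), hQ g hg h hh⟩, hgm.comm hij hik hkj hhm⟩
  exact (hmin _ inf_le_left hfull).ge.trans inf_le_right

theorem le_of_move {Y Q : Subgroup G} (hY : Full ρ b Y)
    (hmin : ∀ Y' ≤ Y, Full ρ b Y' → Y' = Y) (hQ : ∀ y ∈ Y, ∀ q ∈ Q, y * q * y⁻¹ ∈ Q) {q : G}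
    (hq : q ∈ Y) (hq' : q ∈ Q) (hm : Mv ρ b q 0 2) : Y ≤ Q := by
  let P : Fin 3 → Fin 3 → Prop := fun i j => ∃ g ∈ Y ⊓ Q, Mv ρ b g i j
  have h1 : ∀ i j k : Fin 3, i ≠ j → i ≠ k → k ≠ j → P i k → P i j := by
    rintro i j k hij hik hkj ⟨g, hgYQ, hg⟩
    obtain ⟨hgY, hgQ⟩ := Subgroup.mem_inf.1 hgYQ
    obtain ⟨h, hh, hhm⟩ := hY k j hkj
    refine ⟨⁅g, h⁆, Subgroup.mem_inf.2 ⟨?_, ?_⟩, hg.comm hij hik hkj hhm⟩
    · rw [commutatorElement_def]; exact mul_mem (mul_mem (mul_mem hgY hh) (inv_mem hgY)) (inv_mem hh)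
    · rw [commutatorElement_def, mul_assoc g, mul_assoc g]
      exact mul_mem hgQ (hQ h hh _ (inv_mem hgQ))
  have h2 : ∀ i j k : Fin 3, i ≠ j → i ≠ k → k ≠ j → P k j → P i j := by
    rintro i j k hij hik hkj ⟨h, hhYQ, hh⟩
    obtain ⟨hhY, hhQ⟩ := Subgroup.mem_inf.1 hhYQ
    obtain ⟨g, hg, hgm⟩ := hY i k hik
    refine ⟨⁅g, h⁆, Subgroup.mem_inf.2 ⟨?_, ?_⟩, hgm.comm hij hik hkj hh⟩
    · rw [commutatorElement_def]; exact mul_mem (mul_mem (mul_mem hg hhY) (inv_mem hg)) (inv_mem hhY)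
    · rw [commutatorElement_def]
      exact mul_mem (hQ g hg h hhQ) (inv_mem hhQ)
  have p02 : P 0 2 := ⟨q, ⟨hq, hq'⟩, hm⟩
  have p01 : P 0 1 := h1 0 1 2 (by decide) (by decide) (by decide) p02
  have p12 : P 1 2 := h2 1 2 0 (by decide) (by decide) (by decide) p02
  have p21 : P 2 1 := h2 2 1 0 (by decide) (by decide) (by decide) p01
  have p10 : P 1 0 := h1 1 0 2 (by decide) (by decide) (by decide) p12
  have p20 : P 2 0 := h1 2 0 1 (by decide) (by decide) (by decide) p21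
  have hfull : Full ρ b (Y ⊓ Q) := by
    intro i j hij
    fin_cases i <;> fin_cases j <;> first | exact absurd rfl hij | assumption
  exact (hmin _ inf_le_left hfull).ge.trans inf_le_right

/-- The restriction to an invariant submodule. -/
def resRep (ρ : G →* (V ≃ₗ[ZMod 2] V)) (S : Submodule (ZMod 2) V) (K : Subgroup G)
    (hK : K ≤ stabS ρ S) : K →* (S ≃ₗ[ZMod 2] S) where
  toFun g := (ρ g).ofSubmodules S S (hK g.2)
  map_one' := by ext x; simp
  map_mul' g g' := by
    ext x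
    show ρ (g * g' : K) (x : V) = ρ g (ρ g' x)
    simp

@[simp] theorem resRep_coe (ρ : G →* (V ≃ₗ[ZMod 2] V)) (S : Submodule (ZMod 2) V) (K : Subgroup G)
    (hK : K ≤ stabS ρ S) (g : K) (x : S) : (resRep ρ S K hK g x : V) = ρ g x := rfl

theorem le_of_comm_two {Y Q : Subgroup G} (hY : Full ρ b Y)
    (hmin : ∀ Y' ≤ Y, Full ρ b Y' → Y' = Y) (hQ : ∀ y ∈ Y, ∀ q ∈ Q, y * q * y⁻¹ ∈ Q)
    (h2 : ∀ P : Subgroup G, P ≤ Y → IsPGroup 2 P → ∀ s ∈ P, ∀ t ∈ P, ⁅s, t⁆ ∈ Q) : Y ≤ Q := by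
  classical
  haveI : Fact (Nat.Prime 2) := ⟨Nat.prime_two⟩
  obtain ⟨g1, hg1, hm1⟩ := hY 0 1 (by decide)
  obtain ⟨g2, hg2, hm2⟩ := hY 1 2 (by decide)
  let L1 := Submodule.span (ZMod 2) {b 0}
  let L2 := Ln (b 0) (b 1)
  let P3 := Submodule.span (ZMod 2) (Set.range b)
  have hb : ∀ l, b l ∈ P3 := fun l => Submodule.subset_span ⟨l, rfl⟩
  let Yf : Subgroup G := Y ⊓ stabS ρ L1 ⊓ stabS ρ L2 ⊓ stabS ρ P3
  have mem_Yf : ∀ {g : G} {i j : Fin 3}, g ∈ Y → (i, j) ∈ [(0, 1), (1, 2)] → Mv ρ b g i j → g ∈ Yf := by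
    intro g i j hg hij hm
    have h0 : ρ g (b 0) = b 0 := by
      simp only [List.mem_cons, Prod.mk.injEq, List.not_mem_nil, or_false] at hij
      rcases hij with ⟨rfl, rfl⟩ | ⟨rfl, rfl⟩ <;> simpa using hm 0
    have h1 : ρ g (b 1) ∈ L2 := by
      simp only [List.mem_cons, Prod.mk.injEq, List.not_mem_nil, or_false] at hij
      rcases hij with ⟨rfl, rfl⟩ | ⟨rfl, rfl⟩
      · rw [show ρ g (b 1) = b 1 + b 0 by simpa using hm 1]
        exact add_mem (right_mem_Ln _ _) (left_mem_Ln _ _)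
      · rw [show ρ g (b 1) = b 1 by simpa using hm 1]
        exact right_mem_Ln _ _
    refine ⟨⟨⟨hg, mem_stabS_of_forall fun x hx => ?_⟩,
      mem_stabS_Ln (h0.symm ▸ left_mem_Ln _ _) h1⟩, mem_stabS_of_forall fun x hx => ?_⟩
    · obtain ⟨t, rfl⟩ := Submodule.mem_span_singleton.1 hx
      rw [map_smul, h0]
      exact hx
    · induction hx using Submodule.span_induction with
      | mem x hx =>
        obtain ⟨l, rfl⟩ := hx
        rw [hm l]
        split
        · exact add_mem (hb _) (hb _)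
        · exact hb l
      | zero => simp
      | add x y _ _ hx hy => rw [map_add]; exact add_mem hx hy
      | smul t x _ hx => rw [map_smul]; exact Submodule.smul_mem _ _ hx
  let f := resRep ρ P3 Yf inf_le_right
  have hrange : IsPGroup 2 f.range := by
    rintro ⟨_, ⟨⟨y, hy⟩, rfl⟩⟩
    refine ⟨2, Subtype.ext ?_⟩
    obtain ⟨hy', hy3⟩ := Subgroup.mem_inf.1 hy
    obtain ⟨hy'', hy2⟩ := Subgroup.mem_inf.1 hy'
    obtain ⟨-, hy1⟩ := Subgroup.mem_inf.1 hy''
    rw [SubgroupClass.coe_pow, ← map_pow]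
    refine LinearEquiv.ext fun ⟨x, hx⟩ => Subtype.ext ?_
    rw [resRep_coe, SubgroupClass.coe_pow]
    show ρ (y ^ (2 ^ 2)) x = x
    have k0 : ρ y (b 0) = b 0 := by
      obtain ⟨t, ht⟩ := Submodule.mem_span_singleton.1 (stabS_apply hy1 (Submodule.mem_span_singleton_self (b 0)))
      rcases z2_cases t with rfl | rfl
      · have : b 0 = 0 := by
          have h := ht.symm
          rw [zero_smul] at h
          exact (ρ y).map_eq_zero_iff.1 h
        rw [this, map_zero]
      · rw [← ht, one_smul]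
    have k2 : ∀ z ∈ L2, ρ y (ρ y z) = z := by
      intro z hz
      have e1 : ρ y (b 1) = b 1 ∨ ρ y (b 1) = b 1 + b 0 ∨ ρ y (b 1) = b 0 ∨ ρ y (b 1) = 0 := by
        rcases mem_Ln.1 (stabS_apply hy2 (right_mem_Ln (b 0) (b 1))) with e | e | e | e
        · exact .inr (.inr (.inr e))
        · exact .inr (.inr (.inl e))
        · exact .inl e
        · exact .inr (.inl (by rw [e, add_comm]))
      have e2 : ρ y (ρ y (b 1)) = b 1 := by
        rcases e1 with e | e | e | e
        · rw [e, e]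
        · rw [e, map_add, e, k0, add_assoc, ZModModule.add_self, add_zero]
        · have : b 1 = b 0 := (ρ y).injective (e.trans k0.symm)
          rw [e, k0, this]
        · have : b 1 = 0 := (ρ y).map_eq_zero_iff.1 e
          rw [this, map_zero, map_zero]
      rcases mem_Ln.1 hz with rfl | rfl | rfl | rfl
      · simp
      · rw [k0, k0]
      · exact e2
      · rw [map_add, map_add, k0, k0, e2]
    have k3 : ∀ z, ρ y (ρ y z) = z → ρ (y ^ (2 ^ 2)) z = z := by
      intro z hz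
      show ρ (y ^ 4) z = z
      rw [show y ^ 4 = y * y * y * y by simp [pow_succ, mul_assoc]]
      simp [hz]
    have k5 : b 2 ∈ L2 ∨ ∃ a ∈ L2, ρ y (b 2) = b 2 + a := by
      by_cases h : b 2 ∈ L2
      · exact .inl h
      right
      refine ⟨ρ y (b 2) + b 2, ?_, by rw [add_comm (ρ y (b 2)), ← add_assoc, ZModModule.add_self, zero_add]⟩
      have hmem := stabS_apply (g := y) (S := P3) (ρ := ρ) hy3 (hb 2)
      have hP : P3 = L2 ⊔ Submodule.span (ZMod 2) {b 2} := by
        show Submodule.span (ZMod 2) (Set.range b) = _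
        rw [show L2 = Submodule.span (ZMod 2) {b 0, b 1} from rfl, ← Submodule.span_union]
        congr 1
        ext v
        simp only [Set.mem_range, Fin.exists_fin_succ, Set.mem_union, Set.mem_insert_iff,
          Set.mem_singleton_iff, Fin.succ_zero_eq_one, IsEmpty.exists_iff, or_false]
        tauto
      rw [hP, Submodule.mem_sup] at hmem
      obtain ⟨a, ha, w, hw, hw'⟩ := hmem
      obtain ⟨t, rfl⟩ := Submodule.mem_span_singleton.1 hw
      rcases z2_cases t with rfl | rfl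
      · rw [zero_smul, add_zero] at hw'
        have hin : ρ y (b 2) ∈ L2 := hw' ▸ ha
        exact absurd ((apply_mem_iff hy2).1 hin) h
      · rw [← hw', one_smul, add_assoc, ZModModule.add_self, add_zero]
        exact ha
    induction hx using Submodule.span_induction with
    | mem x hx =>
      obtain ⟨l, rfl⟩ := hx
      match l with
      | 0 => exact k3 _ (k2 _ (left_mem_Ln _ _))
      | 1 => exact k3 _ (k2 _ (right_mem_Ln _ _))
      | 2 =>
        rcases k5 with h | ⟨a, ha, h⟩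
        · exact k3 _ (k2 _ h)
        · show ρ (y ^ 4) (b 2) = b 2
          rw [show y ^ 4 = y * y * y * y by simp [pow_succ, mul_assoc]]
          have := k2 a ha
          simp only [map_mul, LinearEquiv.mul_apply, h, map_add, this]
          abel_nf
          simp [ZModModule.add_self, two_smul]
    | zero => simp
    | add x y _ _ hx hy => rw [map_add, hx, hy]
    | smul t x _ hx => rw [map_smul, hx]
  haveI : Finite f.range := Finite.of_surjective _ f.rangeRestrict_surjective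
  let S : Sylow 2 Yf := default
  have hSsurj : ∀ g : Yf, ∃ s ∈ (S : Subgroup Yf), f s = f g := by
    intro g
    let R := (S : Subgroup Yf).map f.rangeRestrict
    obtain ⟨k, hk⟩ := IsPGroup.iff_card.1 hrange
    have hdvd : R.index ∣ (S : Subgroup Yf).index :=
      Subgroup.index_map_dvd _ f.rangeRestrict_surjective
    have hR : R.index = 1 := by
      obtain ⟨i, -, hi⟩ := (Nat.dvd_prime_pow Nat.prime_two).1 (hk ▸ R.index_dvd_card)
      rcases Nat.eq_zero_or_pos i with h0 | h0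
      · rw [hi, h0, pow_zero]
      · exact absurd ((dvd_pow_self 2 h0.ne').trans (hi ▸ hdvd)) S.not_dvd_index
    obtain ⟨s, hs, hsg⟩ : f.rangeRestrict g ∈ R := Subgroup.index_eq_one.1 hR ▸ Subgroup.mem_top _
    exact ⟨s, hs, congrArg Subtype.val hsg⟩
  obtain ⟨s, hs, hsg⟩ := hSsurj ⟨g1, mem_Yf hg1 (by simp) hm1⟩
  obtain ⟨t, ht, htg⟩ := hSsurj ⟨g2, mem_Yf hg2 (by simp) hm2⟩
  have hs' : Mv ρ b (s : G) 0 1 := fun l => by
    rw [← hm1 l]
    exact congrArg Subtype.val (LinearEquiv.congr_fun hsg ⟨b l, hb l⟩)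
  have ht' : Mv ρ b (t : G) 1 2 := fun l => by
    rw [← hm2 l]
    exact congrArg Subtype.val (LinearEquiv.congr_fun htg ⟨b l, hb l⟩)
  let P := (S : Subgroup Yf).map Yf.subtype
  have hPY : P ≤ Y := (Subgroup.map_subtype_le _).trans (inf_le_left.trans (inf_le_left.trans inf_le_left))
  have hsP : (s : G) ∈ P := ⟨s, hs, rfl⟩
  have htP : (t : G) ∈ P := ⟨t, ht, rfl⟩
  have hq : ⁅(s : G), (t : G)⁆ ∈ Y := by
    rw [commutatorElement_def]
    exact mul_mem (mul_mem (mul_mem (hPY hsP) (hPY htP)) (inv_mem (hPY hsP))) (inv_mem (hPY htP))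
  exact le_of_move hY hmin hQ hq (h2 P hPY (S.isPGroup'.map _) _ hsP _ htP)
    (hs'.comm (by decide) (by decide) (by decide) ht')

end Cfsg.Agent.SingerOver
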