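import Cfsg.Agent.Lib.SingerOver.Split

/-!
An `r`-group without fixed vectors in dimension less than three times the order of two modulo `r`: a
minimal full subgroup normalising it acts trivially; and in odd dimension equal to that order, so does
every `2`-element.
-/

set_option autoImplicit false
set_option linter.style.haveILetI false
set_option linter.unusedSectionVars false

namespace Cfsg.Agent.SingerOver

open scoped commutatorElement

variable {G : Type*} [Group G] [Finite G] {V : Type*} [AddCommGroup V] [Module (ZMod 2) V] [Finite V]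
  (ρ : G →* (V ≃ₗ[ZMod 2] V))

/-- The restriction to a submodule as endomorphisms. -/
def endRes (S : Submodule (ZMod 2) V) : stabS ρ S →* Module.End (ZMod 2) S :=
  LinearEquiv.automorphismGroup.toLinearMapMonoidHom.comp (resRep ρ S (stabS ρ S) le_rfl)

variable {ρ}

@[simp] theorem endRes_coe (S : Submodule (ZMod 2) V) (g : stabS ρ S) (v : S) :
    (endRes ρ S g v : V) = ρ g v := rfl

theorem endRes_eq_one (S : Submodule (ZMod 2) V) (g : stabS ρ S) :
    endRes ρ S g = 1 ↔ (g : G) ∈ ptw ρ S := by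
  constructor
  · intro h v hv
    exact congrArg Subtype.val (LinearMap.congr_fun h ⟨v, hv⟩)
  · intro h
    exact LinearMap.ext fun v => Subtype.ext (h v v.2)

variable (ρ) in
/-- Elements of `A` acting centrally and with order dividing `r` on `S`. -/
def Central (A : Subgroup G) (r : ℕ) (S : Submodule (ZMod 2) V) (x : G) : Prop :=
  x ∈ A ∧ x ^ r ∈ ptw ρ S ∧ ∀ a ∈ A, ⁅x, a⁆ ∈ ptw ρ S

theorem endRes_comm {S : Submodule (ZMod 2) V} {g h : stabS ρ S}
    (hc : ⁅(g : G), (h : G)⁆ ∈ ptw ρ S) : Commute (endRes ρ S g) (endRes ρ S h) := by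
  have h1 : endRes ρ S ⁅g, h⁆ = 1 := (endRes_eq_one S _).2 hc
  show endRes ρ S g * endRes ρ S h = endRes ρ S h * endRes ρ S g
  rw [← map_mul, ← map_mul]
  calc endRes ρ S (g * h) = endRes ρ S (⁅g, h⁆ * (h * g)) := by
        rw [commutatorElement_def]; group
    _ = endRes ρ S (h * g) := by rw [map_mul, h1, one_mul]

theorem mem_fix_zpowers {x : G} {v : V} : v ∈ fixV ρ (Subgroup.zpowers x) ↔ ρ x v = v := by
  refine ⟨fun h => h x (Subgroup.mem_zpowers x), fun h a ha => ?_⟩
  obtain ⟨i, rfl⟩ := Subgroup.mem_zpowers_iff.1 ha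
  have h1 : x ^ i ∈ stabP (toP ρ) v := zpow_mem (show x ∈ stabP (toP ρ) v from h) i
  exact h1

variable {r : ℕ} [Fact r.Prime] {A : Subgroup G}

theorem exists_central (hA : IsPGroup r A) {S : Submodule (ZMod 2) V} (hS : A ≤ stabS ρ S)
    (hne : S ≠ ⊥) (hf : S ⊓ fixV ρ A = ⊥) : ∃ x, Central ρ A r S x ∧ x ∉ ptw ρ S := by
  classical
  let f := resRep ρ S A hS
  have hR : IsPGroup r f.range := hA.of_surjective f.rangeRestrict f.rangeRestrict_surjective
  haveI : Finite f.range := Finite.of_surjective _ f.rangeRestrict_surjective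
  have hnt : Nontrivial f.range := by
    rw [Subgroup.nontrivial_iff_ne_bot]
    intro hb
    refine hne (le_bot_iff.1 fun v hv => hf.le ⟨hv, fun a ha => ?_⟩)
    have h1 : f ⟨a, ha⟩ = 1 := by
      have : f ⟨a, ha⟩ ∈ f.range := ⟨_, rfl⟩
      rwa [hb, Subgroup.mem_bot] at this
    exact congrArg Subtype.val (LinearEquiv.congr_fun h1 ⟨v, hv⟩)
  haveI := hR.center_nontrivial
  obtain ⟨k, hk⟩ := IsPGroup.iff_card.1 (hR.to_subgroup (Subgroup.center f.range))
  have hdvd : r ∣ Nat.card (Subgroup.center f.range) := by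
    rw [hk]
    refine dvd_pow_self r ?_
    rintro rfl
    rw [pow_zero] at hk
    exact absurd hk Finite.one_lt_card.ne'
  obtain ⟨⟨⟨z, x, rfl⟩, hzc⟩, hz⟩ := exists_prime_orderOf_dvd_card' r hdvd
  replace hz : orderOf (f x) = r := (Subgroup.orderOf_coe _).trans ((Subgroup.orderOf_coe _).trans hz)
  refine ⟨x, ⟨x.2, fun v hv => ?_, fun a ha v hv => ?_⟩, fun hx => ?_⟩
  · have h1 : f (x ^ r) = 1 := by rw [map_pow, ← hz, pow_orderOf_eq_one]
    exact congrArg Subtype.val (LinearEquiv.congr_fun h1 ⟨v, hv⟩)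
  · have h1 : f ⁅x, ⟨a, ha⟩⁆ = 1 := by
      rw [map_commutatorElement, commutatorElement_eq_one_iff_commute]
      exact (congrArg Subtype.val (Subgroup.mem_center_iff.1 hzc ⟨f ⟨a, ha⟩, _, rfl⟩)).symm
    exact congrArg Subtype.val (LinearEquiv.congr_fun h1 ⟨v, hv⟩)
  · have h1 : f x = 1 := LinearEquiv.ext fun v => Subtype.ext (hx v v.2)
    rw [h1, orderOf_one] at hz
    exact (Fact.out : r.Prime).ne_one hz.symm

theorem Central.conj {S : Submodule (ZMod 2) V} {x y : G} (h : Central ρ A r S x)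
    (hy : y ∈ Subgroup.normalizer (A : Set G)) (hyS : y ∈ stabS ρ S) :
    Central ρ A r S (y * x * y⁻¹) := by
  refine ⟨(Subgroup.mem_normalizer_iff.1 hy x).1 h.1, ?_, fun a ha => ?_⟩
  · rw [conj_pow]
    exact conj_ptw hyS h.2.1
  · have h1 := conj_ptw hyS (h.2.2 (y⁻¹ * a * y) ((Subgroup.mem_normalizer_iff''.1 hy a).1 ha))
    have e : y * ⁅x, y⁻¹ * a * y⁆ * y⁻¹ = ⁅y * x * y⁻¹, a⁆ := by
      simp only [commutatorElement_def]; group
    rwa [e] at h1

theorem Central.one {S : Submodule (ZMod 2) V} : Central ρ A r S 1 :=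
  ⟨one_mem _, by rw [one_pow]; exact one_mem _, fun a _ => by
    rw [show ⁅(1 : G), a⁆ = 1 by simp [commutatorElement_def]]; exact one_mem _⟩

theorem Central.mul {S : Submodule (ZMod 2) V} {x x' : G} (hS : A ≤ stabS ρ S) (h : Central ρ A r S x)
    (h' : Central ρ A r S x') : Central ρ A r S (x * x') := by
  refine ⟨mul_mem h.1 h'.1, ?_, fun a ha => ?_⟩
  · let gx : stabS ρ S := ⟨x, hS h.1⟩
    let gx' : stabS ρ S := ⟨x', hS h'.1⟩
    have hc : Commute (endRes ρ S gx) (endRes ρ S gx') := endRes_comm (h.2.2 x' h'.1)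
    have h1 : endRes ρ S ((gx * gx') ^ r) = 1 := by
      rw [map_pow, map_mul, hc.mul_pow, ← map_pow, ← map_pow, (endRes_eq_one S (gx ^ r)).2 h.2.1,
        (endRes_eq_one S (gx' ^ r)).2 h'.2.1, one_mul]
    exact (endRes_eq_one S _).1 h1
  · have e : ⁅x * x', a⁆ = x * ⁅x', a⁆ * x⁻¹ * ⁅x, a⁆ := by
      simp only [commutatorElement_def]; group
    rw [e]
    exact mul_mem (conj_ptw (hS h.1) (h'.2.2 a ha)) (h.2.2 a ha)

theorem Central.pow {S : Submodule (ZMod 2) V} {x : G} (hS : A ≤ stabS ρ S) (h : Central ρ A r S x) :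
    ∀ i : ℕ, Central ρ A r S (x ^ i)
  | 0 => by rw [pow_zero]; exact Central.one
  | i + 1 => by rw [pow_succ]; exact (Central.pow hS h i).mul hS h

theorem geom_zero {M : Type*} [AddCommGroup M] [Module (ZMod 2) M] {Y : Module.End (ZMod 2) M} {r : ℕ}
    (h : Y ^ r = 1) (hf : ∀ v, Y v = v → v = 0) : ∑ j ∈ Finset.range r, Y ^ j = 0 := by
  refine LinearMap.ext fun v => hf _ ?_
  have h1 := congrArg (fun T : Module.End (ZMod 2) M => T v) (mul_geom_sum Y r)
  simp only [h, sub_self, Module.End.mul_apply, LinearMap.sub_apply, Module.End.one_apply,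
    LinearMap.zero_apply, sub_eq_zero] at h1
  exact h1

/-- If all non-trivial central elements act without fixed vectors they form a cyclic group on `S`. -/
theorem central_cyclic (hr2 : r ≠ 2) {S : Submodule (ZMod 2) V} (hS : A ≤ stabS ρ S) (hne : S ≠ ⊥)
    (hall : ∀ z, Central ρ A r S z → z ∉ ptw ρ S → S ⊓ fixV ρ (Subgroup.zpowers z) = ⊥)
    {x x' : G} (hx : Central ρ A r S x) (hxn : x ∉ ptw ρ S) (hx' : Central ρ A r S x') :
    ∃ i : ℕ, (x' * x ^ i) ∈ ptw ρ S := by
  by_contra hc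
  push Not at hc
  let gx : stabS ρ S := ⟨x, hS hx.1⟩
  let gx' : stabS ρ S := ⟨x', hS hx'.1⟩
  let X := endRes ρ S gx
  let X' := endRes ρ S gx'
  have hXr : X ^ r = 1 := by rw [← map_pow]; exact (endRes_eq_one S _).2 hx.2.1
  have hX'r : X' ^ r = 1 := by rw [← map_pow]; exact (endRes_eq_one S _).2 hx'.2.1
  have hcom : Commute X' X := endRes_comm (hx'.2.2 x hx.1)
  have hfp : ∀ (g : stabS ρ S), S ⊓ fixV ρ (Subgroup.zpowers (g : G)) = ⊥ →
      ∀ v, endRes ρ S g v = v → v = 0 := by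
    intro g hg v hv
    have : (v : V) ∈ S ⊓ fixV ρ (Subgroup.zpowers (g : G)) :=
      ⟨v.2, mem_fix_zpowers.2 (congrArg Subtype.val hv)⟩
    rw [hg, Submodule.mem_bot] at this
    exact Subtype.ext this
  -- powers of `X`
  have hpow : ∀ j, j ≠ 0 → j < r → ∑ i ∈ Finset.range r, (X ^ j) ^ i = 0 := by
    intro j hj0 hj
    refine geom_zero (by rw [← pow_mul, mul_comm, pow_mul, hXr, one_pow]) ?_
    show ∀ v, ((endRes ρ S gx) ^ j) v = v → v = 0
    rw [← map_pow]
    refine hfp _ (hall _ (hx.pow hS j) ?_)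
    intro hmem
    have h1 : X ^ j = 1 := by rw [← map_pow]; exact (endRes_eq_one S _).2 hmem
    have h2 : X = 1 := by
      have := pow_gcd_eq_one.2 ⟨h1, hXr⟩
      rwa [((Fact.out : r.Prime).coprime_iff_not_dvd.2 fun h =>
        absurd (Nat.le_of_dvd (Nat.pos_of_ne_zero hj0) h) (by omega)).symm.gcd_eq_one, pow_one] at this
    exact hxn ((endRes_eq_one S gx).1 h2)
  have hY : ∀ i, ∑ j ∈ Finset.range r, (X' * X ^ i) ^ j = 0 := by
    intro i
    refine geom_zero (by rw [(hcom.pow_right i).mul_pow, hX'r, ← pow_mul, mul_comm, pow_mul, hXr,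
      one_pow, one_mul]) ?_
    show ∀ v, (endRes ρ S gx' * (endRes ρ S gx) ^ i) v = v → v = 0
    rw [← map_pow, ← map_mul]
    exact hfp _ (hall _ (hx'.mul hS (hx.pow hS i)) (hc i))
  have hsum : ∑ i ∈ Finset.range r, ∑ j ∈ Finset.range r, (X' * X ^ i) ^ j = 0 :=
    Finset.sum_eq_zero fun i _ => hY i
  rw [Finset.sum_comm] at hsum
  have hterm : ∀ j ∈ Finset.range r, ∑ i ∈ Finset.range r, (X' * X ^ i) ^ j =
      if j = 0 then 1 else 0 := by
    intro j hj
    by_cases hj0 : j = 0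
    · subst hj0
      simp only [pow_zero, Finset.sum_const, Finset.card_range, ↓reduceIte]
      rw [← Nat.cast_smul_eq_nsmul (ZMod 2),
        ZMod.natCast_eq_one_iff_odd.2 ((Fact.out : r.Prime).odd_of_ne_two hr2), one_smul]
    · rw [if_neg hj0]
      calc ∑ i ∈ Finset.range r, (X' * X ^ i) ^ j = ∑ i ∈ Finset.range r, X' ^ j * (X ^ j) ^ i := by
            refine Finset.sum_congr rfl fun i _ => ?_
            rw [(hcom.pow_right i).mul_pow, ← pow_mul, mul_comm i j, pow_mul]
        _ = 0 := by rw [← Finset.mul_sum, hpow j hj0 (Finset.mem_range.1 hj), mul_zero]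
  rw [Finset.sum_congr rfl hterm, Finset.sum_ite_eq' (Finset.range r) 0 (fun _ => (1 : Module.End (ZMod 2) S)),
    if_pos (Finset.mem_range.2 (Fact.out : r.Prime).pos)] at hsum
  refine hne (le_bot_iff.1 fun v hv => ?_)
  exact congrArg Subtype.val (LinearMap.congr_fun hsum ⟨v, hv⟩)

theorem stabS_zpowers {S : Submodule (ZMod 2) V} {x : G} (hx : x ∈ stabS ρ S) :
    Subgroup.zpowers x ≤ stabS ρ S := Subgroup.zpowers_le.2 hx

/-- Two elements commuting on `S`: the fixed and moved parts of one are invariant under the other. -/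
theorem pieces_invariant {S : Submodule (ZMod 2) V} {x g : G} (hx : x ∈ stabS ρ S) (hg : g ∈ stabS ρ S)
    (hc : ⁅x, g⁆ ∈ ptw ρ S) :
    g ∈ stabS ρ (S ⊓ fixV ρ (Subgroup.zpowers x)) ∧ g ∈ stabS ρ (S ⊓ movV ρ (Subgroup.zpowers x)) := by
  have hcomm : ∀ v ∈ S, ∀ a ∈ Subgroup.zpowers x, ρ g (ρ a v) = ρ a (ρ g v) := by
    intro v hv a ha
    obtain ⟨i, rfl⟩ := Subgroup.mem_zpowers_iff.1 ha
    have h1 : Commute (resRep ρ S (stabS ρ S) le_rfl ⟨x, hx⟩) (resRep ρ S (stabS ρ S) le_rfl ⟨g, hg⟩) := by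
      rw [← commutatorElement_eq_one_iff_commute, ← map_commutatorElement]
      exact LinearEquiv.ext fun v => Subtype.ext (hc v v.2)
    have h2 := (h1.zpow_left i).eq
    rw [← map_zpow] at h2
    exact (congrArg (fun T : S ≃ₗ[ZMod 2] S => (T ⟨v, hv⟩ : V)) h2).symm
  constructor
  · refine mem_stabS_of_forall fun v hv => ⟨stabS_apply hg hv.1, fun a ha => ?_⟩
    rw [← hcomm v hv.1 a ha, hv.2 a ha]
  · refine mem_stabS_of_forall fun v hv => ⟨stabS_apply hg hv.1, ?_⟩
    show ρ g v ∈ LinearMap.ker _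
    rw [LinearMap.mem_ker, avg_apply_of_comm _ (hcomm v hv.1),
      show avg ρ (Subgroup.zpowers x) v = 0 from hv.2, map_zero]

variable {b : Fin 3 → V} {Y : Subgroup G} {e : ℕ}

theorem inf_fix_eq_bot {S T : Submodule (ZMod 2) V} {A : Subgroup G} (h : T ≤ S)
    (hf : S ⊓ fixV ρ A = ⊥) : T ⊓ fixV ρ A = ⊥ :=
  le_bot_iff.1 ((inf_le_inf_right _ h).trans hf.le)

/-- The main vanishing statement. -/
theorem kill (hr2 : r ≠ 2) (hA : IsPGroup r A) (he : ∀ k, r ∣ 2 ^ k - 1 → e ∣ k) (hY : Full ρ b Y)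
    (hmin : ∀ Y' ≤ Y, Full ρ b Y' → Y' = Y) (hYN : Y ≤ Subgroup.normalizer (A : Set G)) :
    ∀ (m : ℕ) (S : Submodule (ZMod 2) V), Module.finrank (ZMod 2) S = m → A ≤ stabS ρ S →
      Y ≤ stabS ρ S → S ⊓ fixV ρ A = ⊥ → Module.finrank (ZMod 2) S < 3 * e → Y ≤ ptw ρ S := by
  classical
  haveI : Module.Finite (ZMod 2) V := Module.Finite.of_finite
  intro m
  induction m using Nat.strong_induction_on with
  | _ m ih =>
  intro S hm hSA hSY hf hlt
  by_cases hne : S = ⊥
  · intro y _ v hv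
    rw [hne, Submodule.mem_bot] at hv
    rw [hv, map_zero]
  have hdim : ∀ T : Submodule (ZMod 2) V, T ≤ S → A ≤ stabS ρ T → e ∣ Module.finrank (ZMod 2) T :=
    fun T hT hTA => he _ (dvd_of_fpf hA hTA (inf_fix_eq_bot hT hf))
  have pos : ∀ T : Submodule (ZMod 2) V, T ≠ ⊥ → 0 < Module.finrank (ZMod 2) T := fun T h =>
    Nat.pos_of_ne_zero fun h0 => h (Submodule.finrank_eq_zero.1 h0)
  by_cases htwo : ∃ x, Central ρ A r S x ∧ x ∉ ptw ρ S ∧ S ⊓ fixV ρ (Subgroup.zpowers x) ≠ ⊥
  · -- two pieces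
    obtain ⟨x, hxc, hxn, hxf⟩ := htwo
    have hxS := hSA hxc.1
    have hox : Odd (Nat.card (Subgroup.zpowers x)) := odd_card hr2 (hA.to_le (Subgroup.zpowers_le.2 hxc.1))
    let W1 := S ⊓ fixV ρ (Subgroup.zpowers x)
    let W2 := S ⊓ movV ρ (Subgroup.zpowers x)
    have hA1 : A ≤ stabS ρ W1 := fun a ha => (pieces_invariant hxS (hSA ha) (hxc.2.2 a ha)).1
    have hA2 : A ≤ stabS ρ W2 := fun a ha => (pieces_invariant hxS (hSA ha) (hxc.2.2 a ha)).2
    obtain ⟨hsup, hadd⟩ := finrank_fix_mov hox (stabS_zpowers hxS)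
    have hW2 : W2 ≠ ⊥ := by
      intro h
      apply hxn
      intro v hv
      have : v ∈ W1 ⊔ W2 := hsup.symm ▸ hv
      rw [h, sup_bot_eq] at this
      exact mem_fix_zpowers.1 this.2
    have hd1 := hdim W1 inf_le_left hA1
    have hd2 := hdim W2 inf_le_left hA2
    have p1 : 0 < Module.finrank (ZMod 2) W1 := pos _ hxf
    have p2 : 0 < Module.finrank (ZMod 2) W2 := pos _ hW2
    change Module.finrank (ZMod 2) W1 + Module.finrank (ZMod 2) W2 = _ at hadd
    have eq1 : Module.finrank (ZMod 2) W1 = e ∧ Module.finrank (ZMod 2) W2 = e := by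
      obtain ⟨i, hi⟩ := hd1
      obtain ⟨j, hj⟩ := hd2
      have hij : i + j < 3 := Nat.lt_of_mul_lt_mul_left (a := e) (by rw [mul_add, ← hi, ← hj]; omega)
      have hi0 : i ≠ 0 := by rintro rfl; rw [mul_zero] at hi; omega
      have hj0 : j ≠ 0 := by rintro rfl; rw [mul_zero] at hj; omega
      obtain ⟨rfl, rfl⟩ : i = 1 ∧ j = 1 := by omega
      exact ⟨by rw [hi, mul_one], by rw [hj, mul_one]⟩
    have hdisj : W1 ⊓ W2 = ⊥ :=
      le_bot_iff.1 ((inf_le_inf inf_le_right inf_le_right).trans (isCompl_fix_mov hox).inf_eq_bot.le)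
    have huniq : ∀ T : Submodule (ZMod 2) V, T ≤ S → A ≤ stabS ρ T →
        Module.finrank (ZMod 2) T = e → T = W1 ∨ T = W2 := by
      intro T hT hTA hTe
      obtain ⟨hs, ha⟩ := finrank_fix_mov hox (stabS_zpowers (hTA hxc.1))
      have hxT := hTA hxc.1
      have k1 := hdim (T ⊓ fixV ρ (Subgroup.zpowers x)) (inf_le_left.trans hT) fun a ha' =>
        (pieces_invariant hxT (hTA ha') (fun v hv => hxc.2.2 a ha' v (hT hv))).1
      rcases Nat.eq_zero_or_pos (Module.finrank (ZMod 2) ↥(T ⊓ fixV ρ (Subgroup.zpowers x))) with h0 | h0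
      · right
        have hle : T ≤ W2 := by
          rw [← hs, Submodule.finrank_eq_zero.1 h0, bot_sup_eq]
          exact inf_le_inf_right _ hT
        exact Submodule.eq_of_le_of_finrank_eq hle (hTe.trans eq1.2.symm)
      · left
        have := Nat.le_of_dvd h0 k1
        have hle : T ≤ W1 := by
          rw [← hs, Submodule.finrank_eq_zero.1 (show Module.finrank (ZMod 2)
            ↥(T ⊓ movV ρ (Subgroup.zpowers x)) = 0 by omega), sup_bot_eq]
          exact inf_le_inf_right _ hT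
        exact Submodule.eq_of_le_of_finrank_eq hle (hTe.trans eq1.1.symm)
    have himg : ∀ y ∈ Y, ∀ W : Submodule (ZMod 2) V, W ≤ S → A ≤ stabS ρ W →
        A ≤ stabS ρ (W.map (ρ y : V →ₗ[ZMod 2] V)) := by
      intro y hy W _ hW a ha
      refine mem_stabS_of_forall ?_
      rintro _ ⟨v, hv, rfl⟩
      exact ⟨ρ (y⁻¹ * a * y) v, stabS_apply (hW ((Subgroup.mem_normalizer_iff''.1 (hYN hy) a).1 ha)) hv,
        by simp⟩
    let act : G → Submodule (ZMod 2) V → Submodule (ZMod 2) V := fun g T => T.map (ρ g : V →ₗ[ZMod 2] V)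
    have hne12 : W1 ≠ W2 := fun h => by
      rw [h, inf_idem] at hdisj
      exact hW2 hdisj
    have hperm : ∀ y ∈ Y, (act y W1 = W1 ∧ act y W2 = W2) ∨ (act y W1 = W2 ∧ act y W2 = W1) := by
      intro y hy
      have hs : ∀ W, W ≤ S → act y W ≤ S := fun W hW => by
        rintro _ ⟨v, hv, rfl⟩; exact stabS_apply (hSY hy) (hW hv)
      have hinj : act y W1 ≠ act y W2 := fun h =>
        hne12 (Submodule.map_injective_of_injective (ρ y).injective h)
      rcases huniq _ (hs W1 inf_le_left) (himg y hy W1 inf_le_left hA1)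
          ((LinearEquiv.finrank_map_eq _ _).trans eq1.1) with h1 | h1 <;>
        rcases huniq _ (hs W2 inf_le_left) (himg y hy W2 inf_le_left hA2)
          ((LinearEquiv.finrank_map_eq _ _).trans eq1.2) with h2 | h2
      · exact absurd (h1.trans h2.symm) hinj
      · exact .inl ⟨h1, h2⟩
      · exact .inr ⟨h1, h2⟩
      · exact absurd (h1.trans h2.symm) hinj
    have hact : ∀ g h T, act (g * h) T = act g (act h T) := by
      intro g h T
      show T.map _ = (T.map _).map _
      rw [← Submodule.map_comp, map_mul]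
      rfl
    have hYW1 : Y ≤ stabS ρ W1 := by
      refine le_of_comm hY hmin fun y hy z hz => ?_
      show act ⁅y, z⁆ W1 = W1
      rw [commutatorElement_def, hact, hact, hact]
      have hinv : ∀ g ∈ Y, act g W1 = W2 → act g⁻¹ W1 = W2 ∧ act g⁻¹ W2 = W1 := by
        intro g hg h
        rcases hperm g⁻¹ (inv_mem hg) with ⟨a1, a2⟩ | hh
        · exfalso
          have := hact g g⁻¹ W1
          rw [mul_inv_cancel, a1, h] at this
          apply hne12
          rw [← this]
          show W1 = W1.map _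
          rw [map_one]
          exact (Submodule.map_id W1).symm
        · exact hh
      have hinv' : ∀ g ∈ Y, act g W1 = W1 → act g⁻¹ W1 = W1 ∧ act g⁻¹ W2 = W2 := by
        intro g hg h
        rcases hperm g⁻¹ (inv_mem hg) with hh | ⟨a1, a2⟩
        · exact hh
        · exfalso
          have := hact g⁻¹ g W1
          rw [inv_mul_cancel, h, a1] at this
          apply hne12
          rw [← this]
          show W1 = W1.map _
          rw [map_one]
          exact (Submodule.map_id W1).symm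
      rcases hperm y hy with ⟨y1, y2⟩ | ⟨y1, y2⟩ <;> rcases hperm z hz with ⟨z1, z2⟩ | ⟨z1, z2⟩
      · obtain ⟨a, a'⟩ := hinv' z hz z1; obtain ⟨c, c'⟩ := hinv' y hy y1; rw [a, c, z1, y1]
      · obtain ⟨a, a'⟩ := hinv z hz z1; obtain ⟨c, c'⟩ := hinv' y hy y1; rw [a, c', z2, y1]
      · obtain ⟨a, a'⟩ := hinv' z hz z1; obtain ⟨c, c'⟩ := hinv y hy y1; rw [a, c, z2, y2]
      · obtain ⟨a, a'⟩ := hinv z hz z1; obtain ⟨c, c'⟩ := hinv y hy y1; rw [a, c', z1, y2]
    have hYW2 : Y ≤ stabS ρ W2 := fun y hy => by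
      rcases hperm y hy with ⟨-, h⟩ | ⟨h, -⟩
      · exact h
      · exact absurd ((hYW1 hy : act y W1 = W1).symm.trans h) hne12
    have i1 := ih _ (by omega) W1 rfl hA1 hYW1 (inf_fix_eq_bot inf_le_left hf) (by omega)
    have i2 := ih _ (by omega) W2 rfl hA2 hYW2 (inf_fix_eq_bot inf_le_left hf) (by omega)
    intro y hy v hv
    rw [← hsup, Submodule.mem_sup] at hv
    obtain ⟨v1, h1, v2, h2, rfl⟩ := hv
    rw [map_add, i1 hy v1 h1, i2 hy v2 h2]
  · -- all central elements are fixed point free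
    push Not at htwo
    obtain ⟨x, hxc, hxn⟩ := exists_central hA hSA hne hf
    have hxS := hSA hxc.1
    have hcent : ∀ y ∈ Y, ⁅x, y⁆ ∈ ptw ρ S := by
      let F := resRep ρ S (stabS ρ S) le_rfl
      let X := F ⟨x, hxS⟩
      let Q := ((Subgroup.centralizer {X}).comap F).map (stabS ρ S).subtype
      have hpow : ∀ y ∈ Y, ∃ i : ℕ, ∀ hys : y ∈ stabS ρ S,
          F ⟨y, hys⟩ * X * (F ⟨y, hys⟩)⁻¹ = (X ^ i)⁻¹ := by
        intro y hy
        obtain ⟨i, hi⟩ := central_cyclic hr2 hSA hne htwo hxc hxn (hxc.conj (hYN hy) (hSY hy))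
        refine ⟨i, fun hys => eq_inv_of_mul_eq_one_left ?_⟩
        rw [← map_inv, ← map_mul, ← map_mul, ← map_pow, ← map_mul]
        exact LinearEquiv.ext fun v => Subtype.ext (hi v v.2)
      have hQ : Y ≤ Q := by
        refine le_of_comm hY hmin fun y hy z hz => ?_
        have hys := hSY hy
        have hzs := hSY hz
        refine ⟨⁅(⟨y, hys⟩ : stabS ρ S), ⟨z, hzs⟩⁆, ?_, rfl⟩
        show F ⁅_, _⁆ ∈ Subgroup.centralizer {X}
        rw [map_commutatorElement, Subgroup.mem_centralizer_singleton_iff]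
        obtain ⟨i, hi⟩ := hpow y hy
        obtain ⟨i', hi'⟩ := hpow y⁻¹ (inv_mem hy)
        obtain ⟨j, hj⟩ := hpow z hz
        obtain ⟨j', hj'⟩ := hpow z⁻¹ (inv_mem hz)
        have key : ∀ (g : S ≃ₗ[ZMod 2] S) (k : ℕ), g * X * g⁻¹ = (X ^ k)⁻¹ → ∀ l : ℤ,
            g * X ^ l * g⁻¹ = X ^ (-(k : ℤ) * l) := by
          intro g k hk l
          rw [← conj_zpow, hk, zpow_mul, zpow_neg, zpow_natCast]
        have a' := hi' (inv_mem hys)
        have b' := hj' (inv_mem hzs)
        rw [show (⟨y⁻¹, inv_mem hys⟩ : stabS ρ S) = (⟨y, hys⟩ : stabS ρ S)⁻¹ from rfl, map_inv] at a'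
        rw [show (⟨z⁻¹, inv_mem hzs⟩ : stabS ρ S) = (⟨z, hzs⟩ : stabS ρ S)⁻¹ from rfl, map_inv] at b'
        have c1 := key _ _ b' 1
        rw [zpow_one, inv_inv] at c1
        have c2 := key _ _ a' (-(j' : ℤ) * 1)
        rw [inv_inv] at c2
        have d1 := key _ _ a' 1
        rw [zpow_one, inv_inv] at d1
        have d2 := key _ _ b' (-(i' : ℤ) * 1)
        rw [inv_inv] at d2
        set a := F ⟨y, hys⟩
        set c := F ⟨z, hzs⟩
        have hh : a⁻¹ * (c⁻¹ * X * c) * a = c⁻¹ * (a⁻¹ * X * a) * c := by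
          rw [c1, c2, d1, d2]; congr 1; ring
        calc a * c * a⁻¹ * c⁻¹ * X = a * c * (a⁻¹ * (c⁻¹ * X * c) * a) * a⁻¹ * c⁻¹ := by group
          _ = a * c * (c⁻¹ * (a⁻¹ * X * a) * c) * a⁻¹ * c⁻¹ := by rw [hh]
          _ = X * (a * c * a⁻¹ * c⁻¹) := by group
      intro y hy v hv
      obtain ⟨g, hg, rfl⟩ := hQ hy
      have hg' : Commute (F g) X :=
        Subgroup.mem_centralizer_singleton_iff.1 hg
      have h1 : F ⁅(⟨x, hxS⟩ : stabS ρ S), g⁆ = 1 := by
        rw [map_commutatorElement, commutatorElement_eq_one_iff_commute]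
        exact hg'.symm
      exact congrArg Subtype.val (LinearEquiv.congr_fun h1 ⟨v, hv⟩)
    refine le_of_comm_two hY hmin (fun y hy q hq => conj_ptw (hSY hy) hq) fun P hPY hP s hs t ht => ?_
    have hXP : IsPGroup r (Subgroup.zpowers x) := hA.to_le (Subgroup.zpowers_le.2 hxc.1)
    have hxf := htwo x hxc hxn
    have hdimx : ∀ T : Submodule (ZMod 2) V, T ≤ S → x ∈ stabS ρ T → e ∣ Module.finrank (ZMod 2) T :=
      fun T hT hxT => he _ (dvd_of_fpf hXP (stabS_zpowers hxT) (inf_fix_eq_bot hT hxf))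
    have hxP : ∀ p ∈ P, ∀ v ∈ S, ρ x (ρ p v) = ρ p (ρ x v) := by
      intro p hp v hv
      have h := hcent p (hPY hp) (ρ p (ρ x v)) (stabS_apply (hSY (hPY hp)) (stabS_apply hxS hv))
      simpa [commutatorElement_def] using h
    have hPS : P ≤ stabS ρ S := hPY.trans hSY
    let C := S ⊓ fixV ρ P
    have hCP : P ≤ stabS ρ C := fun p hp => mem_stabS_of_forall fun v hv => by
      rw [hv.2 p hp]; exact hv
    have hxC : x ∈ stabS ρ C := mem_stabS_of_forall fun v hv =>
      ⟨stabS_apply hxS hv.1, fun p hp => by rw [← hxP p hp v hv.1, hv.2 p hp]⟩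
    by_cases hCS : C = S
    · intro v hv
      rw [← hCS] at hv
      have e1 := hv.2 ⁅s, t⁆ (by
        rw [commutatorElement_def]
        exact mul_mem (mul_mem (mul_mem hs ht) (inv_mem hs)) (inv_mem ht))
      exact e1
    let C1 : Submodule (ZMod 2) V :=
      { carrier := {v | v ∈ S ∧ ∀ p ∈ P, ρ p v + v ∈ C}
        zero_mem' := ⟨zero_mem _, fun p _ => by simp⟩
        add_mem' := fun {u v} hu hv => ⟨add_mem hu.1 hv.1, fun p hp => by
          rw [map_add, add_add_add_comm]; exact add_mem (hu.2 p hp) (hv.2 p hp)⟩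
        smul_mem' := fun k v hv => ⟨Submodule.smul_mem _ _ hv.1, fun p hp => by
          rw [map_smul, ← smul_add]; exact Submodule.smul_mem _ _ (hv.2 p hp)⟩ }
    have hCC1 : C < C1 := by
      refine lt_of_le_of_ne (fun v hv => ⟨hv.1, fun p hp => by
        rw [hv.2 p hp, ZModModule.add_self]; exact zero_mem _⟩) fun heq => ?_
      haveI : Finite (V ⧸ C) := Finite.of_surjective _ C.mkQ_surjective
      let q := quotRep ρ C P hCP
      let S' := S.map C.mkQ
      have hS'ne : S' ≠ ⊥ := by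
        intro h
        refine hCS (le_antisymm inf_le_left fun v hv => ?_)
        have h1 : C.mkQ v ∈ S' := Submodule.mem_map_of_mem hv
        rw [h, Submodule.mem_bot, Submodule.mkQ_apply, Submodule.Quotient.mk_eq_zero] at h1
        exact h1
      have hP' : (⊤ : Subgroup P) ≤ stabS q S' := fun p _ => mem_stabS_of_forall (by
        rintro _ ⟨v, hv, rfl⟩
        exact ⟨ρ p v, stabS_apply (hPS p.2) hv, (quotRep_mk ρ C P hCP p v).symm⟩)
      obtain ⟨w, hw, hw0⟩ := Submodule.exists_mem_ne_zero_of_ne_bot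
        (two_fixed (ρ := q) (hP.to_subgroup _) hP' hS'ne)
      obtain ⟨⟨v, hv, rfl⟩, hwfix⟩ : w ∈ S' ∧ w ∈ fixV q ⊤ := hw
      apply hw0
      rw [Submodule.mkQ_apply, Submodule.Quotient.mk_eq_zero, heq]
      refine ⟨hv, fun p hp => ?_⟩
      have h1 := hwfix ⟨p, hp⟩ (Subgroup.mem_top _)
      rw [quotRep_mk, Submodule.mkQ_apply, Submodule.mkQ_apply, Submodule.Quotient.eq] at h1
      rwa [ZModModule.sub_eq_add] at h1
    have hxC1 : x ∈ stabS ρ C1 := mem_stabS_of_forall fun v hv => ⟨stabS_apply hxS hv.1, fun p hp => by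
      rw [← hxP p hp v hv.1, ← map_add]; exact stabS_apply hxC (hv.2 p hp)⟩
    have hC1S : C1 = S := by
      have hle : C1 ≤ S := fun v hv => hv.1
      refine Submodule.eq_of_le_of_finrank_eq hle ?_
      have p1 : 0 < Module.finrank (ZMod 2) C := pos _ (two_fixed hP hPS hne)
      have p2 := Submodule.finrank_lt_finrank_of_lt hCC1
      have p3 := Submodule.finrank_mono hle
      obtain ⟨i, hi⟩ := hdimx C inf_le_left hxC
      obtain ⟨j, hj⟩ := hdimx C1 hle hxC1
      obtain ⟨k, hk⟩ := hdimx S le_rfl hxS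
      rw [hi] at p1 p2
      rw [hj] at p2 p3 ⊢
      rw [hk] at p3 hlt ⊢
      have q1 : 0 < i := Nat.pos_of_mul_pos_left p1
      have q2 : i < j := Nat.lt_of_mul_lt_mul_left p2
      have q3 : k < 3 := Nat.lt_of_mul_lt_mul_left (a := e) (by rw [mul_comm e 3]; exact hlt)
      have q4 : j ≤ k := Nat.le_of_mul_le_mul_left p3 (Nat.pos_of_mul_pos_right p1)
      rw [show j = k by omega]
    intro v hv
    have hmem : ∀ p ∈ P, ρ p v + v ∈ C := fun p hp => by
      have : v ∈ C1 := hC1S.symm ▸ hv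
      exact this.2 p hp
    have hval : ∀ p ∈ P, ∀ q ∈ P, ρ (p * q) v = v + (ρ p v + v) + (ρ q v + v) := by
      intro p hp q hq
      have h1 := (hmem q hq).2 p hp
      rw [map_add] at h1
      rw [map_mul, LinearEquiv.mul_apply, eq_iff_add_eq_zero]
      rw [eq_iff_add_eq_zero] at h1
      calc _ = (ρ p (ρ q v) + ρ p v + (ρ q v + v)) + (v + v) := by abel
        _ = 0 := by rw [h1, ZModModule.add_self, add_zero]
    have hst : ρ (s * t) v = ρ (t * s) v := by rw [hval s hs t ht, hval t ht s hs]; abel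
    have hcomm : ρ ⁅s, t⁆ (ρ (t * s) v) = ρ (s * t) v := by
      rw [← LinearEquiv.mul_apply, ← map_mul, commutatorElement_def]
      congr 2
      group
    -- every vector of `S` is of this form
    rw [← hst] at hcomm
    have hCv : ρ (s * t) v + v ∈ C := hmem _ (mul_mem hs ht)
    have hfx := hCv.2 ⁅s, t⁆ (by
      rw [commutatorElement_def]
      exact mul_mem (mul_mem (mul_mem hs ht) (inv_mem hs)) (inv_mem ht))
    rw [map_add, hcomm] at hfx
    exact add_left_cancel hfx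

end Cfsg.Agent.SingerOver
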