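import Cfsg.Agent.Lib.SingerOver.Kill

/-!
A `2`-element normalising an `r`-group which acts irreducibly in odd dimension equal to the order of two
modulo `r` acts trivially.
-/

set_option autoImplicit false
set_option linter.style.haveILetI false
set_option linter.unusedSectionVars false

namespace Cfsg.Agent.SingerOver

open scoped commutatorElement

variable {G : Type*} [Group G] [Finite G] {V : Type*} [AddCommGroup V] [Module (ZMod 2) V] [Finite V]
  {ρ : G →* (V ≃ₗ[ZMod 2] V)} {r : ℕ} [Fact r.Prime] {A : Subgroup G}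

theorem two_trivial (hr2 : r ≠ 2) (hA : IsPGroup r A) {e : ℕ} (he : ∀ k, r ∣ 2 ^ k - 1 → e ∣ k)
    (hodd : Odd e) {S : Submodule (ZMod 2) V} (hS : A ≤ stabS ρ S) (hf : S ⊓ fixV ρ A = ⊥)
    (hdim : Module.finrank (ZMod 2) S = e) {s : G} (hs : ∃ k, s ^ 2 ^ k = 1)
    (hsA : s ∈ Subgroup.normalizer (A : Set G)) (hsS : s ∈ stabS ρ S) : s ∈ ptw ρ S := by
  classical
  haveI : Module.Finite (ZMod 2) V := Module.Finite.of_finite
  haveI : Fact (Nat.Prime 2) := ⟨Nat.prime_two⟩
  have hne : S ≠ ⊥ := by
    rintro rfl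
    rw [finrank_bot] at hdim
    exact absurd (hdim ▸ hodd) (by decide)
  -- invariant submodules are trivial
  have hirr : ∀ (B : Subgroup G), IsPGroup r B → ∀ T : Submodule (ZMod 2) V, T ≤ S → B ≤ stabS ρ T →
      T ⊓ fixV ρ B = ⊥ → T ≠ ⊥ → T = S := by
    intro B hB T hT hBT hBf hTne
    refine Submodule.eq_of_le_of_finrank_eq hT ?_
    have h0 : 0 < Module.finrank (ZMod 2) T :=
      Nat.pos_of_ne_zero fun h0 => hTne (Submodule.finrank_eq_zero.1 h0)
    have := Nat.le_of_dvd h0 (he _ (dvd_of_fpf hB hBT hBf))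
    have := Submodule.finrank_mono hT
    omega
  have hall : ∀ z, Central ρ A r S z → z ∉ ptw ρ S → S ⊓ fixV ρ (Subgroup.zpowers z) = ⊥ := by
    intro z hz hzn
    by_contra hne'
    apply hzn
    have h := hirr A hA _ inf_le_left
      (fun a ha => (pieces_invariant (hS hz.1) (hS ha) (hz.2.2 a ha)).1)
      (inf_fix_eq_bot inf_le_left hf) hne'
    intro v hv
    rw [← h] at hv
    exact mem_fix_zpowers.1 hv.2
  obtain ⟨x, hxc, hxn⟩ := exists_central hA hS hne hf
  have hxS := hS hxc.1
  have hXB : IsPGroup r (Subgroup.zpowers x) := hA.to_le (Subgroup.zpowers_le.2 hxc.1)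
  let F := resRep ρ S (stabS ρ S) le_rfl
  let X := F ⟨x, hxS⟩
  let T := F ⟨s, hsS⟩
  have hfree : ∀ v : S, X v = v → v = 0 := by
    intro v hv
    have : (v : V) ∈ S ⊓ fixV ρ (Subgroup.zpowers x) :=
      ⟨v.2, mem_fix_zpowers.2 (congrArg Subtype.val hv)⟩
    rw [hall x hxc hxn, Submodule.mem_bot] at this
    exact Subtype.ext this
  have hXr : X ^ r = 1 := by
    rw [← map_pow]
    exact LinearEquiv.ext fun v => Subtype.ext (hxc.2.1 v v.2)
  have step : ∀ j, Commute (T ^ 2 ^ (j + 1)) X → Commute (T ^ 2 ^ j) X := by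
    intro j hj
    let t : G := s ^ 2 ^ j
    have htS : t ∈ stabS ρ S := pow_mem hsS _
    have htA : t ∈ Subgroup.normalizer (A : Set G) := pow_mem hsA _
    let U := T ^ 2 ^ j
    have hU : U = F ⟨t, htS⟩ := by
      show T ^ 2 ^ j = _
      rw [← map_pow]
      rfl
    have hUU : Commute (U * U) X := by rwa [← pow_two, ← pow_mul, ← pow_succ]
    -- `U ^ 2 = 1`
    have h2 : U * U = 1 := by
      have hP : IsPGroup 2 (Subgroup.zpowers (t * t)) := by
        obtain ⟨k, hk⟩ := hs
        have hord : orderOf (t * t) ∣ 2 ^ k := by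
          refine orderOf_dvd_of_pow_eq_one ?_
          show (s ^ 2 ^ j * s ^ 2 ^ j) ^ 2 ^ k = 1
          rw [← pow_add, ← pow_mul, mul_comm, pow_mul, hk, one_pow]
        obtain ⟨i, -, hi⟩ := (Nat.dvd_prime_pow Nat.prime_two).1 hord
        exact IsPGroup.of_card (n := i) (by rw [Nat.card_zpowers, hi])
      have httS : t * t ∈ stabS ρ S := mul_mem htS htS
      have hC := two_fixed (ρ := ρ) hP (stabS_zpowers httS) hne
      have hxinv : x ∈ stabS ρ (S ⊓ fixV ρ (Subgroup.zpowers (t * t))) := by
        refine (pieces_invariant httS hxS ?_).1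
        have h1 : F ⁅(⟨t * t, httS⟩ : stabS ρ S), ⟨x, hxS⟩⁆ = 1 := by
          rw [map_commutatorElement, commutatorElement_eq_one_iff_commute,
            show (⟨t * t, httS⟩ : stabS ρ S) = ⟨t, htS⟩ * ⟨t, htS⟩ from rfl, map_mul, ← hU]
          exact hUU
        exact fun v hv => congrArg Subtype.val (LinearEquiv.congr_fun h1 ⟨v, hv⟩)
      have hfull := hirr _ hXB _ inf_le_left (stabS_zpowers hxinv)
        (inf_fix_eq_bot inf_le_left (hall x hxc hxn)) hC
      rw [hU, ← map_mul]
      refine LinearEquiv.ext fun v => Subtype.ext ?_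
      have hv : (v : V) ∈ S ⊓ fixV ρ (Subgroup.zpowers (t * t)) := hfull.symm ▸ v.2
      exact mem_fix_zpowers.1 hv.2
    have hinv : U⁻¹ = U := inv_eq_of_mul_eq_one_right h2
    obtain ⟨i, hi⟩ := central_cyclic hr2 hS hne hall hxc hxn (hxc.conj htA htS)
    -- `U X U = (X ^ i)⁻¹`
    have hUX : U * X * U = (X ^ i)⁻¹ := by
      refine eq_inv_of_mul_eq_one_left ?_
      conv_lhs => arg 1; arg 2; rw [← hinv]
      rw [hU, ← map_inv, ← map_mul, ← map_mul, ← map_pow, ← map_mul]
      exact LinearEquiv.ext fun v => Subtype.ext (hi v v.2)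
    let Z := U * X * U * X
    by_cases hZ : Z = 1
    · exfalso
      have hUXU : U * X * U = X⁻¹ := eq_inv_of_mul_eq_one_left hZ
      let D : S →ₗ[ZMod 2] S := (U : S →ₗ[ZMod 2] S) + LinearMap.id
      have hDU : ∀ v, v ∈ LinearMap.ker D ↔ U v = v := fun v => by
        rw [LinearMap.mem_ker]
        exact (eq_iff_add_eq_zero (U v) v).symm
      have hran : LinearMap.range D ≤ LinearMap.ker D := by
        rintro _ ⟨v, rfl⟩
        rw [hDU]
        show U (U v + v) = U v + v
        rw [map_add, ← LinearEquiv.mul_apply, h2, LinearEquiv.coe_one, id_eq, add_comm]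
      have hkr := D.finrank_range_add_finrank_ker
      have hle := Submodule.finrank_mono hran
      rw [hdim] at hkr
      let K := LinearMap.ker D
      let K' := K.map (X : S →ₗ[ZMod 2] S)
      have hK' : Module.finrank (ZMod 2) K' = Module.finrank (ZMod 2) K := LinearEquiv.finrank_map_eq _ _
      have hint : K ⊓ K' ≠ ⊥ := by
        intro h
        have := Submodule.finrank_sup_add_finrank_inf_eq K K'
        rw [h, finrank_bot] at this
        have := Submodule.finrank_le (K ⊔ K')
        rw [hdim] at this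
        obtain ⟨o, ho⟩ := hodd
        change Module.finrank (ZMod 2) (LinearMap.range D) ≤ Module.finrank (ZMod 2) K at hle
        change _ + Module.finrank (ZMod 2) K = e at hkr
        omega
      obtain ⟨_, ⟨hw1, ⟨v, hv, rfl⟩⟩, hw0⟩ := Submodule.exists_mem_ne_zero_of_ne_bot hint
      have h3 : U (X v) = X v := (hDU _).1 hw1
      have h4 : U v = v := (hDU v).1 hv
      have h5 : X⁻¹ v = X v := by
        rw [← hUXU]
        show U (X (U v)) = X v
        rw [h4, h3]
      have h6 : (X ^ 2) v = v := by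
        rw [pow_two, LinearEquiv.mul_apply]
        conv_lhs => rw [← h5]
        rw [← LinearEquiv.mul_apply, mul_inv_cancel, LinearEquiv.coe_one, id_eq]
      obtain ⟨o, ho⟩ := (Fact.out : r.Prime).odd_of_ne_two hr2
      have h7 : ∀ k : ℕ, ((X ^ 2) ^ k) v = v := by
        intro k
        induction k with
        | zero => simp
        | succ k ihk => rw [pow_succ, LinearEquiv.mul_apply, h6, ihk]
      have h8 : X v = v := by
        have h9 : ((X ^ 2) ^ o * X) = 1 := by rw [← pow_mul, ← pow_succ, ← ho, hXr]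
        have h10 : X * (X ^ 2) ^ o = 1 := by
          rw [← pow_mul, ← pow_succ', ← ho, hXr]
        have := congrArg (fun g : S ≃ₗ[ZMod 2] S => g v) h10
        simp only [LinearEquiv.mul_apply, h7, LinearEquiv.coe_one, id_eq] at this
        exact this
      exact hw0 (by rw [hfree v h8, map_zero])
    · -- `Z` is a non-trivial power of `X` commuting with `U`
      obtain ⟨k, hk⟩ : ∃ k : ℤ, Z = X ^ k :=
        ⟨-(i : ℤ) + 1, by rw [zpow_add, zpow_neg, zpow_natCast, zpow_one, ← hUX]⟩
      have hcU : Commute U Z := by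
        have hc : Commute (U * X * U) X := by
          rw [hUX]
          exact ((Commute.refl X).pow_left i).inv_left
        show U * Z = Z * U
        calc U * (U * X * U * X) = (U * U) * (X * U * X) := by group
          _ = X * U * X := by rw [h2, one_mul]
          _ = (X * (U * X * U)) * U := by
            rw [mul_assoc, mul_assoc, mul_assoc, mul_assoc, h2, mul_one]
          _ = ((U * X * U) * X) * U := by rw [hc.eq]
      have hkr : ¬ (r : ℤ) ∣ k := by
        rintro ⟨l, rfl⟩
        exact hZ (by rw [hk, zpow_mul, zpow_natCast, hXr, one_zpow])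
      obtain ⟨a, c, hac⟩ := (((Nat.prime_iff_prime_int.1 Fact.out).coprime_iff_not_dvd).2 hkr)
      have : X = Z ^ c := by
        calc X = X ^ (a * r + c * k) := by rw [hac, zpow_one]
          _ = Z ^ c := by
            rw [zpow_add, mul_comm a, zpow_mul, zpow_natCast, hXr, one_zpow, one_mul, mul_comm c,
              zpow_mul, ← hk]
      rw [this]
      exact hcU.zpow_right c
  obtain ⟨k, hk⟩ := hs
  have hdown : ∀ d, d ≤ k → Commute (T ^ 2 ^ (k - d)) X := by
    intro d
    induction d with
    | zero =>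
      intro _
      rw [Nat.sub_zero, ← map_pow, show (⟨s, hsS⟩ : stabS ρ S) ^ 2 ^ k = 1 from Subtype.ext hk, map_one]
      exact Commute.one_left X
    | succ d ihd =>
      intro hd
      refine step _ ?_
      rw [show k - (d + 1) + 1 = k - d by omega]
      exact ihd (by omega)
  have hTX : Commute T X := by simpa using hdown k le_rfl
  -- the fixed space of `s`
  have hP : IsPGroup 2 (Subgroup.zpowers s) := by
    obtain ⟨i, -, hi⟩ := (Nat.dvd_prime_pow Nat.prime_two).1 (orderOf_dvd_of_pow_eq_one hk)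
    exact IsPGroup.of_card (n := i) (by rw [Nat.card_zpowers, hi])
  have hcs : ⁅s, x⁆ ∈ ptw ρ S := by
    have h1 : F ⁅(⟨s, hsS⟩ : stabS ρ S), ⟨x, hxS⟩⁆ = 1 := by
      rw [map_commutatorElement, commutatorElement_eq_one_iff_commute]
      exact hTX
    exact fun v hv => congrArg Subtype.val (LinearEquiv.congr_fun h1 ⟨v, hv⟩)
  have hfull := hirr _ hXB _ inf_le_left
    (stabS_zpowers (pieces_invariant hsS hxS hcs).1) (inf_fix_eq_bot inf_le_left (hall x hxc hxn))
    (two_fixed hP (stabS_zpowers hsS) hne)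
  intro v hv
  rw [← hfull] at hv
  exact mem_fix_zpowers.1 hv.2

end Cfsg.Agent.SingerOver
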