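import Cfsg.Agent.Lib.SingerOver.Core
import Cfsg.Agent.Lib.SingerOver.TwoPart

/-!
No odd prime with order of two large against the dimension divides the pointwise stabiliser of two
vectors in a two-transitive group without transvections.
-/

set_option autoImplicit false
set_option linter.style.haveILetI false
set_option linter.unusedSectionVars false

namespace Cfsg.Agent.SingerOver

variable {G : Type*} [Group G] [Finite G] {V : Type*} [AddCommGroup V] [Module (ZMod 2) V] [Finite V]
  {ρ : G →* (V ≃ₗ[ZMod 2] V)} {n : ℕ}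

/-- The group contains no transvection. -/
def NoTv (ρ : G →* (V ≃ₗ[ZMod 2] V)) : Prop :=
  ∀ g a, (∀ v, ρ g v = v ∨ ρ g v = v + a) → ∀ v, ρ g v = v

theorem card_outside (S : Submodule (ZMod 2) V) :
    Nat.card {u // u ∉ S} = 2 ^ Module.finrank (ZMod 2) V - 2 ^ Module.finrank (ZMod 2) S := by
  have h1 : Nat.card S = 2 ^ Module.finrank (ZMod 2) S := by
    rw [Module.natCard_eq_pow_finrank (K := ZMod 2) (V := S), Nat.card_zmod]
  have h2 : Nat.card V = 2 ^ Module.finrank (ZMod 2) V := by
    rw [Module.natCard_eq_pow_finrank (K := ZMod 2) (V := V), Nat.card_zmod]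
  rw [show {u // u ∉ S} = ↥((S : Set V)ᶜ) from rfl, Nat.card_coe_set_eq, Set.ncard_compl,
    ← Nat.card_coe_set_eq (S : Set V)]
  rw [h2, SetLike.coe_sort_coe, h1]

/-- Sylow subgroups of the pair stabiliser: their normalisers are two-transitive on the fixed space. -/
theorem Ctx3.witt (C : Ctx3 ρ n) {r : ℕ} [Fact r.Prime] {c d : V} (hcd : Indep c d)
    (P : Sylow r (stab2 ρ c d)) {A : Subgroup G} (hA : A = (P : Subgroup _).map (stab2 ρ c d).subtype)
    {a b a' b' : V} (ha : a ∈ fixV ρ A) (hb : b ∈ fixV ρ A) (ha' : a' ∈ fixV ρ A) (hb' : b' ∈ fixV ρ A)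
    (hab : Indep a b) (hab' : Indep a' b') :
    ∃ g ∈ Subgroup.normalizer (A : Set G), ρ g a = a' ∧ ρ g b = b' := by
  classical
  obtain ⟨h, h1, h2⟩ := C.two a b a' b' hab hab'
  let M' := stab2 ρ a' b'
  have hle : A ≤ M' := fun x hx => mem_stab2.2 ⟨ha' x hx, hb' x hx⟩
  let A' := A.map (MulAut.conj h).toMonoidHom
  have hle' : A' ≤ M' := by
    rintro _ ⟨x, hx, rfl⟩
    rw [mem_stab2, ← h1, ← h2]
    exact ⟨by simp [ha x hx], by simp [hb x hx]⟩
  have hcardM : Nat.card M' = Nat.card (stab2 ρ c d) := by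
    obtain ⟨g, g1, g2⟩ := C.two c d a' b' hcd hab'
    have e : (stab2 ρ c d).map (MulAut.conj g).toMonoidHom = M' := by
      ext x
      constructor
      · rintro ⟨y, hy, rfl⟩
        obtain ⟨y1, y2⟩ := mem_stab2.1 hy
        rw [mem_stab2, ← g1, ← g2]
        exact ⟨by simp [y1], by simp [y2]⟩
      · intro hx
        obtain ⟨x1, x2⟩ := mem_stab2.1 hx
        refine ⟨g⁻¹ * x * g, mem_stab2.2 ⟨?_, ?_⟩, ?_⟩
        · rw [map_mul, map_mul, LinearEquiv.mul_apply, LinearEquiv.mul_apply, g1, x1, ← g1]
          simp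
        · rw [map_mul, map_mul, LinearEquiv.mul_apply, LinearEquiv.mul_apply, g2, x2, ← g2]
          simp
        · simp; group
    rw [← e]
    exact (Nat.card_congr ((stab2 ρ c d).equivMapOfInjective _ (MulAut.conj g).injective).toEquiv).symm
  have hcA : Nat.card A = r ^ (Nat.card M').factorization r := by
    rw [hA, Subgroup.card_map_of_injective Subtype.val_injective, hcardM, P.card_eq_multiplicity]
  have hcA' : Nat.card A' = r ^ (Nat.card M').factorization r := by
    rw [← hcA]
    exact (Nat.card_congr (A.equivMapOfInjective _ (MulAut.conj h).injective).toEquiv).symm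
  have c1 : Nat.card (A.subgroupOf M') = r ^ (Nat.card M').factorization r := by
    rw [← hcA]; exact Nat.card_congr (Subgroup.subgroupOfEquivOfLe hle).toEquiv
  have c2 : Nat.card (A'.subgroupOf M') = r ^ (Nat.card M').factorization r := by
    rw [← hcA']; exact Nat.card_congr (Subgroup.subgroupOfEquivOfLe hle').toEquiv
  obtain ⟨m, hm⟩ := MulAction.exists_smul_eq M' (Sylow.ofCard _ c2) (Sylow.ofCard _ c1)
  have hm' : ∀ x : M', (x : G) ∈ A' → ((m * x * m⁻¹ : M') : G) ∈ A := by
    intro x hx
    have h3 : m * x * m⁻¹ ∈ ((m • Sylow.ofCard (A'.subgroupOf M') c2 : Sylow r M') : Subgroup M') := by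
      refine ⟨x, ?_, rfl⟩
      exact hx
    rw [hm, Sylow.coe_ofCard] at h3
    exact h3
  refine ⟨(m : G) * h, ?_, ?_, ?_⟩
  · rw [Subgroup.mem_normalizer_iff_map_conj_eq]
    refine Subgroup.eq_of_le_of_card_ge ?_ ?_
    · rintro _ ⟨x, hx, rfl⟩
      have h4 := hm' ⟨h * x * h⁻¹, hle' ⟨x, hx, rfl⟩⟩ ⟨x, hx, rfl⟩
      simpa [mul_assoc] using h4
    · exact (Nat.card_congr (A.equivMapOfInjective _ (MulAut.conj ((m : G) * h)).injective).toEquiv).le
  · rw [map_mul, LinearEquiv.mul_apply, h1]; exact (mem_stab2.1 m.2).1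
  · rw [map_mul, LinearEquiv.mul_apply, h2]; exact (mem_stab2.1 m.2).2

theorem Ctx3.no_prime (C : Ctx3 ρ n) (hinj : Function.Injective ρ) (hnt : NoTv ρ) (hn : Odd n)
    {c d : V} (hcd : Indep c d) {r : ℕ} [Fact r.Prime] (hr2 : r ≠ 2)
    (hr : r ∣ Nat.card (stab2 ρ c d)) {e : ℕ} (he : ∀ k, r ∣ 2 ^ k - 1 → e ∣ k)
    (hcase : (r ∣ 2 ^ n - 2 ^ Module.finrank (ZMod 2) (Zs ρ c d) ∧ n - 2 < 3 * e) ∨
      (¬ r ∣ 2 ^ n - 2 ^ Module.finrank (ZMod 2) (Zs ρ c d) ∧ n - 3 < 3 * e ∧
        3 ≤ Module.finrank (ZMod 2) (Zs ρ c d))) : False := by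
  classical
  haveI : Module.Finite (ZMod 2) V := Module.Finite.of_finite
  let M := stab2 ρ c d
  let P : Sylow r M := default
  let A : Subgroup G := (P : Subgroup M).map M.subtype
  have hAM : A ≤ M := Subgroup.map_subtype_le _
  have hA : IsPGroup r A := P.isPGroup'.map _
  have hodd : Odd (Nat.card A) := odd_card hr2 hA
  let U := fixV ρ A
  let W := movV ρ A
  let Z := Zs ρ c d
  let N := Subgroup.normalizer (A : Set G)
  have hcU : c ∈ U := fun x hx => (mem_stab2.1 (hAM hx)).1
  have hdU : d ∈ U := fun x hx => (mem_stab2.1 (hAM hx)).2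
  have hLU : Ln c d ≤ U := fun x hx => by
    rcases mem_Ln.1 hx with rfl | rfl | rfl | rfl
    exacts [zero_mem _, hcU, hdU, add_mem hcU hdU]
  have hcompl := isCompl_fix_mov (ρ := ρ) hodd
  have hWne : W ≠ ⊥ := by
    intro h
    have htop : U = ⊤ := by
      have h' := hcompl.sup_eq_top
      rwa [show movV ρ A = ⊥ from h, sup_bot_eq] at h'
    have hbot : A = ⊥ := le_bot_iff.1 fun a ha => by
      rw [Subgroup.mem_bot]
      apply hinj
      rw [map_one]
      exact LinearEquiv.ext fun v => (htop.symm ▸ Submodule.mem_top : v ∈ U) a ha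
    have h1 : Nat.card A = 1 := by rw [hbot, Subgroup.card_bot]
    rw [Subgroup.card_map_of_injective Subtype.val_injective] at h1
    exact absurd (h1 ▸ P.dvd_card_of_dvd_card hr) (Fact.out : r.Prime).not_dvd_one
  -- fixed points outside the subspace
  have horb : ∀ u, u ∉ Z → Nat.card {y // SameO ((toP ρ).comp M.subtype) u y} =
      2 ^ n - 2 ^ Module.finrank (ZMod 2) Z := by
    intro u hu
    rw [← C.rank, ← card_outside]
    refine Nat.card_congr (Equiv.subtypeEquivRight fun y => ?_)
    constructor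
    · rintro ⟨⟨g, hg⟩, rfl⟩
      obtain ⟨g1, g2⟩ := mem_stab2.1 hg
      intro hy
      apply hu
      have h := C.mem_map_iff g (c := c) (d := d) (x := u)
      rw [g1, g2] at h
      exact h.1 hy
    · intro hy
      obtain ⟨g, hg, hgu⟩ := C.trans_off hcd hu hy
      exact ⟨⟨g, hg⟩, hgu⟩
  have hUZ : r ∣ 2 ^ n - 2 ^ Module.finrank (ZMod 2) Z → U ≤ Z := by
    intro hdiv u hu
    by_contra hnot
    refine P.not_dvd_index (hdiv.trans ?_)
    rw [← horb u hnot, card_orbit_mul]
    refine Subgroup.index_dvd_of_le fun x hx => ?_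
    exact hu _ ⟨x, hx, rfl⟩
  have hUZ' : ¬ r ∣ 2 ^ n - 2 ^ Module.finrank (ZMod 2) Z → ¬ U ≤ Z := by
    intro hdiv hle
    let α := {u : V // u ∉ Z}
    letI : MulAction A α :=
      { smul := fun a u => ⟨ρ (a : G) u.1, fun hy => u.2 (by
          obtain ⟨g1, g2⟩ := mem_stab2.1 (hAM a.2)
          have h := C.mem_map_iff (a : G) (c := c) (d := d) (x := u.1)
          rw [g1, g2] at h
          exact h.1 hy)⟩
        one_smul := fun u => Subtype.ext (by simp [HSMul.hSMul])
        mul_smul := fun a b u => Subtype.ext (by simp [HSMul.hSMul]) }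
    obtain ⟨⟨u, hu⟩, hfix⟩ := hA.nonempty_fixed_point_of_prime_not_dvd_card (α := α)
      (by rwa [card_outside, C.rank])
    exact hu (hle fun a ha => congrArg Subtype.val (hfix ⟨a, ha⟩))
  have hAW : A ≤ stabS ρ W := fun a ha => mem_stabS_of_forall fun x hx =>
    movV_normalizer (Subgroup.le_normalizer ha) hx
  have hWf : W ⊓ fixV ρ A = ⊥ := by rw [inf_comm]; exact hcompl.inf_eq_bot
  have hsum := Submodule.finrank_add_eq_of_isCompl hcompl
  rw [C.rank] at hsum
  change Module.finrank (ZMod 2) U + Module.finrank (ZMod 2) W = n at hsum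
  have hu2 : 2 ≤ Module.finrank (ZMod 2) U := (finrank_Ln hcd).ge.trans (Submodule.finrank_mono hLU)
  have witt : ∀ a b a' b', a ∈ U → b ∈ U → a' ∈ U → b' ∈ U → Indep a b → Indep a' b' →
      ∃ g ∈ N, ρ g a = a' ∧ ρ g b = b' := fun a b a' b' h1 h2 h3 h4 => C.witt hcd P rfl h1 h2 h3 h4
  by_cases hu3 : 3 ≤ Module.finrank (ZMod 2) U
  · have hW3 : Module.finrank (ZMod 2) W < 3 * e := by
      rcases hcase with h | h <;> omega
    let K := N ⊓ ptw ρ W
    have hNU : N ≤ stabS ρ U := fun g hg => mem_stabS_of_forall fun x hx => fixV_normalizer hg hx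
    have moves : ∀ x ∈ U, ∀ y ∈ U, ∀ z ∈ U, Indep x y → z ∉ Ln x y →
        ∃ k ∈ K, ρ k x = x ∧ ρ k y = y ∧ ρ k z = z + x := by
      intro x hx y hy z hz hxy hzxy
      haveI : Finite U := Subtype.finite
      have C' : Ctx (resRep ρ U N hNU) (Module.finrank (ZMod 2) U) :=
        ⟨fun a b a' b' hab hab' => by
          obtain ⟨g, hg, g1, g2⟩ := witt a b a' b' a.2 b.2 a'.2 b'.2
            ⟨fun h => hab.1 (Subtype.ext h), fun h => hab.2.1 (Subtype.ext h), fun h => hab.2.2 (Subtype.ext h)⟩
            ⟨fun h => hab'.1 (Subtype.ext h), fun h => hab'.2.1 (Subtype.ext h), fun h => hab'.2.2 (Subtype.ext h)⟩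
          exact ⟨⟨g, hg⟩, Subtype.ext g1, Subtype.ext g2⟩, rfl, hu2⟩
      obtain ⟨z0, z1, z2, z3⟩ := indep_of_notMem hzxy
      have move' : ∀ p q s : V, p ∈ U → q ∈ U → s ∈ U → Indep p q → s ∉ Ln p q →
          ∃ g ∈ N, ρ g p = p ∧ ρ g q = q ∧ ρ g s = s + p := by
        intro p q s hp hq hs hpq hspq
        obtain ⟨⟨g, hg⟩, g1, g2, g3⟩ := C'.move (c := ⟨p, hp⟩) (d := ⟨q, hq⟩) (u := ⟨s, hs⟩)
          ⟨fun h => hpq.1 (congrArg Subtype.val h), fun h => hpq.2.1 (congrArg Subtype.val h),
            fun h => hpq.2.2 (congrArg Subtype.val h)⟩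
          (fun h => hspq (by
            rcases mem_Ln.1 h with h | h | h | h
            all_goals
              have h' := congrArg Subtype.val h
              simp only [Submodule.coe_add, ZeroMemClass.coe_zero] at h'
              rw [h']
            exacts [zero_mem _, left_mem_Ln _ _, right_mem_Ln _ _,
              add_mem (left_mem_Ln _ _) (right_mem_Ln _ _)]))
        exact ⟨g, hg, congrArg Subtype.val g1, congrArg Subtype.val g2, congrArg Subtype.val g3⟩
      let b : Fin 3 → V := ![x, y, z]
      have hb : ∀ i, b i ∈ U := fun i => by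
        match i with
        | 0 => exact hx
        | 1 => exact hy
        | 2 => exact hz
      have hfull : Full ρ b N := by
        intro i j hij
        obtain ⟨k, hik, hkj⟩ : ∃ k : Fin 3, i ≠ k ∧ k ≠ j := by revert i j; decide
        have hind : Indep (b i) (b k) ∧ b j ∉ Ln (b i) (b k) := by
          have e3 : ∀ l : Fin 3, l = 0 ∨ l = 1 ∨ l = 2 := by decide
          have hne3 : ∀ p q : V, p + q = p → q = 0 := fun p q h => by simpa using h
          obtain rfl | rfl | rfl := e3 i <;> obtain rfl | rfl | rfl := e3 j <;>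
            obtain rfl | rfl | rfl := e3 k <;>
            first
              | exact absurd rfl hij
              | exact absurd rfl hik
              | exact absurd rfl hkj
              | (simp only [b, Matrix.cons_val_zero, Matrix.cons_val_one, Matrix.cons_val_two,
                  Matrix.tail_cons, Matrix.head_cons, Indep, mem_Ln, not_or]
                 obtain ⟨x0, y0, xy⟩ := hxy
                 refine ⟨⟨?_, ?_, ?_⟩, ?_, ?_, ?_, ?_⟩ <;>
                   first
                     | assumption
                     | exact Ne.symm ‹_›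
                     | (intro h
                        apply z3
                        rw [eq_iff_add_eq_zero] at h ⊢
                        rw [← h]
                        abel))
        obtain ⟨g, hg, g1, g2, g3⟩ := move' (b i) (b k) (b j) (hb i) (hb k) (hb j) hind.1 hind.2
        refine ⟨g, hg, fun l => ?_⟩
        by_cases hl : l = j
        · subst hl; rw [if_pos rfl]; exact g3
        · rw [if_neg hl]
          have : l = i ∨ l = k := (by decide : ∀ i j k l : Fin 3, i ≠ j → i ≠ k → k ≠ j → l ≠ j → l = i ∨ l = k) i j k l hij hik hkj hl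
          rcases this with rfl | rfl
          exacts [g1, g2]
      obtain ⟨Y, hYN, hY, hmin⟩ := exists_minimal_full hfull
      have hkill := kill (ρ := ρ) hr2 hA he hY hmin hYN (Module.finrank (ZMod 2) W) W rfl hAW
        (fun g hg => mem_stabS_of_forall fun v hv => movV_normalizer (hYN hg) hv) hWf hW3
      obtain ⟨q, hq, hqm⟩ := hY 0 2 (by decide)
      exact ⟨q, Subgroup.mem_inf.2 ⟨hYN hq, hkill hq⟩, by simpa [b] using hqm 0,
        by simpa [b] using hqm 1, by simpa [b] using hqm 2⟩
    have line : ∀ x : V, Module.finrank (ZMod 2) (Submodule.span (ZMod 2) {x}) ≤ 1 := fun x =>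
      (finrank_span_le_card ({x} : Set V)).trans (by simp)
    have hplane : ∀ p q : V, Indep p q → ∃ w ∈ U, w ∉ Ln p q := fun p q hpq =>
      exists_outside U (Ln p q) (by rw [finrank_Ln hpq]; omega)
    -- fix one vector and move the other
    have hsnd : ∀ x ∈ U, ∀ y ∈ U, ∀ y' ∈ U, Indep x y → Indep x y' →
        ∃ k ∈ K, ρ k x = x ∧ ρ k y = y' := by
      intro x hx y hy y' hy' hxy hxy'
      by_cases hin : y' ∈ Ln x y
      · rcases mem_Ln.1 hin with h | h | h | h
        · exact absurd h hxy'.2.1
        · exact absurd h.symm hxy'.2.2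
        · exact ⟨1, one_mem _, by simp, by simp [h]⟩
        · obtain ⟨w, hw, hwxy⟩ := hplane x y hxy
          obtain ⟨w0, w1, w2, w3⟩ := indep_of_notMem hwxy
          obtain ⟨k, hk, k1, -, k3⟩ := moves x hx w hw y hy ⟨hxy.1, w0, w1.symm⟩ (by
            simp only [mem_Ln, not_or]
            refine ⟨hxy.2.1, hxy.2.2.symm, w2.symm, fun e => w3 ?_⟩
            rw [e, ← add_assoc, ZModModule.add_self, zero_add])
          exact ⟨k, hk, k1, by rw [k3, h, add_comm]⟩
      · obtain ⟨a0, a1, a2, a3⟩ := indep_of_notMem hin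
        obtain ⟨k, hk, -, k2, k3⟩ := moves (y + y') (add_mem hy hy') x hx y hy
          ⟨fun e => a2 ((eq_iff_add_eq_zero y y').2 e).symm, hxy.1, fun e => a3 (by
            rw [← e, add_comm y y', add_assoc, ZModModule.add_self, add_zero])⟩
          (by
            simp only [mem_Ln, not_or]
            refine ⟨hxy.2.1, fun e => a0 ?_, hxy.2.2.symm, fun e => a1 ?_⟩
            · simpa using e
            · have : y' + x = 0 := by
                have h' := e
                rw [add_assoc] at h'
                simpa using h'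
              exact (eq_iff_add_eq_zero y' x).2 this)
        exact ⟨k, hk, k2, by rw [k3, ← add_assoc, ZModModule.add_self, zero_add]⟩
    have D : SplitData ρ U W K :=
      { compl := hcompl
        ne_bot := hWne
        three := hu3
        fixW := fun k hk => (Subgroup.mem_inf.1 hk).2
        stabU := fun k hk x hx => fixV_normalizer (Subgroup.mem_inf.1 hk).1 hx
        trans := fun a ha b hb a' ha' b' hb' hab hab' => by
          obtain ⟨k, hk, hka⟩ : ∃ k ∈ K, ρ k a = a' := by
            by_cases h : a = a'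
            · exact ⟨1, one_mem _, by simp [h]⟩
            · obtain ⟨w, hw, hwL⟩ := hplane a a' ⟨hab.1, hab'.1, h⟩
              obtain ⟨w0, w1, w2, w3⟩ := indep_of_notMem hwL
              obtain ⟨k, hk, -, -, k3⟩ := moves (a + a') (add_mem ha ha') w hw a ha
                ⟨fun e => h ((eq_iff_add_eq_zero a a').2 e), w0, fun e => w3 e.symm⟩
                (by
                  simp only [mem_Ln, not_or]
                  refine ⟨hab.1, fun e => hab'.1 ?_, w1.symm, fun e => w2 ?_⟩
                  · simpa using e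
                  · have : a' + w = 0 := by
                      have h' := e
                      rw [add_assoc] at h'
                      simpa using h'
                    exact ((eq_iff_add_eq_zero a' w).2 this).symm)
              exact ⟨k, hk, by rw [k3, ← add_assoc, ZModModule.add_self, zero_add]⟩
          have hkb : ρ k b ∈ U := fixV_normalizer (Subgroup.mem_inf.1 hk).1 hb
          obtain ⟨m, hm, m1, m2⟩ := hsnd a' ha' (ρ k b) hkb b' hb' (hka ▸ hab.map _) hab'
          exact ⟨m * k, mul_mem hm hk, by simp [hka, m1], by simp [m2]⟩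
        dec := fun p hp q hq a ha b hb hmem => by
          have hst : A ≤ stabS ρ (Zs ρ p q) := fun g hg => mem_stabS_of_forall fun x hx => by
            have h := C.mem_map g hx
            rwa [hp g hg, hq g hg] at h
          have h := avg_mem hst hmem
          rwa [map_add, avg_of_fixed hodd ha, show avg ρ A b = 0 from hb, add_zero] at h }
    refine not_splitData C D ?_
    rcases hcase with ⟨h, -⟩ | ⟨-, -, h⟩
    · left
      intro a ha b hb hab
      obtain ⟨g, hg, g1, g2⟩ := witt c d a b hcU hdU ha hb hcd hab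
      intro x hx
      have := C.mem_map g (hUZ h (fixV_normalizer (inv_mem hg) hx))
      simpa [g1, g2] using this
    · exact .inr fun a b hab => (C.finrank_eq hab hcd).symm ▸ h
  · -- the fixed space is the line
    have hUL : Ln c d = U := Submodule.eq_of_le_of_finrank_eq hLU (by rw [finrank_Ln hcd]; omega)
    have hcl : n - 2 < 3 * e := by
      rcases hcase with ⟨-, h⟩ | ⟨h, -, -⟩
      · exact h
      · exact absurd (hUL ▸ C.Ln_le c d) (hUZ' h)
    have hWe : Module.finrank (ZMod 2) W = e := by
      obtain ⟨i, hi⟩ := he _ (dvd_of_fpf hA hAW hWf)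
      obtain ⟨o, ho⟩ := hn
      have hpos : 0 < Module.finrank (ZMod 2) W :=
        Nat.pos_of_ne_zero fun h0 => hWne (Submodule.finrank_eq_zero.1 h0)
      have hi3 : i < 3 := Nat.lt_of_mul_lt_mul_left (a := e) (by rw [← hi]; omega)
      have hi0 : i ≠ 0 := by rintro rfl; omega
      have hi2 : i ≠ 2 := by rintro rfl; omega
      rw [hi, show i = 1 by omega, mul_one]
    have hodde : Odd e := by
      obtain ⟨o, ho⟩ := hn
      rw [← hWe]
      exact ⟨o - 1, by have := C.three; omega⟩
    obtain ⟨g, hg, g1, g2⟩ := witt c d d c hcU hdU hdU hcU hcd hcd.swap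
    obtain ⟨k, m, hm, hkm⟩ := Nat.exists_eq_two_pow_mul_odd (orderOf_pos g).ne'
    have hpow : ∀ o : ℕ, ρ (g ^ (2 * o)) c = c ∧ ρ (g ^ (2 * o)) d = d := fun o => by
      rw [pow_mul]
      have : g ^ 2 ∈ stab2 ρ c d := mem_stab2.2 ⟨by simp [pow_two, g1, g2], by simp [pow_two, g1, g2]⟩
      exact mem_stab2.1 (pow_mem this o)
    obtain ⟨o, ho⟩ := hm
    let s := g ^ m
    have hsc : ρ s c = d := by
      show ρ (g ^ m) c = d
      rw [ho, pow_succ, map_mul, LinearEquiv.mul_apply, g1, (hpow o).2]
    have hsd : ρ s d = c := by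
      show ρ (g ^ m) d = c
      rw [ho, pow_succ, map_mul, LinearEquiv.mul_apply, g2, (hpow o).1]
    have hsW := two_trivial (ρ := ρ) hr2 hA he hodde hAW hWf hWe (s := s)
      ⟨k, by rw [← pow_mul, mul_comm, ← hkm, pow_orderOf_eq_one]⟩ (pow_mem hg m)
      (mem_stabS_of_forall fun x hx => movV_normalizer (pow_mem hg m) hx)
    have htv := hnt s (c + d) fun v => by
      obtain ⟨a, ha, b, hb, rfl⟩ := Submodule.mem_sup.1 (hcompl.sup_eq_top ▸ Submodule.mem_top (x := v))
      have ha' : a ∈ Ln c d := hUL ▸ ha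
      rw [map_add, hsW b hb]
      rcases mem_Ln.1 ha' with rfl | rfl | rfl | rfl
      · simp
      · right; rw [hsc]
        calc d + b = (a + a) + (d + b) := by rw [ZModModule.add_self, zero_add]
          _ = _ := by abel
      · right; rw [hsd]
        calc c + b = (a + a) + (c + b) := by rw [ZModModule.add_self, zero_add]
          _ = _ := by abel
      · left; rw [map_add, hsc, hsd, add_comm d c]
    exact hcd.2.2 ((htv c).symm.trans hsc)

end Cfsg.Agent.SingerOver
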