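import Cfsg.Agent.Lib.SingerOver.Orbit

/-!
In a two-transitive linear group over the field with two elements, the pointwise stabiliser of two vectors
moves every further vector by each of them; hence plane stabilisers induce every elementary move.
-/

set_option autoImplicit false
set_option linter.style.haveILetI false
set_option linter.unusedSectionVars false

namespace Cfsg.Agent.SingerOver

variable {G : Type*} [Group G] {V : Type*} [AddCommGroup V] [Module (ZMod 2) V]

theorem z2_cases : ∀ a : ZMod 2, a = 0 ∨ a = 1 := by decide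

/-- The stabiliser of a submodule. -/
def stabS (ρ : G →* (V ≃ₗ[ZMod 2] V)) (S : Submodule (ZMod 2) V) : Subgroup G where
  carrier := {g | S.map (ρ g : V →ₗ[ZMod 2] V) = S}
  one_mem' := by
    show S.map (ρ 1 : V →ₗ[ZMod 2] V) = S
    rw [map_one]
    exact Submodule.map_id S
  mul_mem' := fun {g g'} (h : _ = _) (h' : _ = _) => by
    show S.map (ρ (g * g') : V →ₗ[ZMod 2] V) = S
    rw [map_mul, LinearEquiv.mul_eq_trans, LinearEquiv.coe_trans, Submodule.map_comp, h', h]
  inv_mem' := fun {g} (h : _ = _) => by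
    show S.map (ρ g⁻¹ : V →ₗ[ZMod 2] V) = S
    conv_lhs => rw [← h]
    rw [← Submodule.map_comp, ← LinearEquiv.coe_trans, ← LinearEquiv.mul_eq_trans, ← map_mul,
      inv_mul_cancel, map_one]
    exact Submodule.map_id S

theorem stabS_apply {ρ : G →* (V ≃ₗ[ZMod 2] V)} {S : Submodule (ZMod 2) V} {g : G}
    (hg : g ∈ stabS ρ S) {x : V} (hx : x ∈ S) : ρ g x ∈ S := by
  have : ρ g x ∈ S.map (ρ g : V →ₗ[ZMod 2] V) := Submodule.mem_map_of_mem hx
  rwa [show S.map (ρ g : V →ₗ[ZMod 2] V) = S from hg] at this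

theorem apply_mem_iff {ρ : G →* (V ≃ₗ[ZMod 2] V)} {S : Submodule (ZMod 2) V} {g : G}
    (hg : g ∈ stabS ρ S) {x : V} : ρ g x ∈ S ↔ x ∈ S := by
  refine ⟨fun hx => ?_, stabS_apply hg⟩
  simpa using stabS_apply (inv_mem hg) hx

variable [Finite V]

theorem mem_stabS_of_forall {ρ : G →* (V ≃ₗ[ZMod 2] V)} {S : Submodule (ZMod 2) V} {g : G}
    (h : ∀ x ∈ S, ρ g x ∈ S) : g ∈ stabS ρ S := by
  haveI : Module.Finite (ZMod 2) V := Module.Finite.of_finite
  show S.map (ρ g : V →ₗ[ZMod 2] V) = S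
  refine Submodule.eq_of_le_of_finrank_eq ?_ (LinearEquiv.finrank_map_eq _ _)
  rintro _ ⟨x, hx, rfl⟩
  exact h x hx

theorem mem_stabS_Ln {ρ : G →* (V ≃ₗ[ZMod 2] V)} {c d : V} {g : G} (hc : ρ g c ∈ Ln c d)
    (hd : ρ g d ∈ Ln c d) : g ∈ stabS ρ (Ln c d) := by
  refine mem_stabS_of_forall fun x hx => ?_
  rcases mem_Ln.1 hx with rfl | rfl | rfl | rfl
  · simp
  · exact hc
  · exact hd
  · rw [map_add]; exact add_mem hc hd

omit [Finite V] in
/-- The action on a quotient. -/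
def quotRep (ρ : G →* (V ≃ₗ[ZMod 2] V)) (S : Submodule (ZMod 2) V) (K : Subgroup G)
    (hK : K ≤ stabS ρ S) : K →* ((V ⧸ S) ≃ₗ[ZMod 2] (V ⧸ S)) where
  toFun g := Submodule.Quotient.equiv S S (ρ g) (hK g.2)
  map_one' := by
    refine LinearEquiv.ext fun q => ?_
    obtain ⟨x, rfl⟩ := S.mkQ_surjective q
    simp
  map_mul' g g' := by
    refine LinearEquiv.ext fun q => ?_
    obtain ⟨x, rfl⟩ := S.mkQ_surjective q
    show S.mkQ (ρ (g * g' : K) x) = S.mkQ (ρ g (ρ g' x))
    simp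

theorem quotRep_mk (ρ : G →* (V ≃ₗ[ZMod 2] V)) (S : Submodule (ZMod 2) V) (K : Subgroup G)
    (hK : K ≤ stabS ρ S) (g : K) (x : V) : quotRep ρ S K hK g (S.mkQ x) = S.mkQ (ρ g x) :=
  rfl

variable [Finite G] {ρ : G →* (V ≃ₗ[ZMod 2] V)}

/-- The setting: dimension `n ≥ 2` and two-transitivity. -/
structure Ctx (ρ : G →* (V ≃ₗ[ZMod 2] V)) (n : ℕ) : Prop where
  two : Two ρ
  rank : Module.finrank (ZMod 2) V = n
  le : 2 ≤ n

theorem stab2_comm (c d : V) : stab2 ρ c d = stab2 ρ d c := inf_comm _ _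

theorem stab2_add (c d : V) : stab2 ρ c (c + d) = stab2 ρ c d := by
  ext g
  rw [mem_stab2, mem_stab2]
  constructor
  · rintro ⟨h1, h2⟩
    rw [map_add, h1] at h2
    exact ⟨h1, add_left_cancel h2⟩
  · rintro ⟨h1, h2⟩
    exact ⟨h1, by rw [map_add, h1, h2]⟩

theorem stab2_le_stabS (c d : V) : stab2 ρ c d ≤ stabS ρ (Ln c d) := fun g hg =>
  mem_stabS_Ln (by rw [(mem_stab2.1 hg).1]; exact left_mem_Ln c d)
    (by rw [(mem_stab2.1 hg).2]; exact right_mem_Ln c d)

/-- The move `u ↦ u + c` by an element fixing `c` and `d`. -/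
theorem Ctx.move {n : ℕ} (C : Ctx ρ n) {c d u : V} (hcd : Indep c d) (hu : u ∉ Ln c d) :
    ∃ g, ρ g c = c ∧ ρ g d = d ∧ ρ g u = u + c := by
  classical
  haveI : Finite (Module.Dual (ZMod 2) V) := Module.finite_of_finite (ZMod 2)
  let L := Ln c d
  haveI : Finite (V ⧸ L) := Finite.of_surjective _ L.mkQ_surjective
  haveI : Finite (Module.Dual (ZMod 2) (V ⧸ L)) := Module.finite_of_finite (ZMod 2)
  let M := stab2 ρ c d
  let πV := toP (ρ.comp M.subtype)
  let πD := toP (dualRep (ρ.comp M.subtype))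
  let q := quotRep ρ L M (stab2_le_stabS c d)
  let πQ := toP q
  let πQD := toP (dualRep q)
  have e1 : Nat.card (Orb πV) = Nat.card (Orb πD) := orb_card_eq _ _ fun g => (fix_dual _ g).symm
  have e2 : Nat.card (Orb πQD) = Nat.card (Orb πQ) := orb_card_eq _ _ fun g => fix_dual _ g
  -- from vectors
  let F0 : V → Orb πQ ⊕ Fin 3 := fun x =>
    if x = c then .inr 0 else if x = d then .inr 1 else if x = c + d then .inr 2
    else .inl (Orb.mk _ (L.mkQ x))
  have hF0 : ∀ x y, SameO πV x y → F0 x = F0 y := by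
    rintro x y ⟨g, rfl⟩
    have hg := mem_stab2.1 g.2
    have k1 : ρ g x = c ↔ x = c := by
      conv_lhs => rw [← hg.1, (ρ g).injective.eq_iff]
    have k2 : ρ g x = d ↔ x = d := by
      conv_lhs => rw [← hg.2, (ρ g).injective.eq_iff]
    have k3 : ρ g x = c + d ↔ x = c + d := by
      conv_lhs => rw [← hg.1, ← hg.2, ← map_add, (ρ g).injective.eq_iff]
    have k4 : Orb.mk πQ (L.mkQ x) = Orb.mk πQ (L.mkQ (ρ g x)) :=
      Orb.mk_eq.2 ⟨g, quotRep_mk ρ L M (stab2_le_stabS c d) g x⟩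
    simp only [F0, πV, toP_apply, MonoidHom.comp_apply, Subgroup.coe_subtype, k1, k2, k3, k4]
  let F : Orb πV → Orb πQ ⊕ Fin 3 := Quotient.lift F0 hF0
  have hF : Function.Surjective F := by
    rintro (o | i)
    · obtain ⟨y, rfl⟩ := Orb.mk_surjective _ o
      obtain ⟨x, rfl⟩ := L.mkQ_surjective y
      by_cases hx : x ∈ L
      · refine ⟨Orb.mk _ 0, ?_⟩
        have h0 : L.mkQ x = L.mkQ 0 := by
          rw [map_zero, Submodule.mkQ_apply, Submodule.Quotient.mk_eq_zero]; exact hx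
        show F0 0 = _
        simp [F0, hcd.1.symm, hcd.2.1.symm, hcd.add_ne.symm, h0]
      · refine ⟨Orb.mk _ x, ?_⟩
        obtain ⟨-, h1, h2, h3⟩ := indep_of_notMem hx
        show F0 x = _
        simp [F0, h1, h2, h3]
    · fin_cases i
      · exact ⟨Orb.mk _ c, show F0 c = _ by simp [F0]⟩
      · exact ⟨Orb.mk _ d, show F0 d = _ by simp [F0, hcd.2.2.symm]⟩
      · refine ⟨Orb.mk _ (c + d), show F0 (c + d) = _ from ?_⟩
        simp [F0, hcd.1, hcd.2.1]
  -- to functionals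
  have hcov : Nat.card (Orb πD) ≤ Nat.card (Orb πQD) + 3 := by
    obtain ⟨f1, hf1, hf1'⟩ := dual_sep (Submodule.span (ZMod 2) {d}) (x := c) (by
      rw [Submodule.mem_span_singleton]
      rintro ⟨a, ha⟩
      rcases (by decide : ∀ a : ZMod 2, a = 0 ∨ a = 1) a with rfl | rfl
      · exact hcd.1 (by simpa using ha.symm)
      · exact hcd.2.2 (by simpa using ha.symm))
    obtain ⟨f2, hf2, hf2'⟩ := dual_sep (Submodule.span (ZMod 2) {c}) (x := d) (by
      rw [Submodule.mem_span_singleton]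
      rintro ⟨a, ha⟩
      rcases (by decide : ∀ a : ZMod 2, a = 0 ∨ a = 1) a with rfl | rfl
      · exact hcd.2.1 (by simpa using ha.symm)
      · exact hcd.2.2 (by simpa using ha))
    have hf1d := hf1' d (Submodule.mem_span_singleton_self d)
    have hf2c := hf2' c (Submodule.mem_span_singleton_self c)
    have heq : ∀ φ φ', SameO πQD φ φ' → Orb.mk πD (φ.comp L.mkQ) = Orb.mk πD (φ'.comp L.mkQ) := by
      rintro φ φ' ⟨g, hg⟩
      refine Orb.mk_eq.2 ⟨g, ?_⟩
      rw [toP_apply, dualRep_eq_iff]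
      intro x
      have := (dualRep_eq_iff q g φ φ').1 hg (L.mkQ x)
      rw [quotRep_mk] at this
      exact this
    let Ψ : Orb πQD ⊕ Fin 3 → Orb πD :=
      Sum.elim (Quotient.lift (fun φ => Orb.mk πD (φ.comp L.mkQ)) heq)
        ![Orb.mk πD f1, Orb.mk πD f2, Orb.mk πD (f1 + f2)]
    have hΨ : Function.Surjective Ψ := by
      intro o
      obtain ⟨y, rfl⟩ := Orb.mk_surjective _ o
      have hcls : ∀ {a b : V} (r : Module.Dual (ZMod 2) V), Indep a b → stab2 ρ a b = M →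
          r a = 1 → r b = 0 → y a = 1 → y b = 0 → Orb.mk πD r = Orb.mk πD y := by
        intro a b r hab hM h1 h2 h3 h4
        obtain ⟨g, hg, hgr⟩ := stab2_trans_class C.two C.rank C.le hab h1 h2 h3 h4
        exact Orb.mk_eq.2 ⟨⟨g, hM ▸ hg⟩, hgr⟩
      have hb : ∀ a : ZMod 2, a = 0 ∨ a = 1 := by decide
      rcases hb (y c) with hyc | hyc <;> rcases hb (y d) with hyd | hyd
      · refine ⟨.inl (Orb.mk _ (L.liftQ y ?_)), ?_⟩
        · intro x hx
          rcases mem_Ln.1 hx with rfl | rfl | rfl | rfl <;> simp [hyc, hyd]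
        · show Orb.mk πD ((L.liftQ y _).comp L.mkQ) = _
          rw [Submodule.liftQ_mkQ]
      · exact ⟨.inr 1, hcls f2 hcd.swap (stab2_comm d c) hf2 hf2c hyd hyc⟩
      · exact ⟨.inr 0, hcls f1 hcd rfl hf1 hf1d hyc hyd⟩
      · refine ⟨.inr 2, hcls (a := c) (b := c + d) _ ⟨hcd.1, hcd.add_ne, ?_⟩ (stab2_add c d) ?_ ?_ hyc ?_⟩
        · intro e; exact hcd.2.1 (by simpa using e)
        · simp [hf1, hf2c]
        · simp [hf1, hf2c, hf1d, hf2, ZModModule.add_self]
        · simp [hyc, hyd, ZModModule.add_self]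
    have := Nat.card_le_card_of_surjective Ψ hΨ
    simpa [Nat.card_sum] using this
  have hle : Nat.card (Orb πV) ≤ Nat.card (Orb πQ ⊕ Fin 3) := by
    rw [Nat.card_sum, Nat.card_fin, e1, ← e2]; exact hcov
  obtain ⟨hu0, hu1, hu2, hu3⟩ := indep_of_notMem hu
  have huc : u + c ∉ L := fun h => hu (by
    have := add_mem h (left_mem_Ln c d)
    rwa [add_assoc, ZModModule.add_self, add_zero] at this)
  obtain ⟨-, k1, k2, k3⟩ := indep_of_notMem huc
  have hmk : L.mkQ (u + c) = L.mkQ u := by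
    rw [map_add, show L.mkQ c = 0 by
      rw [Submodule.mkQ_apply, Submodule.Quotient.mk_eq_zero]; exact left_mem_Ln c d, add_zero]
  have hsame : SameO πV u (u + c) := Orb.mk_eq.1 ((hF.bijective_of_nat_card_le hle).1 (by
    show F0 u = F0 (u + c)
    simp only [F0, if_neg hu1, if_neg hu2, if_neg hu3, if_neg k1, if_neg k2, if_neg k3, hmk]))
  obtain ⟨g, hg⟩ := hsame
  exact ⟨g, (mem_stab2.1 g.2).1, (mem_stab2.1 g.2).2, hg⟩

/-- Any ordered basis of a line is reached by an element fixing a given further vector. -/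
theorem Ctx.exists_fix_line {n : ℕ} (C : Ctx ρ n) {c d u c' d' : V} (hcd : Indep c d)
    (hu : u ∉ Ln c d) (hcd' : Indep c' d') (hc' : c' ∈ Ln c d) (hd' : d' ∈ Ln c d) :
    ∃ g, ρ g u = u ∧ ρ g c = c' ∧ ρ g d = d' := by
  let R : V → V → Prop := fun a b => ∃ g, ρ g u = u ∧ ρ g c = a ∧ ρ g d = b
  obtain ⟨hu0, hu1, hu2, hu3⟩ := indep_of_notMem hu
  have step1 : ∀ a b, R a b → R (a + b) b := by
    rintro a b ⟨g, g1, g2, g3⟩
    obtain ⟨m, m1, m2, m3⟩ := C.move (c := d) (d := u) (u := c) ⟨hcd.2.1, hu0, hu2.symm⟩ (by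
      simp only [mem_Ln, not_or]
      refine ⟨hcd.1, hcd.2.2, hu1.symm, fun e => hu3 ?_⟩
      rw [e, add_comm d u, add_assoc, ZModModule.add_self, add_zero])
    refine ⟨g * m, ?_, ?_, ?_⟩ <;>
      simp only [map_mul, LinearEquiv.mul_apply, m1, m2, m3, map_add, g1, g2, g3]
  have step2 : ∀ a b, R a b → R a (a + b) := by
    rintro a b ⟨g, g1, g2, g3⟩
    obtain ⟨m, m1, m2, m3⟩ := C.move (c := c) (d := u) (u := d) ⟨hcd.1, hu0, hu1.symm⟩ (by
      simp only [mem_Ln, not_or]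
      refine ⟨hcd.2.1, hcd.2.2.symm, hu2.symm, fun e => hu3 ?_⟩
      rw [e, ← add_assoc, ZModModule.add_self, zero_add])
    refine ⟨g * m, ?_, ?_, ?_⟩ <;>
      simp only [map_mul, LinearEquiv.mul_apply, m1, m2, m3, map_add, g1, g2, g3, add_comm b a]
  have r0 : R c d := ⟨1, by simp⟩
  have r1 : R (c + d) d := step1 _ _ r0
  have r2 : R c (c + d) := step2 _ _ r0
  have r3 : R (c + d) c := by
    have := step2 _ _ r1
    rwa [add_assoc, ZModModule.add_self, add_zero] at this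
  have r4 : R d c := by
    have := step1 _ _ r3
    rwa [add_comm c d, add_assoc, ZModModule.add_self, add_zero] at this
  have r5 : R d (c + d) := by
    have := step2 _ _ r4
    rwa [add_comm d c] at this
  rcases mem_Ln.1 hc' with rfl | rfl | rfl | rfl <;> rcases mem_Ln.1 hd' with rfl | rfl | rfl | rfl <;>
    first
      | exact absurd rfl hcd'.1
      | exact absurd rfl hcd'.2.1
      | exact absurd rfl hcd'.2.2
      | exact r0
      | exact r1
      | exact r2
      | exact r3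
      | exact r4
      | exact r5

end Cfsg.Agent.SingerOver
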