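import Mathlib

/-!
Linear groups over the field with two elements which are two-transitive on non-zero vectors: orbits on
vectors and on functionals are equinumerous, so incident and non-incident pairs form single orbits, and
the pointwise stabiliser of two vectors moves every further vector by each of the two.
-/

set_option autoImplicit false
set_option linter.style.haveILetI false
set_option linter.unusedSectionVars false

namespace Cfsg.Agent.SingerOver

open MulAction

section Perm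

variable {G : Type*} [Group G] {α β : Type*}

/-- Lie in one orbit. -/
def SameO (π : G →* Equiv.Perm α) (x y : α) : Prop := ∃ g, π g x = y

theorem sameO_equiv (π : G →* Equiv.Perm α) : Equivalence (SameO π) where
  refl x := ⟨1, by simp⟩
  symm := fun {x y} ⟨g, h⟩ => ⟨g⁻¹, by simp [← h]⟩
  trans := fun {x y z} ⟨g, h⟩ ⟨g', h'⟩ => ⟨g' * g, by simp [h, h']⟩

/-- The orbits. -/
def Orb (π : G →* Equiv.Perm α) := Quotient (⟨SameO π, sameO_equiv π⟩ : Setoid α)

/-- The orbit of a point. -/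
def Orb.mk (π : G →* Equiv.Perm α) (x : α) : Orb π := Quotient.mk _ x

theorem Orb.mk_surjective (π : G →* Equiv.Perm α) : Function.Surjective (Orb.mk π) :=
  Quotient.mk_surjective

theorem Orb.mk_eq {π : G →* Equiv.Perm α} {x y : α} : Orb.mk π x = Orb.mk π y ↔ SameO π x y :=
  Quotient.eq (r := ⟨SameO π, sameO_equiv π⟩)

instance [Finite α] (π : G →* Equiv.Perm α) : Finite (Orb π) :=
  Finite.of_surjective _ (Orb.mk_surjective π)

theorem Orb.card_mul [Finite G] [Finite α] (π : G →* Equiv.Perm α) :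
    letI := Fintype.ofFinite G
    ∑ g : G, Nat.card {x // π g x = x} = Nat.card (Orb π) * Nat.card G := by
  classical
  letI := Fintype.ofFinite G
  letI : MulAction G α := MulAction.compHom α π
  haveI := Fintype.ofFinite α
  haveI : Fintype (orbitRel.Quotient G α) := Fintype.ofFinite _
  have h := sum_card_fixedBy_eq_card_orbits_mul_card_group G α
  have e : Nat.card (Orb π) = Nat.card (orbitRel.Quotient G α) := by
    refine Nat.card_congr (Quotient.congr (Equiv.refl α) fun x y => ?_)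
    rw [orbitRel_apply]
    exact ⟨fun hxy => (sameO_equiv π).symm hxy, fun hxy => (sameO_equiv π).symm hxy⟩
  rw [e, Nat.card_eq_fintype_card, Nat.card_eq_fintype_card, ← h]
  exact Finset.sum_congr rfl fun g _ => Nat.card_eq_fintype_card

theorem orb_card_eq [Finite G] [Finite α] [Finite β] (π : G →* Equiv.Perm α) (τ : G →* Equiv.Perm β)
    (h : ∀ g, Nat.card {x // π g x = x} = Nat.card {x // τ g x = x}) :
    Nat.card (Orb π) = Nat.card (Orb τ) := by
  letI := Fintype.ofFinite G
  have h1 := Orb.card_mul π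
  have h2 := Orb.card_mul τ
  rw [Finset.sum_congr rfl (fun g _ => h g)] at h1
  exact Nat.eq_of_mul_eq_mul_right Nat.card_pos (h1.symm.trans h2)

/-- The product of two permutation actions. -/
def prodPi (π : G →* Equiv.Perm α) (τ : G →* Equiv.Perm β) : G →* Equiv.Perm (α × β) where
  toFun g := (π g).prodCongr (τ g)
  map_one' := by ext x <;> simp
  map_mul' g g' := by ext x <;> simp

theorem prodPi_apply (π : G →* Equiv.Perm α) (τ : G →* Equiv.Perm β) (g : G) (x : α × β) :
    prodPi π τ g x = (π g x.1, τ g x.2) := rfl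

theorem card_fix_prod (π : G →* Equiv.Perm α) (τ : G →* Equiv.Perm β) (g : G) :
    Nat.card {x // prodPi π τ g x = x} = Nat.card {x // π g x = x} * Nat.card {x // τ g x = x} := by
  rw [← Nat.card_prod]
  exact Nat.card_congr
    { toFun := fun x => (⟨x.1.1, (Prod.ext_iff.1 x.2).1⟩, ⟨x.1.2, (Prod.ext_iff.1 x.2).2⟩)
      invFun := fun x => ⟨(x.1.1, x.2.1), Prod.ext x.1.2 x.2.2⟩
      left_inv := fun x => rfl
      right_inv := fun x => rfl }

/-- The stabiliser of a point. -/
def stabP (π : G →* Equiv.Perm α) (x : α) : Subgroup G where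
  carrier := {g | π g x = x}
  one_mem' := by simp
  mul_mem' := fun {g g'} (h : π g x = x) (h' : π g' x = x) => by
    show π (g * g') x = x
    rw [map_mul, Equiv.Perm.mul_apply, h', h]
  inv_mem' := fun {g} (h : π g x = x) => by
    show π g⁻¹ x = x
    rw [map_inv, Equiv.Perm.inv_eq_iff_eq, h]

theorem mem_stabP {π : G →* Equiv.Perm α} {x : α} {g : G} : g ∈ stabP π x ↔ π g x = x := Iff.rfl

theorem card_orbit_mul [Finite α] (π : G →* Equiv.Perm α) (x : α) :
    Nat.card {y // SameO π x y} = (stabP π x).index := by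
  letI : MulAction G α := MulAction.compHom α π
  have h1 : stabilizer G x = stabP π x := Subgroup.ext fun g => Iff.rfl
  have h2 : ({y | SameO π x y} : Set α) = orbit G x := Set.ext fun y => Iff.rfl
  rw [← h1, index_stabilizer, ← h2]
  exact Nat.card_coe_set_eq _

/-- Orbit sizes under a subgroup `K`: the size of the whole orbit divides `[G : K]` times the size of
the `K`-orbit. -/
theorem orbit_dvd [Finite α] (π : G →* Equiv.Perm α) (K : Subgroup G) (x : α) :
    Nat.card {y // SameO π x y} ∣ K.index * Nat.card {y // SameO (π.comp K.subtype) x y} := by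
  rw [card_orbit_mul, card_orbit_mul]
  have h1 : stabP (π.comp K.subtype) x = (stabP π x).subgroupOf K := Subgroup.ext fun g => Iff.rfl
  rw [h1, mul_comm]
  show (stabP π x).index ∣ (stabP π x).relIndex K * K.index
  rw [← Subgroup.inf_relIndex_right, Subgroup.relIndex_mul_index inf_le_right]
  exact Subgroup.index_dvd_of_le inf_le_left

/-- A subgroup of `2`-power index defect: it is transitive on a set of size `2 ^ m`. -/
theorem sameO_of_dvd [Finite α] (π : G →* Equiv.Perm α) (P : α → Prop) (x : α)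
    (hP : ∀ g, P (π g x)) {m : ℕ} (hm : Nat.card {y // P y} ≤ m)
    (hd : m ∣ Nat.card {y // SameO π x y}) (y : α) (hy : P y) : SameO π x y := by
  let f : {y // SameO π x y} → {y // P y} := fun z => ⟨z.1, by
    obtain ⟨g, hg⟩ := z.2
    exact hg ▸ hP g⟩
  have hf : Function.Injective f := fun a b h => Subtype.ext (congrArg Subtype.val h :)
  have hpos : 0 < Nat.card {y // SameO π x y} :=
    Nat.card_pos_iff.2 ⟨⟨⟨x, (sameO_equiv π).refl x⟩⟩, inferInstance⟩
  have hle := hm.trans (Nat.le_of_dvd hpos hd)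
  obtain ⟨z, hz⟩ := (Nat.bijective_iff_injective_and_card f).2
    ⟨hf, le_antisymm (Nat.card_le_card_of_injective f hf) hle⟩ |>.2 ⟨y, hy⟩
  have e : z.1 = y := congrArg Subtype.val hz
  rw [← e]
  exact z.2

end Perm

section Linear

variable {G : Type*} [Group G] {V : Type*} [AddCommGroup V] [Module (ZMod 2) V]

/-- A linear action as permutations. -/
def toP (ρ : G →* (V ≃ₗ[ZMod 2] V)) : G →* Equiv.Perm V where
  toFun g := (ρ g).toEquiv
  map_one' := by ext x; simp
  map_mul' g g' := by ext x; simp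

@[simp] theorem toP_apply (ρ : G →* (V ≃ₗ[ZMod 2] V)) (g : G) (x : V) : toP ρ g x = ρ g x := rfl

/-- The contragredient action. -/
def dualRep (ρ : G →* (V ≃ₗ[ZMod 2] V)) :
    G →* (Module.Dual (ZMod 2) V ≃ₗ[ZMod 2] Module.Dual (ZMod 2) V) where
  toFun g := (ρ g⁻¹).dualMap
  map_one' := by ext f x; simp
  map_mul' g g' := by ext f x; simp [mul_inv_rev]

theorem dualRep_apply (ρ : G →* (V ≃ₗ[ZMod 2] V)) (g : G) (f : Module.Dual (ZMod 2) V) (x : V) :
    dualRep ρ g f x = f (ρ g⁻¹ x) := rfl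

theorem dualRep_eq_iff (ρ : G →* (V ≃ₗ[ZMod 2] V)) (g : G) (f f' : Module.Dual (ZMod 2) V) :
    dualRep ρ g f = f' ↔ ∀ x, f' (ρ g x) = f x := by
  constructor
  · rintro rfl x
    simp [dualRep_apply]
  · intro h
    ext x
    have := h (ρ g⁻¹ x)
    rw [dualRep_apply, ← this]
    simp

variable [Finite V]

theorem card_ker_dualMap (φ : V →ₗ[ZMod 2] V) :
    Nat.card (LinearMap.ker φ.dualMap) = Nat.card (LinearMap.ker φ) := by
  haveI : Module.Finite (ZMod 2) V := Module.Finite.of_finite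
  rw [Module.natCard_eq_pow_finrank (K := ZMod 2) (V := LinearMap.ker φ.dualMap),
    Module.natCard_eq_pow_finrank (K := ZMod 2) (V := LinearMap.ker φ)]
  congr 1
  have h1 := φ.dualMap.finrank_range_add_finrank_ker
  have h2 := φ.finrank_range_add_finrank_ker
  rw [LinearMap.finrank_range_dualMap_eq_finrank_range, Subspace.dual_finrank_eq] at h1
  omega

theorem eq_iff_add_eq_zero {M : Type*} [AddCommGroup M] [Module (ZMod 2) M] (a b : M) :
    a = b ↔ a + b = 0 := by
  rw [← ZModModule.sub_eq_add, sub_eq_zero]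

theorem fix_dual (ρ : G →* (V ≃ₗ[ZMod 2] V)) (g : G) :
    Nat.card {f // toP (dualRep ρ) g f = f} = Nat.card {x // toP ρ g x = x} := by
  have h1 : Nat.card {f // toP (dualRep ρ) g f = f} =
      Nat.card (LinearMap.ker ((ρ g : V →ₗ[ZMod 2] V) + LinearMap.id).dualMap) := by
    refine Nat.card_congr (Equiv.subtypeEquivRight fun f => ?_)
    rw [toP_apply, dualRep_eq_iff, LinearMap.mem_ker, LinearMap.ext_iff]
    refine forall_congr' fun x => ?_
    simp only [LinearMap.dualMap_apply, LinearMap.add_apply, LinearMap.id_coe, id_eq,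
      LinearEquiv.coe_coe, map_add, LinearMap.zero_apply]
    exact eq_iff_add_eq_zero _ _
  have h2 : Nat.card {x // toP ρ g x = x} =
      Nat.card (LinearMap.ker ((ρ g : V →ₗ[ZMod 2] V) + LinearMap.id)) := by
    refine Nat.card_congr (Equiv.subtypeEquivRight fun x => ?_)
    simpa using eq_iff_add_eq_zero (ρ g x) x
  rw [h1, h2, card_ker_dualMap]

theorem dual_sep (W : Submodule (ZMod 2) V) {x : V} (hx : x ∉ W) :
    ∃ f : Module.Dual (ZMod 2) V, f x = 1 ∧ ∀ w ∈ W, f w = 0 := by
  obtain ⟨f, hf, hW⟩ := Submodule.exists_dual_map_eq_bot_of_notMem hx inferInstance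
  refine ⟨f, ?_, fun w hw => ?_⟩
  · have : ∀ a : ZMod 2, a ≠ 0 → a = 1 := by decide
    exact this _ hf
  · have h1 : f w ∈ W.map f := Submodule.mem_map_of_mem hw
    rwa [hW, Submodule.mem_bot] at h1

/-- All fibres of a surjective additive map have the same size. -/
theorem card_fibre {A B : Type*} [AddCommGroup A] [AddCommGroup B] [Finite A] (φ : A →+ B)
    (hφ : Function.Surjective φ) (b : B) : Nat.card {x // φ x = b} * Nat.card B = Nat.card A := by
  obtain ⟨a, rfl⟩ := hφ b
  have e1 : Nat.card {x // φ x = φ a} = Nat.card φ.ker := by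
    refine Nat.card_congr ((Equiv.addRight (-a)).subtypeEquiv fun x => ?_)
    simp [AddMonoidHom.mem_ker, ← sub_eq_add_neg, sub_eq_zero]
  have e2 : φ.ker.index = Nat.card B := by
    rw [AddSubgroup.index_ker, AddMonoidHom.range_eq_top.2 hφ, AddSubgroup.card_top]
  rw [e1, ← e2, AddSubgroup.card_mul_index]

/-- The span of two vectors. -/
def Ln (c d : V) : Submodule (ZMod 2) V := Submodule.span (ZMod 2) {c, d}

theorem mem_Ln {c d x : V} : x ∈ Ln c d ↔ x = 0 ∨ x = c ∨ x = d ∨ x = c + d := by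
  rw [Ln, Submodule.mem_span_pair]
  constructor
  · rintro ⟨a, b, rfl⟩
    rcases (by decide : ∀ a : ZMod 2, a = 0 ∨ a = 1) a with rfl | rfl <;>
      rcases (by decide : ∀ a : ZMod 2, a = 0 ∨ a = 1) b with rfl | rfl <;> simp
  · rintro (rfl | rfl | rfl | rfl)
    exacts [⟨0, 0, by simp⟩, ⟨1, 0, by simp⟩, ⟨0, 1, by simp⟩, ⟨1, 1, by simp⟩]

theorem left_mem_Ln (c d : V) : c ∈ Ln c d := mem_Ln.2 (.inr (.inl rfl))
theorem right_mem_Ln (c d : V) : d ∈ Ln c d := mem_Ln.2 (.inr (.inr (.inl rfl)))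

/-- Two vectors are independent. -/
def Indep (c d : V) : Prop := c ≠ 0 ∧ d ≠ 0 ∧ c ≠ d

theorem Indep.swap {c d : V} (h : Indep c d) : Indep d c := ⟨h.2.1, h.1, h.2.2.symm⟩

theorem Indep.add_ne {c d : V} (h : Indep c d) : c + d ≠ 0 := fun he =>
  h.2.2 ((eq_iff_add_eq_zero c d).2 he)

theorem Indep.map {c d : V} (h : Indep c d) (g : V ≃ₗ[ZMod 2] V) : Indep (g c) (g d) :=
  ⟨g.map_ne_zero_iff.2 h.1, g.map_ne_zero_iff.2 h.2.1, fun he => h.2.2 (g.injective he)⟩

theorem indep_of_notMem {c d x : V} (hx : x ∉ Ln c d) : x ≠ 0 ∧ x ≠ c ∧ x ≠ d ∧ x ≠ c + d := by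
  simp only [mem_Ln, not_or] at hx
  exact hx

theorem finrank_Ln {c d : V} (h : Indep c d) : Module.finrank (ZMod 2) (Ln c d) = 2 := by
  have h4 : Nat.card (Ln c d) = 4 := by
    have e : (↑(Ln c d) : Set V) = ({0, c, d, c + d} : Set V) := by
      ext x; simp [mem_Ln]
    rw [← SetLike.coe_sort_coe, e, Nat.card_coe_set_eq]
    rw [Set.ncard_insert_of_notMem, Set.ncard_insert_of_notMem, Set.ncard_pair] <;>
      simp [h.1, h.2.1, h.2.2, h.1.symm, h.2.1.symm, h.add_ne.symm]
  rw [Module.natCard_eq_pow_finrank (K := ZMod 2), Nat.card_zmod] at h4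
  exact Nat.pow_right_injective (le_refl 2) (h4.trans (by norm_num : 4 = 2 ^ 2))

/-- Transitivity on ordered pairs of distinct non-zero vectors. -/
def Two (ρ : G →* (V ≃ₗ[ZMod 2] V)) : Prop :=
  ∀ a b a' b' : V, Indep a b → Indep a' b' → ∃ g, ρ g a = a' ∧ ρ g b = b'

/-- Pointwise stabiliser of two vectors. -/
def stab2 (ρ : G →* (V ≃ₗ[ZMod 2] V)) (c d : V) : Subgroup G :=
  stabP (toP ρ) c ⊓ stabP (toP ρ) d

omit [Finite V] in
theorem mem_stab2 {ρ : G →* (V ≃ₗ[ZMod 2] V)} {c d : V} {g : G} :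
    g ∈ stab2 ρ c d ↔ ρ g c = c ∧ ρ g d = d := Iff.rfl

variable [Finite G] {ρ : G →* (V ≃ₗ[ZMod 2] V)}

theorem Two.trans_one (h : Two ρ) {n : ℕ} (hn : Module.finrank (ZMod 2) V = n) (h2 : 2 ≤ n)
    {a b : V} (ha : a ≠ 0) (hb : b ≠ 0) : ∃ g, ρ g a = b := by
  have hex : ∀ x : V, x ≠ 0 → ∃ y, Indep x y := by
    intro x hx
    by_contra hc
    have hall : (⊤ : Submodule (ZMod 2) V) ≤ Submodule.span (ZMod 2) {x} := by
      intro y _
      by_cases hy : y = 0
      · simp [hy]
      · by_cases hxy : x = y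
        · exact hxy ▸ Submodule.mem_span_singleton_self x
        · exact absurd ⟨y, hx, hy, hxy⟩ hc
    have := Submodule.finrank_mono hall
    rw [finrank_top, hn, finrank_span_singleton hx] at this
    omega
  obtain ⟨a', ha'⟩ := hex a ha
  obtain ⟨b', hb'⟩ := hex b hb
  obtain ⟨g, hg, -⟩ := h a a' b b' ha' hb'
  exact ⟨g, hg⟩

open Classical in
/-- The type of a pair of vectors. -/
noncomputable def vType (x : V × V) : Fin 5 :=
  if x.1 = 0 then (if x.2 = 0 then 0 else 1)
  else if x.2 = 0 then 2 else if x.1 = x.2 then 3 else 4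

open Classical in
/-- The type of a vector with a functional. -/
noncomputable def fType (x : V × Module.Dual (ZMod 2) V) : Fin 5 :=
  if x.1 = 0 then (if x.2 = 0 then 0 else 1)
  else if x.2 = 0 then 2 else if x.2 x.1 = 1 then 3 else 4

theorem same_of_fType (h : Two ρ) {n : ℕ} (hn : Module.finrank (ZMod 2) V = n) (h2 : 2 ≤ n)
    {v v' : V} {f f' : Module.Dual (ZMod 2) V} (he : fType (v, f) = fType (v', f')) :
    ∃ g, ρ g v = v' ∧ dualRep ρ g f = f' := by
  classical
  haveI : Finite (Module.Dual (ZMod 2) V) := Module.finite_of_finite (ZMod 2)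
  let π := toP ρ
  let τ := toP (dualRep ρ)
  have hcard : Nat.card (Orb (prodPi π τ)) ≤ 5 := by
    rw [orb_card_eq (prodPi π τ) (prodPi π π) fun g => by
      rw [card_fix_prod, card_fix_prod, fix_dual]]
    have hinv : ∀ x y, vType (V := V) x = vType y → SameO (prodPi π π) x y := by
      rintro ⟨a, b⟩ ⟨a', b'⟩ hxy
      suffices ∃ g, ρ g a = a' ∧ ρ g b = b' from
        let ⟨g, h1, h2⟩ := this; ⟨g, Prod.ext h1 h2⟩
      have key : (a = 0 ↔ a' = 0) ∧ (b = 0 ↔ b' = 0) ∧ (a = b ↔ a' = b') := by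
        simp only [vType] at hxy
        refine ⟨?_, ?_, ?_⟩ <;> split_ifs at hxy <;> simp_all [eq_comm]
      obtain ⟨ka, kb, kab⟩ := key
      by_cases ca : a = 0
      · by_cases cb : b = 0
        · exact ⟨1, by simp [ca, cb, ka.1 ca, kb.1 cb]⟩
        · obtain ⟨g, hg⟩ := h.trans_one hn h2 cb (fun e => cb (kb.2 e))
          exact ⟨g, by simp [ca, ka.1 ca], hg⟩
      · obtain ⟨g, hg⟩ := h.trans_one hn h2 ca (fun e => ca (ka.2 e))
        by_cases cb : b = 0
        · exact ⟨g, hg, by simp [cb, kb.1 cb]⟩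
        · by_cases cab : a = b
          · exact ⟨g, hg, by rw [← cab, ← kab.1 cab, hg]⟩
          · exact h a b a' b' ⟨ca, cb, cab⟩
              ⟨fun e => ca (ka.2 e), fun e => cb (kb.2 e), fun e => cab (kab.2 e)⟩
    choose r hr using Orb.mk_surjective (prodPi π π)
    have := Nat.card_le_card_of_injective (fun o => vType (r o)) fun o o' ho => by
      rw [← hr o, ← hr o']
      exact Orb.mk_eq.2 (hinv _ _ ho)
    simpa using this
  have hinv : ∀ x y, SameO (prodPi π τ) x y → fType (V := V) x = fType y := by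
    rintro ⟨a, φ⟩ ⟨a', φ'⟩ ⟨g, hg⟩
    rw [prodPi_apply, Prod.mk.injEq] at hg
    obtain ⟨h1, h2⟩ := hg
    simp only [π, τ, toP_apply] at h1 h2
    subst h1
    have h3 := (dualRep_eq_iff ρ g φ φ').1 h2
    have h4 : φ = 0 ↔ φ' = 0 := by rw [← h2]; exact (dualRep ρ g).map_eq_zero_iff.symm
    simp only [fType, h4, h3, (ρ g).map_eq_zero_iff]
  let F : Orb (prodPi π τ) → Fin 5 := Quotient.lift fType hinv
  have hsurj : Function.Surjective F := by
    obtain ⟨a, ha⟩ : ∃ a : V, a ≠ 0 := by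
      by_contra hc
      push Not at hc
      haveI : Subsingleton V := ⟨fun x y => by rw [hc x, hc y]⟩
      rw [Module.finrank_zero_of_subsingleton] at hn
      omega
    obtain ⟨f1, hf1, -⟩ := dual_sep ⊥ (x := a) (by simpa using ha)
    obtain ⟨b, hb⟩ : ∃ b, b ∉ Submodule.span (ZMod 2) {a} := by
      by_contra hc
      push Not at hc
      have := Submodule.finrank_mono (fun y (_ : y ∈ (⊤ : Submodule (ZMod 2) V)) => hc y)
      rw [finrank_top, hn, finrank_span_singleton ha] at this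
      omega
    obtain ⟨f0, hf0, hf0a⟩ := dual_sep _ hb
    have hf0a' := hf0a a (Submodule.mem_span_singleton_self a)
    have hne1 : f1 ≠ 0 := fun e => by simp [e] at hf1
    have hne0 : f0 ≠ 0 := fun e => by simp [e] at hf0
    intro i
    fin_cases i
    · exact ⟨Orb.mk _ (0, 0), by simp [F, Orb.mk, fType]⟩
    · exact ⟨Orb.mk _ (0, f1), by simp [F, Orb.mk, fType, hne1]⟩
    · exact ⟨Orb.mk _ (a, 0), by simp [F, Orb.mk, fType, ha]⟩
    · exact ⟨Orb.mk _ (a, f1), by simp [F, Orb.mk, fType, ha, hne1, hf1]⟩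
    · exact ⟨Orb.mk _ (a, f0), by simp [F, Orb.mk, fType, ha, hne0, hf0a']⟩
  have hb := (hsurj.bijective_of_nat_card_le (by simpa using hcard)).1
    (a₁ := Orb.mk _ (v, f)) (a₂ := Orb.mk _ (v', f')) he
  obtain ⟨g, hg⟩ := Orb.mk_eq.1 hb
  rw [prodPi_apply, Prod.mk.injEq] at hg
  exact ⟨g, hg⟩

/-- Transitivity on non-incident pairs. -/
theorem antiflag (h : Two ρ) {n : ℕ} (hn : Module.finrank (ZMod 2) V = n) (h2 : 2 ≤ n)
    {v v' : V} {f f' : Module.Dual (ZMod 2) V} (hv : f v = 1) (hv' : f' v' = 1) :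
    ∃ g, ρ g v = v' ∧ dualRep ρ g f = f' := by
  have key : ∀ (a : V) (φ : Module.Dual (ZMod 2) V), φ a = 1 → fType (a, φ) = 3 := by
    intro a φ ha
    have h0 : a ≠ 0 := fun e => by simp [e] at ha
    have h1 : φ ≠ 0 := fun e => by simp [e] at ha
    simp [fType, h0, h1, ha]
  exact same_of_fType h hn h2 ((key v f hv).trans (key v' f' hv').symm)

/-- Transitivity on incident pairs. -/
theorem flag (h : Two ρ) {n : ℕ} (hn : Module.finrank (ZMod 2) V = n) (h2 : 2 ≤ n)
    {v v' : V} {f f' : Module.Dual (ZMod 2) V} (hv : f v = 0) (hv' : f' v' = 0) (h0 : v ≠ 0)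
    (h0' : v' ≠ 0) (hf : f ≠ 0) (hf' : f' ≠ 0) : ∃ g, ρ g v = v' ∧ dualRep ρ g f = f' :=
  same_of_fType h hn h2 (by simp [fType, h0, h0', hf, hf', hv, hv'])

/-- The index of a pair stabiliser. -/
theorem index_stab2 (h : Two ρ) {n : ℕ} (hn : Module.finrank (ZMod 2) V = n) (h2 : 2 ≤ n)
    {c d : V} (hcd : Indep c d) :
    (stabP (toP ρ) c).index = 2 ^ n - 1 ∧
      (stab2 ρ c d).relIndex (stabP (toP ρ) c) = 2 ^ n - 2 := by
  classical
  have hV : Nat.card V = 2 ^ n := by
    rw [Module.natCard_eq_pow_finrank (K := ZMod 2), hn, Nat.card_zmod]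
  constructor
  · rw [← card_orbit_mul]
    have e : {y : V | SameO (toP ρ) c y} = ({0} : Set V)ᶜ := by
      ext y
      refine ⟨fun ⟨g, hg⟩ => ?_, fun hy => h.trans_one hn h2 hcd.1 hy⟩
      rw [Set.mem_compl_iff, Set.mem_singleton_iff, ← hg, toP_apply, LinearEquiv.map_eq_zero_iff]
      exact hcd.1
    rw [show {y // SameO (toP ρ) c y} = ↥{y : V | SameO (toP ρ) c y} from rfl, e,
      Nat.card_coe_set_eq, Set.ncard_compl, Set.ncard_singleton, hV]
  · have e1 : (stab2 ρ c d).subgroupOf (stabP (toP ρ) c) =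
        stabP ((toP ρ).comp (stabP (toP ρ) c).subtype) d :=
      Subgroup.ext fun g => ⟨fun hg => hg.2, fun hg => ⟨g.2, hg⟩⟩
    rw [Subgroup.relIndex, e1, ← card_orbit_mul]
    have e : {y : V | SameO ((toP ρ).comp (stabP (toP ρ) c).subtype) d y} = ({0, c} : Set V)ᶜ := by
      ext y
      constructor
      · rintro ⟨⟨g, hg⟩, hy⟩
        have hy' : ρ g d = y := hy
        simp only [Set.mem_compl_iff, Set.mem_insert_iff, Set.mem_singleton_iff, not_or]
        exact ⟨hy' ▸ (ρ g).map_ne_zero_iff.2 hcd.2.1,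
          fun e => hcd.2.2 ((ρ g).injective ((mem_stabP.1 hg).trans (hy'.trans e).symm))⟩
      · intro hy
        simp only [Set.mem_compl_iff, Set.mem_insert_iff, Set.mem_singleton_iff, not_or] at hy
        obtain ⟨g, hgc, hgd⟩ := h c d c y hcd ⟨hcd.1, hy.1, Ne.symm hy.2⟩
        exact ⟨⟨g, hgc⟩, hgd⟩
    rw [show {y // SameO ((toP ρ).comp (stabP (toP ρ) c).subtype) d y} =
      ↥{y : V | SameO ((toP ρ).comp (stabP (toP ρ) c).subtype) d y} from rfl, e,
      Nat.card_coe_set_eq, Set.ncard_compl, Set.ncard_pair hcd.1.symm, hV]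

/-- The pointwise stabiliser of two vectors is transitive on the functionals with prescribed values
`1, 0` on them. -/
theorem stab2_trans_class (h : Two ρ) {n : ℕ} (hn : Module.finrank (ZMod 2) V = n) (h2 : 2 ≤ n)
    {c d : V} (hcd : Indep c d) {f f' : Module.Dual (ZMod 2) V} (hfc : f c = 1) (hfd : f d = 0)
    (hfc' : f' c = 1) (hfd' : f' d = 0) :
    ∃ g ∈ stab2 ρ c d, dualRep ρ g f = f' := by
  classical
  haveI : Finite (Module.Dual (ZMod 2) V) := Module.finite_of_finite (ZMod 2)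
  have hV : Nat.card (Module.Dual (ZMod 2) V) = 2 ^ n := by
    rw [Module.natCard_eq_pow_finrank (K := ZMod 2), Subspace.dual_finrank_eq, hn, Nat.card_zmod]
  let Gc := stabP (toP ρ) c
  let τ : Gc →* Equiv.Perm (Module.Dual (ZMod 2) V) := (toP (dualRep ρ)).comp Gc.subtype
  let M := (stab2 ρ c d).subgroupOf Gc
  have hbig : Nat.card {y // SameO τ f y} = 2 ^ (n - 1) := by
    have e : {y | SameO τ f y} = {y : Module.Dual (ZMod 2) V | y c = 1} := by
      ext y
      constructor
      · rintro ⟨⟨g, hg⟩, hy⟩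
        have hy' : dualRep ρ g f = y := hy
        have := (dualRep_eq_iff ρ g f y).1 hy' c
        rw [show ρ g c = c from hg, hfc] at this
        exact this
      · intro hy
        obtain ⟨g, hgc, hgf⟩ := antiflag h hn h2 hfc hy
        exact ⟨⟨g, hgc⟩, hgf⟩
    rw [show {y // SameO τ f y} = ↥{y | SameO τ f y} from rfl, e]
    have hs : Function.Surjective (AddMonoidHom.mk' (fun y : Module.Dual (ZMod 2) V => y c)
        (fun a b => rfl)) := by
      intro a
      rcases (by decide : ∀ a : ZMod 2, a = 0 ∨ a = 1) a with rfl | rfl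
      · exact ⟨0, rfl⟩
      · exact ⟨f, hfc⟩
    have h1 : Nat.card {y : Module.Dual (ZMod 2) V // y c = 1} * 2 = 2 ^ n := by
      have := card_fibre _ hs 1
      rwa [Nat.card_zmod, hV] at this
    show Nat.card {y : Module.Dual (ZMod 2) V // y c = 1} = _
    rw [show n = n - 1 + 1 by omega, pow_succ] at h1
    omega
  have hidx : M.index = 2 * (2 ^ (n - 1) - 1) := by
    rw [show M.index = (stab2 ρ c d).relIndex Gc from rfl, (index_stab2 h hn h2 hcd).2,
      Nat.mul_sub, ← pow_succ', show n - 1 + 1 = n by omega]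
  have hd := orbit_dvd τ M f
  rw [hbig, hidx] at hd
  have hsplit : (2 : ℕ) ^ (n - 1) = 2 * 2 ^ (n - 2) := by
    rw [← pow_succ', show n - 2 + 1 = n - 1 by omega]
  have hd2 : 2 ^ (n - 2) ∣ Nat.card {y // SameO (τ.comp M.subtype) f y} := by
    rw [hsplit, mul_assoc] at hd
    refine (Nat.Coprime.dvd_of_dvd_mul_left ?_ (Nat.dvd_of_mul_dvd_mul_left two_pos hd))
    rcases Nat.eq_zero_or_pos (n - 2) with h0 | h0
    · simp [h0]
    refine (Nat.coprime_pow_left_iff h0 _ _).2 (Nat.prime_two.coprime_iff_not_dvd.2 fun h4 => ?_)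
    have : 2 ∣ 2 * 2 ^ (n - 2) := dvd_mul_right _ _
    have := Nat.one_le_two_pow (n := n - 1)
    omega
  have hsmall : Nat.card {y : Module.Dual (ZMod 2) V // y c = 1 ∧ y d = 0} ≤ 2 ^ (n - 2) := by
    let φ : Module.Dual (ZMod 2) V →+ ZMod 2 × ZMod 2 :=
      AddMonoidHom.mk' (fun y => (y c, y d)) fun a b => rfl
    have hs : Function.Surjective φ := by
      obtain ⟨f2, hf2, hf2'⟩ := dual_sep (Submodule.span (ZMod 2) {c}) (x := d) (by
        rw [Submodule.mem_span_singleton]
        rintro ⟨a, ha⟩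
        rcases (by decide : ∀ a : ZMod 2, a = 0 ∨ a = 1) a with rfl | rfl
        · exact hcd.2.1 (by simpa using ha.symm)
        · exact hcd.2.2 (by simpa using ha))
      have hf2c := hf2' c (Submodule.mem_span_singleton_self c)
      rintro ⟨a, b⟩
      refine ⟨a • f + b • f2, ?_⟩
      simp [φ, hfc, hfd, hf2, hf2c]
    have h1 := card_fibre φ hs (1, 0)
    rw [Nat.card_prod, Nat.card_zmod, hV] at h1
    have h4 : (2 : ℕ) ^ n = 2 ^ (n - 2) * (2 * 2) := by
      rw [show (2 * 2 : ℕ) = 2 ^ 2 by norm_num, ← pow_add, show n - 2 + 2 = n by omega]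
    have e : Nat.card {y : Module.Dual (ZMod 2) V // y c = 1 ∧ y d = 0} =
        Nat.card {y // φ y = (1, 0)} :=
      Nat.card_congr (Equiv.subtypeEquivRight fun y => Prod.mk_inj.symm)
    rw [h4] at h1
    omega
  obtain ⟨⟨g, hg⟩, hgf⟩ := sameO_of_dvd (τ.comp M.subtype) (fun y => y c = 1 ∧ y d = 0) f (by
      rintro ⟨⟨g, hg⟩, hgM⟩
      have hm : ρ g c = c ∧ ρ g d = d := hgM
      have h3 := (dualRep_eq_iff ρ g f _).1 rfl
      have h4 := h3 c
      have h5 := h3 d
      rw [hm.1, hfc] at h4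
      rw [hm.2, hfd] at h5
      exact ⟨h4, h5⟩) hsmall hd2 f' ⟨hfc', hfd'⟩
  exact ⟨g, hg, hgf⟩

end Linear

end Cfsg.Agent.SingerOver
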