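import Cfsg.Agent.Lib.SingerOver.Full

/-!
Fixed and moved subspaces of subgroups of odd order, and dimensions of subspaces invariant under an
`r`-group.
-/

set_option autoImplicit false
set_option linter.style.haveILetI false
set_option linter.unusedSectionVars false

namespace Cfsg.Agent.SingerOver

variable {G : Type*} [Group G] [Finite G] {V : Type*} [AddCommGroup V] [Module (ZMod 2) V] [Finite V]
  (ρ : G →* (V ≃ₗ[ZMod 2] V))

/-- The common fixed vectors. -/
def fixV (A : Subgroup G) : Submodule (ZMod 2) V where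
  carrier := {x | ∀ a ∈ A, ρ a x = x}
  zero_mem' := fun a _ => map_zero _
  add_mem' := fun {x y} hx hy a ha => by rw [map_add, hx a ha, hy a ha]
  smul_mem' := fun t x hx a ha => by rw [map_smul, hx a ha]

/-- The sum over the subgroup. -/
noncomputable def avg (A : Subgroup G) : V →ₗ[ZMod 2] V :=
  letI := Fintype.ofFinite A
  ∑ a : A, (ρ a : V →ₗ[ZMod 2] V)

/-- The moved subspace. -/
noncomputable def movV (A : Subgroup G) : Submodule (ZMod 2) V := LinearMap.ker (avg ρ A)

/-- The pointwise stabiliser of a submodule. -/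
def ptw (S : Submodule (ZMod 2) V) : Subgroup G where
  carrier := {g | ∀ x ∈ S, ρ g x = x}
  one_mem' := fun x _ => by simp
  mul_mem' := fun {g h} hg hh x hx => by rw [map_mul, LinearEquiv.mul_apply, hh x hx, hg x hx]
  inv_mem' := fun {g} hg x hx => by
    conv_lhs => rw [← hg x hx]
    simp

variable {ρ}

theorem mem_fixV {A : Subgroup G} {x : V} : x ∈ fixV ρ A ↔ ∀ a ∈ A, ρ a x = x := Iff.rfl

theorem mem_ptw {S : Submodule (ZMod 2) V} {g : G} : g ∈ ptw ρ S ↔ ∀ x ∈ S, ρ g x = x := Iff.rfl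

theorem conj_ptw {S : Submodule (ZMod 2) V} {g q : G} (hg : g ∈ stabS ρ S) (hq : q ∈ ptw ρ S) :
    g * q * g⁻¹ ∈ ptw ρ S := fun x hx => by
  rw [map_mul, map_mul, LinearEquiv.mul_apply, LinearEquiv.mul_apply,
    hq _ (stabS_apply (inv_mem hg) hx)]
  simp

theorem avg_apply (A : Subgroup G) (x : V) :
    letI := Fintype.ofFinite A
    avg ρ A x = ∑ a : A, ρ a x := by
  simp [avg, LinearMap.coe_sum]

theorem apply_avg (A : Subgroup G) {a : G} (ha : a ∈ A) (x : V) : ρ a (avg ρ A x) = avg ρ A x := by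
  letI := Fintype.ofFinite A
  rw [avg_apply, map_sum]
  exact Fintype.sum_equiv (Equiv.mulLeft ⟨a, ha⟩) _ _ fun b => by simp

theorem avg_apply_of_comm (A : Subgroup G) {g : G} {x : V}
    (hc : ∀ a ∈ A, ρ g (ρ a x) = ρ a (ρ g x)) : avg ρ A (ρ g x) = ρ g (avg ρ A x) := by
  letI := Fintype.ofFinite A
  rw [avg_apply, avg_apply, map_sum]
  exact Finset.sum_congr rfl fun b _ => (hc b b.2).symm

theorem avg_normalizer {A : Subgroup G} {g : G} (hg : g ∈ Subgroup.normalizer (A : Set G)) (x : V) :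
    avg ρ A (ρ g x) = ρ g (avg ρ A x) := by
  letI := Fintype.ofFinite A
  rw [avg_apply, avg_apply, map_sum]
  have hmem : ∀ a : A, g * (a : G) * g⁻¹ ∈ A := fun a => (Subgroup.mem_normalizer_iff.1 hg _).1 a.2
  let e : A → A := fun a => ⟨g * (a : G) * g⁻¹, hmem a⟩
  have he : Function.Bijective e := by
    refine Finite.injective_iff_bijective.1 fun a b h => Subtype.ext ?_
    simpa [e] using congrArg Subtype.val h
  exact (Fintype.sum_bijective e he (fun a => ρ g (ρ a x)) (fun a => ρ a (ρ g x))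
    fun a => by simp [e]).symm

theorem fixV_normalizer {A : Subgroup G} {g : G} (hg : g ∈ Subgroup.normalizer (A : Set G)) {x : V}
    (hx : x ∈ fixV ρ A) : ρ g x ∈ fixV ρ A := by
  intro a ha
  have h := hx _ ((Subgroup.mem_normalizer_iff''.1 hg a).1 ha)
  have : ρ g (ρ (g⁻¹ * a * g) x) = ρ g x := by rw [h]
  simpa using this

theorem movV_normalizer {A : Subgroup G} {g : G} (hg : g ∈ Subgroup.normalizer (A : Set G)) {x : V}
    (hx : x ∈ movV ρ A) : ρ g x ∈ movV ρ A := by
  rw [movV, LinearMap.mem_ker] at hx ⊢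
  rw [avg_normalizer hg, hx, map_zero]

theorem avg_of_fixed {A : Subgroup G} (hA : Odd (Nat.card A)) {x : V} (hx : ∀ a ∈ A, ρ a x = x) :
    avg ρ A x = x := by
  letI := Fintype.ofFinite A
  rw [avg_apply, Finset.sum_congr rfl fun a _ => hx a.1 a.2, Finset.sum_const, Finset.card_univ,
    ← Nat.card_eq_fintype_card, ← Nat.cast_smul_eq_nsmul (ZMod 2),
    ZMod.natCast_eq_one_iff_odd.2 hA, one_smul]

theorem avg_mem_fixV (A : Subgroup G) (x : V) : avg ρ A x ∈ fixV ρ A := fun _ ha => apply_avg A ha x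

theorem add_avg_mem_movV {A : Subgroup G} (hA : Odd (Nat.card A)) (x : V) :
    avg ρ A x + x ∈ movV ρ A := by
  rw [movV, LinearMap.mem_ker, map_add, avg_of_fixed hA (avg_mem_fixV A x), ZModModule.add_self]

theorem isCompl_fix_mov {A : Subgroup G} (hA : Odd (Nat.card A)) : IsCompl (fixV ρ A) (movV ρ A) := by
  refine IsCompl.of_eq ?_ ?_
  · rw [eq_bot_iff]
    rintro x ⟨h1, h2⟩
    rw [Submodule.mem_bot, ← avg_of_fixed hA h1]
    exact LinearMap.mem_ker.1 h2
  · rw [eq_top_iff]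
    intro x _
    have : avg ρ A x + (avg ρ A x + x) = x := by rw [← add_assoc, ZModModule.add_self, zero_add]
    rw [← this]
    exact Submodule.add_mem_sup (avg_mem_fixV A x) (add_avg_mem_movV hA x)

theorem avg_mem {A : Subgroup G} {S : Submodule (ZMod 2) V} (hS : A ≤ stabS ρ S) {x : V} (hx : x ∈ S) :
    avg ρ A x ∈ S := by
  letI := Fintype.ofFinite A
  rw [avg_apply]
  exact sum_mem fun a _ => stabS_apply (hS a.2) hx

theorem finrank_fix_mov {A : Subgroup G} (hA : Odd (Nat.card A)) {S : Submodule (ZMod 2) V}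
    (hS : A ≤ stabS ρ S) :
    (S ⊓ fixV ρ A) ⊔ (S ⊓ movV ρ A) = S ∧
      Module.finrank (ZMod 2) ↥(S ⊓ fixV ρ A) + Module.finrank (ZMod 2) ↥(S ⊓ movV ρ A) =
        Module.finrank (ZMod 2) S := by
  haveI : Module.Finite (ZMod 2) V := Module.Finite.of_finite
  have h1 : (S ⊓ fixV ρ A) ⊔ (S ⊓ movV ρ A) = S := by
    refine le_antisymm (sup_le inf_le_left inf_le_left) fun x hx => ?_
    have h := avg_mem hS hx
    have : avg ρ A x + (avg ρ A x + x) = x := by rw [← add_assoc, ZModModule.add_self, zero_add]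
    rw [← this]
    exact Submodule.add_mem_sup ⟨h, avg_mem_fixV A x⟩ ⟨add_mem h hx, add_avg_mem_movV hA x⟩
  refine ⟨h1, ?_⟩
  have h2 : (S ⊓ fixV ρ A) ⊓ (S ⊓ movV ρ A) = ⊥ :=
    le_bot_iff.1 ((inf_le_inf inf_le_right inf_le_right).trans (isCompl_fix_mov hA).inf_eq_bot.le)
  have := Submodule.finrank_sup_add_finrank_inf_eq (S ⊓ fixV ρ A) (S ⊓ movV ρ A)
  rw [h1, h2, finrank_bot, add_zero] at this
  exact this.symm

theorem odd_card {A : Subgroup G} {r : ℕ} [Fact r.Prime] (hr : r ≠ 2) (hA : IsPGroup r A) :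
    Odd (Nat.card A) := by
  obtain ⟨k, hk⟩ := IsPGroup.iff_card.1 hA
  exact hk ▸ ((Fact.out : r.Prime).odd_of_ne_two hr).pow

/-- The action of a subgroup on an invariant submodule. -/
abbrev subAct (A : Subgroup G) (S : Submodule (ZMod 2) V) (hS : A ≤ stabS ρ S) : MulAction A S :=
  MulAction.compHom S (toP (resRep ρ S A hS))

theorem mem_fixedPoints_subAct {A : Subgroup G} {S : Submodule (ZMod 2) V} (hS : A ≤ stabS ρ S) (x : S) :
    (letI := subAct A S hS; x ∈ MulAction.fixedPoints A S) ↔ (x : V) ∈ fixV ρ A :=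
  ⟨fun h a ha => congrArg Subtype.val (h ⟨a, ha⟩), fun h a => Subtype.ext (h a.1 a.2)⟩

/-- An invariant submodule without fixed vectors has order congruent to one. -/
theorem dvd_of_fpf {A : Subgroup G} {r : ℕ} [Fact r.Prime] (hA : IsPGroup r A) {S : Submodule (ZMod 2) V}
    (hS : A ≤ stabS ρ S) (hf : S ⊓ fixV ρ A = ⊥) : r ∣ 2 ^ Module.finrank (ZMod 2) S - 1 := by
  letI := subAct A S hS
  have h := hA.card_modEq_card_fixedPoints S
  have e : Nat.card (MulAction.fixedPoints A S) = 1 := by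
    rw [Nat.card_eq_one_iff_unique]
    refine ⟨⟨fun x y => ?_⟩, ⟨⟨0, fun a => map_zero (resRep ρ S A hS a)⟩⟩⟩
    have key : ∀ z : MulAction.fixedPoints A S, ((z : S) : V) = 0 := fun z => by
      have : ((z : S) : V) ∈ S ⊓ fixV ρ A := ⟨(z : S).2, (mem_fixedPoints_subAct hS _).1 z.2⟩
      rwa [hf, Submodule.mem_bot] at this
    exact Subtype.ext (Subtype.ext ((key x).trans (key y).symm))
  rw [e, Module.natCard_eq_pow_finrank (K := ZMod 2) (V := S), Nat.card_zmod] at h
  exact (Nat.modEq_iff_dvd' Nat.one_le_two_pow).1 h.symm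

/-- A `2`-group fixes a non-zero vector in a non-zero invariant submodule. -/
theorem two_fixed {P : Subgroup G} (hP : IsPGroup 2 P) {S : Submodule (ZMod 2) V}
    (hS : P ≤ stabS ρ S) (hne : S ≠ ⊥) : S ⊓ fixV ρ P ≠ ⊥ := by
  haveI : Fact (Nat.Prime 2) := ⟨Nat.prime_two⟩
  haveI : Module.Finite (ZMod 2) V := Module.Finite.of_finite
  intro hf
  have h := dvd_of_fpf hP hS hf
  have h0 : 0 < Module.finrank (ZMod 2) S := by
    rw [pos_iff_ne_zero]
    exact fun e => hne (Submodule.finrank_eq_zero.1 e)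
  have h2 : (2 : ℕ) ^ Module.finrank (ZMod 2) S = 2 * 2 ^ (Module.finrank (ZMod 2) S - 1) := by
    rw [← pow_succ', show Module.finrank (ZMod 2) S - 1 + 1 = Module.finrank (ZMod 2) S by omega]
  have := Nat.one_le_two_pow (n := Module.finrank (ZMod 2) S - 1)
  omega

end Cfsg.Agent.SingerOver
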