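import Cfsg.Agent.Lib.SingerOver.Local

/-!
A two-transitive group with a transvection is the general linear group; dimensions two and three.
-/

set_option autoImplicit false
set_option linter.style.haveILetI false
set_option linter.unusedSectionVars false

namespace Cfsg.Agent.SingerOver

variable {G : Type*} [Group G] [Finite G] {V : Type*} [AddCommGroup V] [Module (ZMod 2) V] [Finite V]
  {ρ : G →* (V ≃ₗ[ZMod 2] V)} {n : ℕ}

theorem noTv_or_surjective (C : Ctx ρ n) : NoTv ρ ∨ Function.Surjective ρ := by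
  classical
  haveI : Module.Finite (ZMod 2) V := Module.Finite.of_finite
  by_cases h : NoTv ρ
  · exact .inl h
  right
  simp only [NoTv, not_forall] at h
  obtain ⟨g, a, hg, v0, hv0⟩ := h
  have hv0' : ρ g v0 = v0 + a := (hg v0).resolve_left hv0
  have ha : a ≠ 0 := by rintro rfl; exact hv0 (by rw [hv0', add_zero])
  obtain ⟨φ, hφ, -⟩ := dual_sep ⊥ (x := a) (by simpa using ha)
  let f : Module.Dual (ZMod 2) V := φ.comp ((ρ g : V →ₗ[ZMod 2] V) + LinearMap.id)
  have hT : ∀ v, ρ g v = v + f v • a := by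
    intro v
    show ρ g v = v + φ (ρ g v + v) • a
    rcases hg v with e | e
    · rw [e, ZModModule.add_self, map_zero, zero_smul, add_zero]
    · rw [e, show v + a + v = a by rw [add_comm v a, add_assoc, ZModModule.add_self, add_zero], hφ,
        one_smul]
  have hfa : f a = 0 := by
    rcases z2_cases (f a) with e | e
    · exact e
    · have := hT a
      rw [e, one_smul, ZModModule.add_self] at this
      exact absurd ((ρ g).map_eq_zero_iff.1 this) ha
  have hf : f ≠ 0 := fun e => hv0 (by rw [hT v0, e, LinearMap.zero_apply, zero_smul, add_zero])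
  have hall : ∀ (c : V) (q : Module.Dual (ZMod 2) V), c ≠ 0 → q ≠ 0 → q c = 0 →
      ∃ t, ∀ v, ρ t v = v + q v • c := by
    intro c q hc hq hqc
    obtain ⟨h, h1, h2⟩ := flag C.two C.rank C.le hfa hqc ha hc hf hq
    refine ⟨h * g * h⁻¹, fun v => ?_⟩
    rw [map_mul, map_mul, LinearEquiv.mul_apply, LinearEquiv.mul_apply, hT, map_add, map_smul, h1]
    have h3 := (dualRep_eq_iff ρ h f q).1 h2 (ρ h⁻¹ v)
    simp only [map_inv] at h3 ⊢
    simp only [LinearEquiv.coe_inv, LinearEquiv.apply_symm_apply] at h3 ⊢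
    rw [h3]
  -- transvections generate
  suffices key : ∀ (m : ℕ) (L : V ≃ₗ[ZMod 2] V),
      n - Module.finrank (ZMod 2) (LinearMap.ker ((L : V →ₗ[ZMod 2] V) + LinearMap.id)) = m →
        ∃ t, ρ t = L from fun L => key _ L rfl
  intro m
  induction m using Nat.strong_induction_on with
  | _ m ih =>
  intro L hm
  let F := LinearMap.ker ((L : V →ₗ[ZMod 2] V) + LinearMap.id)
  have hF : ∀ v, v ∈ F ↔ L v = v := fun v => by
    rw [LinearMap.mem_ker]
    exact (eq_iff_add_eq_zero (L v) v).symm
  by_cases htop : F = ⊤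
  · exact ⟨1, by
      rw [map_one]
      exact LinearEquiv.ext fun v => ((hF v).1 (htop ▸ Submodule.mem_top)).symm⟩
  obtain ⟨v, -, hv⟩ := SetLike.exists_of_lt (Ne.lt_top htop)
  have hLv : L v ∉ F := fun h => hv ((hF v).2 (L.injective ((hF _).1 h)))
  let c := L v + v
  have hc : c ≠ 0 := fun e => hv ((hF v).2 ((eq_iff_add_eq_zero _ _).2 e))
  have hvS : v ∉ F ⊔ Submodule.span (ZMod 2) {c} := by
    intro h
    obtain ⟨p, hp, q, hq, hpq⟩ := Submodule.mem_sup.1 h
    obtain ⟨t, rfl⟩ := Submodule.mem_span_singleton.1 hq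
    rcases z2_cases t with rfl | rfl
    · rw [zero_smul, add_zero] at hpq
      exact hv (hpq ▸ hp)
    · rw [one_smul] at hpq
      apply hLv
      have : p = L v := by
        calc p = p + (c + c) := by rw [ZModModule.add_self, add_zero]
          _ = (p + c) + c := (add_assoc _ _ _).symm
          _ = v + (L v + v) := by rw [hpq]
          _ = L v + (v + v) := by abel
          _ = L v := by rw [ZModModule.add_self, add_zero]
      exact this ▸ hp
  obtain ⟨q, hqv, hq0⟩ := dual_sep _ hvS
  have hqc : q c = 0 := hq0 c (Submodule.mem_sup_right (Submodule.mem_span_singleton_self c))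
  obtain ⟨t, ht⟩ := hall c q hc (fun e => by simp [e] at hqv) hqc
  have htF : ∀ x ∈ F, ρ t x = x := fun x hx => by
    rw [ht, hq0 x (Submodule.mem_sup_left hx), zero_smul, add_zero]
  have htLv : ρ t (L v) = v := by
    have hqLv : q (L v) = 1 := by
      have : L v = c + v := by show L v = L v + v + v; rw [add_assoc, ZModModule.add_self, add_zero]
      rw [this, map_add, hqc, hqv, zero_add]
    rw [ht, hqLv, one_smul, ← add_assoc, ZModModule.add_self, zero_add]
  let L' := ρ t * L
  have hlt : F < LinearMap.ker ((L' : V →ₗ[ZMod 2] V) + LinearMap.id) := by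
    refine lt_of_le_not_ge (fun x hx => ?_) fun h => ?_
    · rw [LinearMap.mem_ker]
      refine (eq_iff_add_eq_zero _ _).1 ?_
      show ρ t (L x) = x
      rw [(hF x).1 hx, htF x hx]
    · refine hv (h ?_)
      rw [LinearMap.mem_ker]
      exact (eq_iff_add_eq_zero _ _).1 htLv
  have h1 := Submodule.finrank_lt_finrank_of_lt hlt
  have h2 := Submodule.finrank_le (LinearMap.ker ((L' : V →ₗ[ZMod 2] V) + LinearMap.id))
  rw [C.rank] at h2
  change n - Module.finrank (ZMod 2) F = m at hm
  obtain ⟨s, hs⟩ := ih _ (by omega) L' rfl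
  exact ⟨t⁻¹ * s, by rw [map_mul, hs, map_inv, ← mul_assoc, inv_mul_cancel, one_mul]⟩

theorem not_noTv_two (C : Ctx ρ n) (hn : n = 2) : ¬ NoTv ρ := by
  classical
  intro hnt
  haveI : Module.Finite (ZMod 2) V := Module.Finite.of_finite
  haveI : Nontrivial V := Module.nontrivial_of_finrank_pos (R := ZMod 2) (by rw [C.rank, hn]; omega)
  obtain ⟨c, hc⟩ := exists_ne (0 : V)
  obtain ⟨d, -, hd⟩ : ∃ d ∈ (⊤ : Submodule (ZMod 2) V), d ∉ Submodule.span (ZMod 2) {c} := by
    by_contra h
    push Not at h
    have := Submodule.finrank_mono h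
    rw [finrank_top, C.rank, finrank_span_singleton hc] at this
    omega
  have hcd : Indep c d :=
    ⟨hc, fun e => hd (e ▸ zero_mem _), fun e => hd (e ▸ Submodule.mem_span_singleton_self _)⟩
  have htop : Ln c d = ⊤ := Submodule.eq_top_of_finrank_eq (by rw [finrank_Ln hcd, C.rank, hn])
  obtain ⟨g, g1, g2⟩ := C.two c d c (c + d) hcd
    ⟨hc, hcd.add_ne, fun e => hcd.2.1 (by simpa using e)⟩
  have := hnt g c (fun v => by
    rcases mem_Ln.1 (htop ▸ Submodule.mem_top : v ∈ Ln c d) with rfl | rfl | rfl | rfl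
    · simp
    · exact .inl g1
    · right; rw [g2, add_comm]
    · right; rw [map_add, g1, g2]; abel) d
  exact hcd.1 (by simpa using g2.symm.trans this)

theorem not_noTv_three (C : Ctx ρ n) (hn : n = 3) : ¬ NoTv ρ := by
  classical
  intro hnt
  haveI : Module.Finite (ZMod 2) V := Module.Finite.of_finite
  haveI : Nontrivial V := Module.nontrivial_of_finrank_pos (R := ZMod 2) (by rw [C.rank, hn]; omega)
  obtain ⟨c, hc⟩ := exists_ne (0 : V)
  obtain ⟨d, -, hd⟩ : ∃ d ∈ (⊤ : Submodule (ZMod 2) V), d ∉ Submodule.span (ZMod 2) {c} := by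
    by_contra h
    push Not at h
    have := Submodule.finrank_mono h
    rw [finrank_top, C.rank, finrank_span_singleton hc] at this
    omega
  have hcd : Indep c d :=
    ⟨hc, fun e => hd (e ▸ zero_mem _), fun e => hd (e ▸ Submodule.mem_span_singleton_self _)⟩
  obtain ⟨u, -, hu⟩ : ∃ u ∈ (⊤ : Submodule (ZMod 2) V), u ∉ Ln c d := by
    by_contra h
    push Not at h
    have := Submodule.finrank_mono h
    rw [finrank_top, C.rank, finrank_Ln hcd] at this
    omega
  obtain ⟨g, g1, g2, g3⟩ := C.move hcd hu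
  have htop : Ln c d ⊔ Submodule.span (ZMod 2) {u} = ⊤ := by
    refine Submodule.eq_top_of_finrank_eq (le_antisymm (Submodule.finrank_le _) ?_)
    have hlt : Ln c d < Ln c d ⊔ Submodule.span (ZMod 2) {u} := lt_of_le_of_ne le_sup_left fun e =>
      hu (e ▸ Submodule.mem_sup_right (Submodule.mem_span_singleton_self u))
    have := Submodule.finrank_lt_finrank_of_lt hlt
    rw [finrank_Ln hcd] at this
    rw [C.rank]
    omega
  have := hnt g c (fun v => by
    obtain ⟨p, hp, q, hq, rfl⟩ := Submodule.mem_sup.1 (htop ▸ Submodule.mem_top : v ∈ _ ⊔ _)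
    obtain ⟨t, rfl⟩ := Submodule.mem_span_singleton.1 hq
    have hgp : ρ g p = p := by
      rcases mem_Ln.1 hp with rfl | rfl | rfl | rfl
      exacts [map_zero _, g1, g2, by rw [map_add, g1, g2]]
    rcases z2_cases t with rfl | rfl
    · left; simp [hgp]
    · right; rw [one_smul, map_add, hgp, g3, add_assoc]) u
  exact hc (by simpa using g3.symm.trans this)

/-- Counting: the order of a two-transitive group. -/
theorem card_eq (C : Ctx ρ n) {c d : V} (hcd : Indep c d) :
    Nat.card G = (2 ^ n - 1) * (2 ^ n - 2) * Nat.card (stab2 ρ c d) := by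
  obtain ⟨h1, h2⟩ := index_stab2 C.two C.rank C.le hcd
  have h3 := Subgroup.relIndex_mul_index (show stab2 ρ c d ≤ stabP (toP ρ) c from inf_le_left)
  rw [h1, h2] at h3
  rw [← Subgroup.card_mul_index (stab2 ρ c d), ← h3]
  ring

end Cfsg.Agent.SingerOver
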