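import Cfsg.Agent.Lib.SingerOver.Move

/-!
The subspace `Zs c d` attached to a line: outside it the pointwise stabiliser of the line is transitive,
and the relation `u ∈ Zs c d` is symmetric and additive.
-/

set_option autoImplicit false
set_option linter.style.haveILetI false
set_option linter.unusedSectionVars false

namespace Cfsg.Agent.SingerOver

variable {G : Type*} [Group G] [Finite G] {V : Type*} [AddCommGroup V] [Module (ZMod 2) V] [Finite V]
  {ρ : G →* (V ≃ₗ[ZMod 2] V)}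

/-- `Z` is proper, contains the line, is invariant under the line stabiliser, and outside it the latter is
transitive. -/
def IsZ (ρ : G →* (V ≃ₗ[ZMod 2] V)) (L Z : Submodule (ZMod 2) V) : Prop :=
  L ≤ Z ∧ Z ≠ ⊤ ∧ (∀ g ∈ stabS ρ L, ∀ x ∈ Z, ρ g x ∈ Z) ∧
    ∀ u u', u ∉ Z → u' ∉ Z → ∃ g ∈ stabS ρ L, ρ g u = u'

theorem exists_not_mem_two {Z1 Z2 : Submodule (ZMod 2) V} (h1 : Z1 ≠ ⊤) (h2 : Z2 ≠ ⊤) :
    ∃ u, u ∉ Z1 ∧ u ∉ Z2 := by
  obtain ⟨a, -, ha⟩ := SetLike.exists_of_lt h1.lt_top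
  obtain ⟨b, -, hb⟩ := SetLike.exists_of_lt h2.lt_top
  by_cases ha2 : a ∈ Z2
  · by_cases hb1 : b ∈ Z1
    · exact ⟨a + b, fun h => ha ((add_mem_cancel_right hb1).1 h),
        fun h => hb ((add_mem_cancel_left ha2).1 h)⟩
    · exact ⟨b, hb1, hb⟩
  · exact ⟨a, ha, ha2⟩

omit [Finite G] in
theorem IsZ.unique {L Z1 Z2 : Submodule (ZMod 2) V} (h1 : IsZ ρ L Z1) (h2 : IsZ ρ L Z2) : Z1 = Z2 := by
  obtain ⟨w, w1, w2⟩ := exists_not_mem_two h1.2.1 h2.2.1
  refine le_antisymm (fun x hx => ?_) (fun x hx => ?_) <;> by_contra hc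
  · obtain ⟨g, hg, rfl⟩ := h2.2.2.2 w x w2 hc
    exact w1 (by simpa using h1.2.2.1 g⁻¹ (inv_mem hg) _ hx)
  · obtain ⟨g, hg, rfl⟩ := h1.2.2.2 w x w1 hc
    exact w2 (by simpa using h2.2.2.1 g⁻¹ (inv_mem hg) _ hx)

omit [Finite G] in
theorem IsZ.map {L Z : Submodule (ZMod 2) V} (h : IsZ ρ L Z) (g : G) :
    IsZ ρ (L.map (ρ g : V →ₗ[ZMod 2] V)) (Z.map (ρ g : V →ₗ[ZMod 2] V)) := by
  obtain ⟨h1, h2, h3, h4⟩ := h
  have hmem : ∀ (S : Submodule (ZMod 2) V) (x : V),
      x ∈ S.map (ρ g : V →ₗ[ZMod 2] V) ↔ ρ g⁻¹ x ∈ S := by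
    intro S x
    constructor
    · rintro ⟨y, hy, rfl⟩; simpa using hy
    · intro hx; exact ⟨_, hx, by simp⟩
  have hst : ∀ k ∈ stabS ρ (L.map (ρ g : V →ₗ[ZMod 2] V)), g⁻¹ * k * g ∈ stabS ρ L := by
    intro k hk
    refine mem_stabS_of_forall fun x hx => ?_
    have := stabS_apply hk (Submodule.mem_map_of_mem (f := (ρ g : V →ₗ[ZMod 2] V)) hx)
    rw [hmem] at this
    simpa using this
  refine ⟨Submodule.map_mono h1, fun e => h2 ?_, fun k hk x hx => ?_, fun u u' hu hu' => ?_⟩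
  · rw [eq_top_iff]
    intro x _
    have : ρ g x ∈ Z.map (ρ g : V →ₗ[ZMod 2] V) := e ▸ Submodule.mem_top
    rw [hmem] at this
    simpa using this
  · rw [hmem] at hx ⊢
    have := h3 _ (hst k hk) _ hx
    simpa using this
  · rw [hmem] at hu hu'
    obtain ⟨k, hk, hk'⟩ := h4 _ _ hu hu'
    refine ⟨g * k * g⁻¹, mem_stabS_of_forall fun x hx => ?_, ?_⟩
    · rw [hmem] at hx ⊢
      simpa using stabS_apply hk hx
    · rw [map_mul, map_mul, LinearEquiv.mul_apply, LinearEquiv.mul_apply, hk']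
      simp

/-- A line and a functional vanishing on it such that a `2`-subgroup is transitive off its kernel. -/
theorem Ctx.exists_isZ {n : ℕ} (C : Ctx ρ n) (h3 : 3 ≤ n) {c d : V} (hcd : Indep c d) :
    ∃ Z, IsZ ρ (Ln c d) Z := by
  classical
  haveI : Finite (Module.Dual (ZMod 2) V) := Module.finite_of_finite (ZMod 2)
  haveI : Fact (Nat.Prime 2) := ⟨Nat.prime_two⟩
  let π := toP ρ
  let K : Subgroup G :=
    { carrier := {g | (ρ g c = c ∧ ρ g d = d) ∨ (ρ g c = d ∧ ρ g d = c)}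
      one_mem' := .inl (by simp)
      mul_mem' := fun {a b} ha hb => by
        rcases ha with ⟨a1, a2⟩ | ⟨a1, a2⟩ <;> rcases hb with ⟨b1, b2⟩ | ⟨b1, b2⟩ <;>
          first
            | (refine Or.inl ⟨?_, ?_⟩ <;> simp [a1, a2, b1, b2]; done)
            | (refine Or.inr ⟨?_, ?_⟩ <;> simp [a1, a2, b1, b2]; done)
      inv_mem' := fun {a} ha => by
        rcases ha with ⟨a1, a2⟩ | ⟨a1, a2⟩
        · exact .inl ⟨by conv_lhs => rw [← a1]
                         simp, by conv_lhs => rw [← a2]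
                                  simp⟩
        · exact .inr ⟨by conv_lhs => rw [← a2]
                         simp, by conv_lhs => rw [← a1]
                                  simp⟩ }
  have hKodd : ¬ 2 ∣ K.index := by
    have h1 := (index_stab2 C.two C.rank C.le hcd)
    have hle : stab2 ρ c d ≤ K := fun g hg => .inl hg
    have h2 : (stab2 ρ c d).relIndex K = 2 := by
      have e1 : (stab2 ρ c d).subgroupOf K = stabP (π.comp K.subtype) c := by
        ext ⟨g, hg⟩
        constructor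
        · exact fun h => h.1
        · intro hh
          have hh' : ρ g c = c := hh
          rcases hg with hg | ⟨hg, -⟩
          · exact hg
          · exact absurd (hh'.symm.trans hg) hcd.2.2
      rw [Subgroup.relIndex, e1, ← card_orbit_mul]
      have e : {y : V | SameO (π.comp K.subtype) c y} = {c, d} := by
        ext y
        constructor
        · rintro ⟨⟨g, hg⟩, rfl⟩
          rcases hg with ⟨hg, -⟩ | ⟨hg, -⟩
          · exact .inl hg
          · exact .inr hg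
        · rintro (rfl | rfl)
          · exact ⟨1, by simp⟩
          · obtain ⟨g, g1, g2⟩ := C.two c y y c hcd hcd.swap
            exact ⟨⟨g, .inr ⟨g1, g2⟩⟩, g1⟩
      rw [show {y // SameO (π.comp K.subtype) c y} = ↥{y : V | SameO (π.comp K.subtype) c y} from rfl,
        e, Nat.card_coe_set_eq, Set.ncard_pair hcd.2.2]
    have h4 := Subgroup.relIndex_mul_index hle
    have h5 := Subgroup.relIndex_mul_index (show stab2 ρ c d ≤ stabP (toP ρ) c from inf_le_left)
    rw [h1.1, h1.2] at h5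
    rw [h2, ← h5] at h4
    have hpow : (2 : ℕ) ^ n - 2 = 2 * (2 ^ (n - 1) - 1) := by
      rw [Nat.mul_sub, ← pow_succ', show n - 1 + 1 = n by omega]
    rw [hpow, mul_assoc] at h4
    rw [Nat.eq_of_mul_eq_mul_left two_pos h4, Nat.prime_two.dvd_mul]
    have hA : (2 : ℕ) ^ (n - 1) = 2 * 2 ^ (n - 2) := by
      rw [← pow_succ', show n - 2 + 1 = n - 1 by omega]
    have hB : (2 : ℕ) ^ n = 2 * 2 ^ (n - 1) := by rw [← pow_succ', show n - 1 + 1 = n by omega]
    have := Nat.one_le_two_pow (n := n - 2)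
    omega
  let P : Sylow 2 K := default
  let P' : Subgroup G := (P : Subgroup K).map K.subtype
  have hP'odd : ¬ 2 ∣ P'.index := by
    rw [Subgroup.index_map_subtype, Nat.prime_two.dvd_mul, not_or]
    exact ⟨P.not_dvd_index, hKodd⟩
  have hP'K : P' ≤ K := Subgroup.map_subtype_le _
  have hKL : K ≤ stabS ρ (Ln c d) := by
    intro g hg
    rcases hg with ⟨g1, g2⟩ | ⟨g1, g2⟩
    · exact mem_stabS_Ln (g1.symm ▸ left_mem_Ln c d) (g2.symm ▸ right_mem_Ln c d)
    · exact mem_stabS_Ln (g1.symm ▸ right_mem_Ln c d) (g2.symm ▸ left_mem_Ln c d)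
  -- a fixed functional
  let α := {f : Module.Dual (ZMod 2) V // f ≠ 0 ∧ f c = 0 ∧ f d = 0}
  letI : MulAction (P : Subgroup K) α :=
    { smul := fun g f => ⟨dualRep ρ ((g : K) : G) f.1, (dualRep ρ _).map_ne_zero_iff.2 f.2.1, by
        have hg : ρ ((g : K) : G)⁻¹ c ∈ Ln c d := stabS_apply (inv_mem (hKL (g : K).2)) (left_mem_Ln c d)
        rw [dualRep_apply]
        rcases mem_Ln.1 hg with e | e | e | e <;> rw [e] <;> simp [f.2.2.1, f.2.2.2], by
        have hg : ρ ((g : K) : G)⁻¹ d ∈ Ln c d := stabS_apply (inv_mem (hKL (g : K).2)) (right_mem_Ln c d)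
        rw [dualRep_apply]
        rcases mem_Ln.1 hg with e | e | e | e <;> rw [e] <;> simp [f.2.2.1, f.2.2.2]⟩
      one_smul := fun f => Subtype.ext (by simp [HSMul.hSMul])
      mul_smul := fun g g' f => Subtype.ext (by simp [HSMul.hSMul]) }
  have hodd : ¬ 2 ∣ Nat.card α := by
    let φ : Module.Dual (ZMod 2) V →+ ZMod 2 × ZMod 2 :=
      AddMonoidHom.mk' (fun y => (y c, y d)) fun a b => rfl
    have hs : Function.Surjective φ := by
      have key : ∀ a b : V, Indep a b → ∃ f : Module.Dual (ZMod 2) V, f a = 1 ∧ f b = 0 := by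
        intro a b hab
        obtain ⟨f, hf, hf'⟩ := dual_sep (Submodule.span (ZMod 2) {b}) (x := a) (by
          rw [Submodule.mem_span_singleton]
          rintro ⟨t, ht⟩
          rcases z2_cases t with rfl | rfl
          · exact hab.1 (by simpa using ht.symm)
          · exact hab.2.2 (by simpa using ht.symm))
        exact ⟨f, hf, hf' b (Submodule.mem_span_singleton_self b)⟩
      obtain ⟨f1, a1, a2⟩ := key c d hcd
      obtain ⟨f2, b1, b2⟩ := key d c hcd.swap
      rintro ⟨a, b⟩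
      exact ⟨a • f1 + b • f2, by simp [φ, a1, a2, b1, b2]⟩
    have h0 := card_fibre φ hs 0
    rw [Nat.card_prod, Nat.card_zmod, Module.natCard_eq_pow_finrank (K := ZMod 2)
      (V := Module.Dual (ZMod 2) V), Subspace.dual_finrank_eq, C.rank, Nat.card_zmod] at h0
    have e : Nat.card α + 1 = Nat.card {x // φ x = 0} := by
      rw [show {x // φ x = 0} = ↥{x | φ x = 0} from rfl, Nat.card_coe_set_eq,
        show Nat.card α = ({x | φ x = 0} \ {0} : Set (Module.Dual (ZMod 2) V)).ncard from ?_,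
        Set.ncard_sdiff_singleton_add_one (by simp) (Set.toFinite _)]
      rw [← Nat.card_coe_set_eq]
      refine Nat.card_congr (Equiv.subtypeEquivRight fun x => ?_)
      simp [φ, Prod.ext_iff, and_comm]
    have hB : (2 : ℕ) ^ n = 2 ^ (n - 3) * 8 := by
      rw [show (8 : ℕ) = 2 ^ 3 by norm_num, ← pow_add, show n - 3 + 3 = n by omega]
    rw [hB] at h0
    omega
  obtain ⟨⟨f, hf0, hfc, hfd⟩, hffix⟩ :=
    P.isPGroup'.nonempty_fixed_point_of_prime_not_dvd_card (α := α) hodd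
  have hPf : P' ≤ stabP (toP (dualRep ρ)) f := by
    rintro _ ⟨g, hg, rfl⟩
    exact congrArg Subtype.val (hffix ⟨g, hg⟩)
  -- transitivity off the kernel of `f`
  have htr : ∀ x y, f x = 1 → f y = 1 → ∃ g ∈ P', ρ g x = y := by
    intro x y hx hy
    let Gf := stabP (toP (dualRep ρ)) f
    let τ := (toP ρ).comp Gf.subtype
    let M := P'.subgroupOf Gf
    have hinv : ∀ g : Gf, f (ρ g x) = 1 := by
      intro g
      rw [(dualRep_eq_iff ρ g f f).1 g.2 x, hx]
    have hcard : Nat.card {z // f z = 1} = 2 ^ (n - 1) := by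
      have hs : Function.Surjective (f : V →ₗ[ZMod 2] ZMod 2).toAddMonoidHom := by
        intro a
        rcases z2_cases a with rfl | rfl
        · exact ⟨0, map_zero f⟩
        · exact ⟨x, hx⟩
      have h1 : Nat.card {z // f z = 1} * 2 = 2 ^ n := by
        have := card_fibre _ hs 1
        rwa [Nat.card_zmod, Module.natCard_eq_pow_finrank (K := ZMod 2) (V := V), C.rank,
          Nat.card_zmod] at this
      rw [show n = n - 1 + 1 by omega, pow_succ] at h1
      omega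
    have hbig : Nat.card {z // SameO τ x z} = 2 ^ (n - 1) := by
      rw [← hcard]
      refine Nat.card_congr (Equiv.subtypeEquivRight fun z => ?_)
      constructor
      · rintro ⟨g, rfl⟩; exact hinv g
      · intro hz
        obtain ⟨g, g1, g2⟩ := antiflag C.two C.rank C.le hx hz
        exact ⟨⟨g, g2⟩, g1⟩
    have hd := orbit_dvd τ M x
    rw [hbig] at hd
    have hModd : ¬ 2 ∣ M.index := fun h => hP'odd (h.trans (by
      rw [show M.index = P'.relIndex Gf from rfl, ← Subgroup.relIndex_mul_index hPf]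
      exact dvd_mul_right _ _))
    have hd2 := (Nat.Coprime.pow_left (n - 1)
      (Nat.prime_two.coprime_iff_not_dvd.2 hModd)).dvd_of_dvd_mul_left hd
    obtain ⟨⟨g, hg⟩, hgy⟩ := sameO_of_dvd (τ.comp M.subtype) (fun z => f z = 1) x (fun g => hinv g.1)
      hcard.le hd2 y hy
    exact ⟨g, hg, hgy⟩
  let Z : Submodule (ZMod 2) V :=
    { carrier := {x | ∀ g ∈ stabS ρ (Ln c d), f (ρ g x) = 0}
      zero_mem' := fun g _ => by simp
      add_mem' := fun {a b} ha hb g hg => by simp [ha g hg, hb g hg]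
      smul_mem' := fun t a ha g hg => by simp [ha g hg] }
  have hz : ∀ a : ZMod 2, a ≠ 0 → a = 1 := fun a ha => (z2_cases a).resolve_left ha
  refine ⟨Z, ?_, fun e => ?_, fun g hg x hx k hk => ?_, fun u u' hu hu' => ?_⟩
  · intro x hx g hg
    rcases mem_Ln.1 (stabS_apply hg hx) with e | e | e | e <;> rw [e] <;> simp [hfc, hfd]
  · refine hf0 (LinearMap.ext fun x => ?_)
    have hx : x ∈ Z := e ▸ Submodule.mem_top
    simpa using hx 1 (one_mem _)
  · have := hx (k * g) (mul_mem hk hg)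
    simpa using this
  · simp only [Z, Submodule.mem_mk, AddSubmonoid.mem_mk, AddSubsemigroup.mem_mk, Set.mem_ofPred_eq,
      not_forall] at hu hu'
    obtain ⟨g, hg, hgu⟩ := hu
    obtain ⟨g', hg', hgu'⟩ := hu'
    obtain ⟨k, hk, hk'⟩ := htr _ _ (hz _ hgu) (hz _ hgu')
    refine ⟨g'⁻¹ * k * g, mul_mem (mul_mem (inv_mem hg') (hKL (hP'K hk))) hg, ?_⟩
    simp [hk']

open Classical in
/-- The subspace of a pair; the whole space for dependent pairs. -/
noncomputable def Zs (ρ : G →* (V ≃ₗ[ZMod 2] V)) (c d : V) : Submodule (ZMod 2) V :=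
  if h : Indep c d ∧ ∃ Z, IsZ ρ (Ln c d) Z then h.2.choose else ⊤

variable {n : ℕ}

/-- The setting in dimension at least three. -/
structure Ctx3 (ρ : G →* (V ≃ₗ[ZMod 2] V)) (n : ℕ) : Prop extends Ctx ρ n where
  three : 3 ≤ n

theorem Ctx3.isZ (C : Ctx3 ρ n) {c d : V} (hcd : Indep c d) : IsZ ρ (Ln c d) (Zs ρ c d) := by
  have h : Indep c d ∧ ∃ Z, IsZ ρ (Ln c d) Z := ⟨hcd, C.toCtx.exists_isZ C.three hcd⟩
  rw [Zs, dif_pos h]
  exact h.2.choose_spec

omit [Finite G] in
theorem Zs_of_not_indep {c d : V} (h : ¬ Indep c d) : Zs ρ c d = ⊤ := by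
  rw [Zs, dif_neg fun h' => h h'.1]

theorem Ctx3.Zs_map (C : Ctx3 ρ n) (g : G) (c d : V) :
    (Zs ρ c d).map (ρ g : V →ₗ[ZMod 2] V) = Zs ρ (ρ g c) (ρ g d) := by
  by_cases h : Indep c d
  · have h1 := (C.isZ h).map g
    have e : (Ln c d).map (ρ g : V →ₗ[ZMod 2] V) = Ln (ρ g c) (ρ g d) := by
      rw [Ln, Submodule.map_span, Set.image_pair]; rfl
    rw [e] at h1
    exact h1.unique (C.isZ (h.map _))
  · have h' : ¬ Indep (ρ g c) (ρ g d) := fun hc => h (by simpa using hc.map (ρ g).symm)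
    rw [Zs_of_not_indep h, Zs_of_not_indep h', Submodule.map_top]
    exact LinearMap.range_eq_top.2 (ρ g).surjective

theorem Ctx3.mem_map (C : Ctx3 ρ n) (g : G) {c d x : V} (hx : x ∈ Zs ρ c d) :
    ρ g x ∈ Zs ρ (ρ g c) (ρ g d) := C.Zs_map g c d ▸ Submodule.mem_map_of_mem hx

theorem Ctx3.mem_map_iff (C : Ctx3 ρ n) (g : G) {c d x : V} :
    ρ g x ∈ Zs ρ (ρ g c) (ρ g d) ↔ x ∈ Zs ρ c d := by
  refine ⟨fun h => ?_, C.mem_map g⟩
  simpa using C.mem_map g⁻¹ h

theorem Ctx3.Ln_le (C : Ctx3 ρ n) (c d : V) : Ln c d ≤ Zs ρ c d := by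
  by_cases h : Indep c d
  · exact (C.isZ h).1
  · rw [Zs_of_not_indep h]; exact le_top

theorem Ctx3.Zs_comm (C : Ctx3 ρ n) (c d : V) : Zs ρ c d = Zs ρ d c := by
  by_cases h : Indep c d
  · have e : Ln d c = Ln c d := by rw [Ln, Ln, Set.pair_comm]
    exact (C.isZ h).unique (e ▸ C.isZ h.swap)
  · rw [Zs_of_not_indep h, Zs_of_not_indep fun hc => h hc.swap]

theorem Ctx3.symm_left (C : Ctx3 ρ n) {c d u : V} (h : u ∈ Zs ρ c d) : c ∈ Zs ρ u d := by
  by_cases hud : Indep u d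
  swap
  · rw [Zs_of_not_indep hud]; trivial
  by_cases hc : c ∈ Ln u d
  · exact C.Ln_le _ _ hc
  obtain ⟨c0, c1, c2, c3⟩ := indep_of_notMem hc
  have hcd : Indep c d := ⟨c0, hud.2.1, c2⟩
  have hu : u ∉ Ln c d := by
    simp only [mem_Ln, not_or]
    refine ⟨hud.1, c1.symm, hud.2.2, fun e => c3 ?_⟩
    rw [e, add_assoc, ZModModule.add_self, add_zero]
  -- three moves give the transposition of `c` and `u`
  obtain ⟨g, gu, gd, gc⟩ := C.toCtx.move (c := u) (d := d) (u := c) hud hc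
  obtain ⟨m, mc, md, mu⟩ := C.toCtx.move (c := c) (d := d) (u := u) hcd hu
  have e1 : c + (u + c) = u := by rw [add_comm u c, ← add_assoc, ZModModule.add_self, zero_add]
  have e2 : u + (c + u) = c := by rw [add_comm c u, ← add_assoc, ZModModule.add_self, zero_add]
  have key : ∀ x, ρ (g * m * g) x = ρ g (ρ m (ρ g x)) := fun x => by simp
  have k1 : ρ (g * m * g) c = u := by rw [key, gc, map_add, mc, mu, e1, gu]
  have k2 : ρ (g * m * g) u = c := by rw [key, gu, mu, map_add, gu, gc, e2]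
  have k3 : ρ (g * m * g) d = d := by rw [key, gd, md, gd]
  have := C.mem_map (g * m * g) h
  rwa [k1, k2, k3] at this

theorem Ctx3.symm_right (C : Ctx3 ρ n) {c d u : V} (h : u ∈ Zs ρ c d) : d ∈ Zs ρ c u := by
  rw [C.Zs_comm] at h ⊢
  exact C.symm_left h

theorem Ctx3.add_right (C : Ctx3 ρ n) {c x y e : V} (hx : e ∈ Zs ρ c x) (hy : e ∈ Zs ρ c y) :
    e ∈ Zs ρ c (x + y) :=
  C.symm_right (add_mem (C.symm_right hx) (C.symm_right hy))

/-- The pointwise stabiliser of the pair is transitive off its subspace. -/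
theorem Ctx3.trans_off (C : Ctx3 ρ n) {c d u u' : V} (hcd : Indep c d) (hu : u ∉ Zs ρ c d)
    (hu' : u' ∉ Zs ρ c d) : ∃ g ∈ stab2 ρ c d, ρ g u = u' := by
  obtain ⟨g, hg, rfl⟩ := (C.isZ hcd).2.2.2 u u' hu hu'
  have hL : u ∉ Ln c d := fun h => hu (C.Ln_le _ _ h)
  obtain ⟨h, h1, h2, h3⟩ := C.toCtx.exists_fix_line hcd hL
    (hcd.map (ρ g⁻¹)) (stabS_apply (inv_mem hg) (left_mem_Ln c d))
    (stabS_apply (inv_mem hg) (right_mem_Ln c d))
  refine ⟨g * h, mem_stab2.2 ⟨?_, ?_⟩, ?_⟩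
  · simp [h2]
  · simp [h3]
  · simp [h1]

theorem Ctx3.finrank_eq (C : Ctx3 ρ n) {c d c' d' : V} (h : Indep c d) (h' : Indep c' d') :
    Module.finrank (ZMod 2) (Zs ρ c d) = Module.finrank (ZMod 2) (Zs ρ c' d') := by
  obtain ⟨g, rfl, rfl⟩ := C.two c d c' d' h h'
  rw [← C.Zs_map]
  exact (LinearEquiv.finrank_map_eq (ρ g) _).symm

end Cfsg.Agent.SingerOver
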